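import Cfsg.Agent.Lib.Suzuki.Struct

/-! The action of the Suzuki group on the ovoid: double transitivity, orders of stabilisers. -/

set_option autoImplicit false

namespace Cfsg.Agent.Lib.Suzuki

open Matrix
open scoped Pointwise

variable {F : Type*} [Field F] [Fintype F] {m : ℕ}

omit [Fintype F] in
theorem ovoid_cases (p : Cfsg.suzukiOvoid F m) :
    (p : Projectivization F (Fin 4 → F)) = pinf F ∨ ∃ x y : F, (p : Projectivization F (Fin 4 → F)) = pt m x y :=
  (mem_ovoid _).mp p.2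

/-- The parametrisation of the ovoid by `Option (F × F)`. -/
noncomputable def ovoidEquiv (F : Type*) [Field F] (m : ℕ) : Option (F × F) ≃ Cfsg.suzukiOvoid F m :=
  Equiv.ofBijective
    (fun o => match o with
      | none => ⟨pinf F, pinf_mem⟩
      | some (x, y) => ⟨pt m x y, pt_mem x y⟩)
    (by
      constructor
      · rintro (_ | ⟨x, y⟩) (_ | ⟨x', y'⟩) h
        · rfl
        · exact absurd (congrArg Subtype.val h).symm (pt_ne_pinf x' y')
        · exact absurd (congrArg Subtype.val h) (pt_ne_pinf x y)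
        · obtain ⟨rfl, rfl⟩ := pt_inj (congrArg Subtype.val h)
          rfl
      · rintro ⟨p, hp⟩
        rcases (mem_ovoid _).mp hp with rfl | ⟨x, y, rfl⟩
        · exact ⟨none, rfl⟩
        · exact ⟨some (x, y), rfl⟩)

theorem ovoid_card (m : ℕ) : Nat.card (Cfsg.suzukiOvoid F m) = Fintype.card F ^ 2 + 1 := by
  classical
  rw [← Nat.card_congr (ovoidEquiv F m)]
  rw [Nat.card_eq_fintype_card, Fintype.card_option, Fintype.card_prod]
  ring

/-! ### Elements of the abstract group -/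

/-- `U` as an element of the Suzuki group. -/
def uG (hF : Fintype.card F = 2 ^ (2 * m + 1)) (a b : F) : Cfsg.Sz F m := ⟨U m a b, U_mem hF a b⟩

/-- `T` as an element of the Suzuki group. -/
def tG (hF : Fintype.card F = 2 ^ (2 * m + 1)) (t : Fˣ) : Cfsg.Sz F m := ⟨T m t, T_mem hF t⟩

/-- `W` as an element of the Suzuki group. -/
def wG (hF : Fintype.card F = 2 ^ (2 * m + 1)) (hm : 1 ≤ m) : Cfsg.Sz F m := ⟨W F, W_mem hF hm⟩

variable (hF : Fintype.card F = 2 ^ (2 * m + 1)) (hm : 1 ≤ m)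

include hF

theorem uG_mul (a b c d : F) :
    uG hF a b * uG hF c d = uG hF (a + c) (b + d + a ^ (2 ^ (m + 1)) * c) :=
  Subtype.ext (U_mul hF a b c d)

theorem tG_mul (s t : Fˣ) : tG hF s * tG hF t = tG hF (s * t) := Subtype.ext (T_mul s t)

theorem tG_one : tG hF (1 : Fˣ) = 1 := Subtype.ext T_one

theorem tG_inv (t : Fˣ) : (tG hF t)⁻¹ = tG hF t⁻¹ := Subtype.ext (T_inv t)

theorem tG_inj {s t : Fˣ} (h : tG hF s = tG hF t) : s = t := T_inj hF (congrArg Subtype.val h)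

theorem uG_inj {a b a' b' : F} (h : uG hF a b = uG hF a' b') : a = a' ∧ b = b' :=
  U_inj hF (congrArg Subtype.val h)

include hm

theorem uG_zero : uG hF (0 : F) 0 = 1 := Subtype.ext (U_zero hm)

theorem uG_inv (a b : F) : (uG hF a b)⁻¹ = uG hF a (b + a ^ (2 ^ (m + 1)) * a) :=
  Subtype.ext (U_inv hF hm a b)

theorem wG_sq : wG hF hm * wG hF hm = 1 := Subtype.ext W_sq

theorem wG_inv : (wG hF hm)⁻¹ = wG hF hm := Subtype.ext W_inv

theorem wG_tG_wG (t : Fˣ) : wG hF hm * tG hF t * wG hF hm = tG hF t⁻¹ := Subtype.ext (W_T_W t)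

theorem bruhatG (g : Cfsg.Sz F m) :
    (∃ (a b : F) (t : Fˣ), g = uG hF a b * tG hF t) ∨
      ∃ (x y a b : F) (t : Fˣ), g = uG hF x y * wG hF hm * (uG hF a b * tG hF t) := by
  rcases bruhat hF hm g.2 with ⟨a, b, t, h⟩ | ⟨x, y, a, b, t, h⟩
  · exact Or.inl ⟨a, b, t, Subtype.ext h⟩
  · exact Or.inr ⟨x, y, a, b, t, Subtype.ext h⟩

omit hm in
theorem uG_smul_pt (a b x y : F) :
    uG hF a b • pt m x y = pt m (x + a) (y + a ^ (2 ^ (m + 1)) * x + b) := U_smul_pt hF a b x y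

omit hF hm in
theorem uG_smul_pinf (hF : Fintype.card F = 2 ^ (2 * m + 1)) (a b : F) :
    uG hF a b • pinf F = pinf F := U_smul_pinf a b

omit hm in
theorem tG_smul_pt (t : Fˣ) (x y : F) :
    tG hF t • pt m x y = pt m ((t : F) * x) ((t : F) ^ (2 ^ (m + 1) + 1) * y) := T_smul_pt hF t x y

omit hF hm in
theorem tG_smul_pinf (hF : Fintype.card F = 2 ^ (2 * m + 1)) (t : Fˣ) :
    tG hF t • pinf F = pinf F := T_smul_pinf t

theorem wG_smul_pinf : wG hF hm • pinf F = pt m (0 : F) 0 := W_smul_pinf hm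

theorem wG_smul_pt_zero : wG hF hm • pt m (0 : F) 0 = pinf F := W_smul_pt_zero hm

theorem wG_smul_pt {x y : F} (h : ¬ (x = 0 ∧ y = 0)) :
    wG hF hm • pt m x y = pt m (y / ovf m x y) (x / ovf m x y) := W_smul_pt hF hm h

omit hm in
theorem uG_smul_pt_zero (a b : F) : uG hF a b • pt m (0 : F) 0 = pt m a b := U_smul_pt_zero hF a b

omit hm in
theorem tG_smul_pt_zero (t : Fˣ) : tG hF t • pt m (0 : F) 0 = pt m (0 : F) 0 := by
  rw [tG_smul_pt hF]
  simp

/-- Characterisation of the point stabiliser. -/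
theorem fix_pinf_iff (g : Cfsg.Sz F m) :
    g • pinf F = pinf F ↔ ∃ (a b : F) (t : Fˣ), g = uG hF a b * tG hF t := by
  constructor
  · intro h
    obtain ⟨a, b, t, h1⟩ := exists_U_T hF hm g.2 h
    exact ⟨a, b, t, Subtype.ext h1⟩
  · rintro ⟨a, b, t, rfl⟩
    rw [mul_smul, tG_smul_pinf hF, uG_smul_pinf hF]

/-- Characterisation of the two-point stabiliser. -/
theorem fix_two_iff (g : Cfsg.Sz F m) :
    (g • pinf F = pinf F ∧ g • pt m (0 : F) 0 = pt m (0 : F) 0) ↔ ∃ t : Fˣ, g = tG hF t := by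
  constructor
  · rintro ⟨h1, h2⟩
    obtain ⟨t, h⟩ := eq_T_of_fix hF hm g.2 h1 h2
    exact ⟨t, Subtype.ext h⟩
  · rintro ⟨t, rfl⟩
    exact ⟨tG_smul_pinf hF t, tG_smul_pt_zero hF t⟩

/-- Every ovoid point is `(U W) • ∞` or `∞`. -/
theorem exists_smul_pinf {p : Projectivization F (Fin 4 → F)} (hp : p ∈ Cfsg.suzukiOvoid F m) :
    ∃ g : Cfsg.Sz F m, g • p = pinf F := by
  rcases (mem_ovoid _).mp hp with rfl | ⟨x, y, rfl⟩
  · exact ⟨1, one_smul _ _⟩
  · refine ⟨(uG hF x y * wG hF hm)⁻¹, ?_⟩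
    rw [inv_smul_eq_iff, mul_smul, wG_smul_pinf hF hm, uG_smul_pt_zero hF]

omit hm in
theorem smul_mem_ovoid (g : Cfsg.Sz F m) {p : Projectivization F (Fin 4 → F)}
    (hp : p ∈ Cfsg.suzukiOvoid F m) : g • p ∈ Cfsg.suzukiOvoid F m := ovoid_smul_ne hF g.2 hp

/-- Any two distinct ovoid points can be moved to `∞` and the zero point. -/
theorem exists_to_base {p r : Projectivization F (Fin 4 → F)} (hp : p ∈ Cfsg.suzukiOvoid F m)
    (hr : r ∈ Cfsg.suzukiOvoid F m) (hpr : p ≠ r) :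
    ∃ g : Cfsg.Sz F m, g • p = pinf F ∧ g • r = pt m (0 : F) 0 := by
  obtain ⟨g, hg⟩ := exists_smul_pinf hF hm hp
  have hmem := smul_mem_ovoid hF g hr
  rcases (mem_ovoid _).mp hmem with h4 | ⟨x, y, h4⟩
  · exfalso
    rw [← hg] at h4
    exact hpr (MulAction.injective g h4).symm
  · refine ⟨(uG hF x y)⁻¹ * g, ?_, ?_⟩
    · rw [mul_smul, hg, inv_smul_eq_iff, uG_smul_pinf hF]
    · rw [mul_smul, h4, inv_smul_eq_iff, uG_smul_pt_zero hF]

theorem exists_pair {p r p' r' : Projectivization F (Fin 4 → F)} (hp : p ∈ Cfsg.suzukiOvoid F m)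
    (hr : r ∈ Cfsg.suzukiOvoid F m) (hpr : p ≠ r) (hp' : p' ∈ Cfsg.suzukiOvoid F m)
    (hr' : r' ∈ Cfsg.suzukiOvoid F m) (hpr' : p' ≠ r') :
    ∃ g : Cfsg.Sz F m, g • p = p' ∧ g • r = r' := by
  obtain ⟨g, h1, h2⟩ := exists_to_base hF hm hp hr hpr
  obtain ⟨g', h3, h4⟩ := exists_to_base hF hm hp' hr' hpr'
  refine ⟨g'⁻¹ * g, ?_, ?_⟩
  · rw [mul_smul, h1, inv_smul_eq_iff, h3]
  · rw [mul_smul, h2, inv_smul_eq_iff, h4]

theorem two_trans : MulAction.IsMultiplyPretransitive (Cfsg.Sz F m) (Cfsg.suzukiOvoid F m) 2 := by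
  rw [MulAction.is_two_pretransitive_iff]
  rintro ⟨a, ha⟩ ⟨b, hb⟩ ⟨c, hc⟩ ⟨d, hd⟩ hab hcd
  have hab' : a ≠ b := fun h => hab (Subtype.ext h)
  have hcd' : c ≠ d := fun h => hcd (Subtype.ext h)
  obtain ⟨g, h1, h2⟩ := exists_pair hF hm ha hb hab' hc hd hcd'
  exact ⟨g, Subtype.ext h1, Subtype.ext h2⟩

/-- The orbit of infinity. -/
theorem orbit_pinf : MulAction.orbit (Cfsg.Sz F m) (pinf F) = Cfsg.suzukiOvoid F m := by
  ext p
  constructor
  · rintro ⟨g, rfl⟩
    exact smul_mem_ovoid hF g pinf_mem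
  · intro hp
    obtain ⟨g, hg⟩ := exists_smul_pinf hF hm hp
    exact ⟨g⁻¹, by
      show g⁻¹ • pinf F = p
      rw [← hg, inv_smul_smul]⟩

/-- The stabiliser of infinity is parametrised by `F × F × Fˣ`. -/
noncomputable def stabEquiv :
    F × F × Fˣ ≃ MulAction.stabilizer (Cfsg.Sz F m) (pinf F) :=
  Equiv.ofBijective
    (fun a => ⟨uG hF a.1 a.2.1 * tG hF a.2.2, by
      rw [MulAction.mem_stabilizer_iff]
      exact (fix_pinf_iff hF hm _).mpr ⟨_, _, _, rfl⟩⟩)
    (by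
      constructor
      · rintro ⟨a, b, t⟩ ⟨a', b', t'⟩ h
        have h1 := congrArg (fun z : MulAction.stabilizer (Cfsg.Sz F m) (pinf F) => ((z : Cfsg.Sz F m) : Matrix.SpecialLinearGroup (Fin 4) F)) h
        obtain ⟨rfl, rfl, rfl⟩ := UT_inj hF hm h1
        rfl
      · rintro ⟨g, hg⟩
        obtain ⟨a, b, t, rfl⟩ := (fix_pinf_iff hF hm g).mp hg
        exact ⟨(a, b, t), rfl⟩)

theorem card_stab :
    Nat.card (MulAction.stabilizer (Cfsg.Sz F m) (pinf F)) =
      (2 ^ (2 * m + 1)) ^ 2 * (2 ^ (2 * m + 1) - 1) := by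
  classical
  rw [← Nat.card_congr (stabEquiv hF hm)]
  rw [Nat.card_prod, Nat.card_prod, Nat.card_eq_fintype_card, Nat.card_eq_fintype_card,
    hF, Fintype.card_units, hF]
  ring

theorem card_Sz :
    Nat.card (Cfsg.Sz F m) =
      (2 ^ (2 * m + 1)) ^ 2 * ((2 ^ (2 * m + 1)) ^ 2 + 1) * (2 ^ (2 * m + 1) - 1) := by
  have h1 := Subgroup.card_mul_index (MulAction.stabilizer (Cfsg.Sz F m) (pinf F))
  rw [MulAction.index_stabilizer, orbit_pinf hF hm, card_stab hF hm] at h1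
  have h2 : (Cfsg.suzukiOvoid F m).ncard = (2 ^ (2 * m + 1)) ^ 2 + 1 := by
    rw [← Nat.card_coe_set_eq, ovoid_card m, hF]
  rw [h2] at h1
  rw [← h1]
  ring

/-- The two-point stabiliser is the multiplicative group. -/
noncomputable def twoStabEquiv :
    ↥(MulAction.stabilizer (Cfsg.Sz F m) (pinf F) ⊓
      MulAction.stabilizer (Cfsg.Sz F m) (pt m (0 : F) 0)) ≃* Fˣ :=
  (MulEquiv.ofBijective
    (MonoidHom.mk' (fun t : Fˣ => (⟨tG hF t, by
      rw [Subgroup.mem_inf, MulAction.mem_stabilizer_iff, MulAction.mem_stabilizer_iff]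
      exact (fix_two_iff hF hm _).mpr ⟨t, rfl⟩⟩ :
        ↥(MulAction.stabilizer (Cfsg.Sz F m) (pinf F) ⊓
          MulAction.stabilizer (Cfsg.Sz F m) (pt m (0 : F) 0))))
      (fun s t => Subtype.ext (tG_mul hF s t).symm))
    (by
      constructor
      · intro s t h
        exact tG_inj hF (congrArg Subtype.val h)
      · rintro ⟨g, hg⟩
        rw [Subgroup.mem_inf, MulAction.mem_stabilizer_iff, MulAction.mem_stabilizer_iff] at hg
        obtain ⟨t, rfl⟩ := (fix_two_iff hF hm g).mp hg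
        exact ⟨t, rfl⟩)).symm

/-- Elements fixing three ovoid points are trivial. -/
theorem fix_three {g : Cfsg.Sz F m} {a b c : Projectivization F (Fin 4 → F)}
    (ha : a ∈ Cfsg.suzukiOvoid F m) (hb : b ∈ Cfsg.suzukiOvoid F m) (hc : c ∈ Cfsg.suzukiOvoid F m)
    (hab : a ≠ b) (hbc : b ≠ c) (hac : a ≠ c) (h1 : g • a = a) (h2 : g • b = b) (h3 : g • c = c) :
    g = 1 := by
  obtain ⟨k, hk1, hk2⟩ := exists_to_base hF hm ha hb hab
  have hg : k * g * k⁻¹ = 1 := by
    set g' := k * g * k⁻¹ with hg'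
    have e1 : g' • pinf F = pinf F := by
      rw [← hk1, hg']
      simp only [mul_smul, inv_smul_smul, h1]
    have e2 : g' • pt m (0 : F) 0 = pt m (0 : F) 0 := by
      rw [← hk2, hg']
      simp only [mul_smul, inv_smul_smul, h2]
    obtain ⟨t, ht⟩ := (fix_two_iff hF hm g').mp ⟨e1, e2⟩
    have hmem := smul_mem_ovoid hF k hc
    have e3 : g' • (k • c) = k • c := by
      rw [hg']
      simp only [mul_smul, inv_smul_smul, h3]
    rcases (mem_ovoid _).mp hmem with h4 | ⟨x, y, h4⟩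
    · exfalso
      rw [← hk1] at h4
      exact hac (MulAction.injective k h4).symm
    · rw [h4, ht, tG_smul_pt hF] at e3
      obtain ⟨e5, e6⟩ := pt_inj e3
      have hnz : ¬ (x = 0 ∧ y = 0) := by
        rintro ⟨rfl, rfl⟩
        rw [← hk2] at h4
        exact hbc (MulAction.injective k h4).symm
      have ht1 : t = 1 := by
        apply Units.ext
        by_cases hx : x = 0
        · have hy : y ≠ 0 := fun hy => hnz ⟨hx, hy⟩
          have : (t : F) ^ (2 ^ (m + 1) + 1) = 1 := by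
            apply mul_right_cancel₀ hy
            rw [e6, one_mul]
          exact sg1_eq_one hF t.ne_zero this
        · apply mul_right_cancel₀ hx
          rw [e5, Units.val_one, one_mul]
      rw [ht, ht1, tG_one hF]
  have : g = k⁻¹ * (k * g * k⁻¹) * k := by group
  rw [this, hg]
  group

/-- An element of the Suzuki group acting trivially on the ovoid is trivial. -/
theorem faithful {g : Cfsg.Sz F m} (h : ∀ p ∈ Cfsg.suzukiOvoid F m, g • p = p) : g = 1 := by
  have h1 : pinf F ≠ pt m (0 : F) 0 := (pt_ne_pinf _ _).symm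
  have h2 : pt m (0 : F) 0 ≠ pt m (1 : F) 0 := by
    intro h3
    have := (pt_inj h3).1
    exact zero_ne_one this
  have h3 : pinf F ≠ pt m (1 : F) 0 := (pt_ne_pinf _ _).symm
  exact fix_three hF hm pinf_mem (pt_mem _ _) (pt_mem _ _) h1 h2 h3
    (h _ pinf_mem) (h _ (pt_mem _ _)) (h _ (pt_mem _ _))

end Cfsg.Agent.Lib.Suzuki
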