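import Cfsg.Agent.Lib.Suzuki.Part
import Cfsg.Prelude.Def_KGroupFacts

/-! Field automorphisms of the Suzuki group. -/

set_option autoImplicit false

namespace Cfsg.Agent.Lib.Suzuki

open Matrix

variable {F : Type*} [Field F] [Fintype F] {m : ℕ}
variable (hF : Fintype.card F = 2 ^ (2 * m + 1)) (hm : 1 ≤ m)

section field

/-- The entrywise action on `SL₄`. -/
def mapSL (φ : F ≃+* F) : Matrix.SpecialLinearGroup (Fin 4) F →* Matrix.SpecialLinearGroup (Fin 4) F :=
  Matrix.SpecialLinearGroup.map (φ : F →+* F)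

omit [Fintype F] in
theorem mapSL_coe (φ : F ≃+* F) (g : Matrix.SpecialLinearGroup (Fin 4) F) :
    (mapSL φ g).1 = g.1.map φ := rfl

include hF in
theorem mapSL_uG (φ : F ≃+* F) (a b : F) :
    mapSL φ ((uG hF a b : Cfsg.Sz F m) : Matrix.SpecialLinearGroup (Fin 4) F) = (uG hF (φ a) (φ b) : Cfsg.Sz F m) := by
  apply Subtype.ext
  show (Um m a b).map φ = Um m (φ a) (φ b)
  ext i j
  fin_cases i <;> fin_cases j <;> simp [Um, map_add, map_mul, map_pow]

include hF in
theorem mapSL_tG (φ : F ≃+* F) (t : Fˣ) :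
    mapSL φ ((tG hF t : Cfsg.Sz F m) : Matrix.SpecialLinearGroup (Fin 4) F) = (tG hF (Units.map (φ : F →* F) t) : Cfsg.Sz F m) := by
  apply Subtype.ext
  show (Tm m (t : F)).map φ = Tm m ((Units.map (φ : F →* F) t : Fˣ) : F)
  ext i j
  fin_cases i <;> fin_cases j <;> simp [Tm, map_mul, map_pow, map_inv₀]

include hF hm in
theorem mapSL_wG (φ : F ≃+* F) :
    mapSL φ ((wG hF hm : Cfsg.Sz F m) : Matrix.SpecialLinearGroup (Fin 4) F) = (wG hF hm : Cfsg.Sz F m) := by
  apply Subtype.ext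
  show (Wm F).map φ = Wm F
  ext i j
  fin_cases i <;> fin_cases j <;> simp [Wm]

include hF hm in
theorem mapSL_mem (φ : F ≃+* F) (g : Cfsg.Sz F m) :
    mapSL φ (g : Matrix.SpecialLinearGroup (Fin 4) F) ∈ Cfsg.Sz F m := by
  rcases bruhatG hF hm g with ⟨a, b, t, rfl⟩ | ⟨x, y, a, b, t, rfl⟩
  · rw [Subgroup.coe_mul, map_mul, mapSL_uG, mapSL_tG]
    exact Subgroup.mul_mem _ (Subtype.mem _) (Subtype.mem _)
  · simp only [Subgroup.coe_mul, map_mul, mapSL_uG, mapSL_tG, mapSL_wG]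
    exact Subgroup.mul_mem _ (Subgroup.mul_mem _ (Subtype.mem _) (Subtype.mem _))
      (Subgroup.mul_mem _ (Subtype.mem _) (Subtype.mem _))

/-- The field automorphism of the Suzuki group. -/
noncomputable def Gam (φ : F ≃+* F) : MulAut (Cfsg.Sz F m) where
  toFun g := ⟨mapSL φ g, mapSL_mem hF hm φ g⟩
  invFun g := ⟨mapSL φ.symm g, mapSL_mem hF hm φ.symm g⟩
  left_inv g := by
    apply Subtype.ext
    apply Subtype.ext
    show ((g : Matrix.SpecialLinearGroup (Fin 4) F).1.map φ).map φ.symm = _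
    ext i j
    simp
  right_inv g := by
    apply Subtype.ext
    apply Subtype.ext
    show ((g : Matrix.SpecialLinearGroup (Fin 4) F).1.map φ.symm).map φ = _
    ext i j
    simp
  map_mul' g h := by
    apply Subtype.ext
    exact map_mul (mapSL φ) _ _

theorem Gam_uG (φ : F ≃+* F) (a b : F) : Gam hF hm φ (uG hF a b) = uG hF (φ a) (φ b) :=
  Subtype.ext (mapSL_uG hF φ a b)

theorem Gam_tG (φ : F ≃+* F) (t : Fˣ) : Gam hF hm φ (tG hF t) = tG hF (Units.map (φ : F →* F) t) :=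
  Subtype.ext (mapSL_tG hF φ t)

theorem Gam_wG (φ : F ≃+* F) : Gam hF hm φ (wG hF hm) = wG hF hm :=
  Subtype.ext (mapSL_wG hF hm φ)

include hF hm in
/-- Automorphisms agreeing on the generators agree. -/
theorem aut_ext {α γ : MulAut (Cfsg.Sz F m)} (hu : ∀ a b, α (uG hF a b) = γ (uG hF a b))
    (ht : ∀ t, α (tG hF t) = γ (tG hF t)) (hw : α (wG hF hm) = γ (wG hF hm)) : α = γ := by
  ext g
  rcases bruhatG hF hm g with ⟨a, b, t, rfl⟩ | ⟨x, y, a, b, t, rfl⟩
  · rw [map_mul, map_mul, hu, ht]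
  · simp only [map_mul, hu, ht, hw]

end field

section reduction

/-- An automorphism preserves the standard Sylow subgroup. -/
def PresU (α : MulAut (Cfsg.Sz F m)) : Prop := ∀ x, x ∈ UU hF hm ↔ α x ∈ UU hF hm

include hF hm in
theorem presU_conj_of_mem {u : Cfsg.Sz F m} (hu : u ∈ UU hF hm) {α : MulAut (Cfsg.Sz F m)}
    (hα : PresU hF hm α) : PresU hF hm (MulAut.conj u * α) := by
  intro x
  rw [hα x]
  show α x ∈ UU hF hm ↔ u * α x * u⁻¹ ∈ UU hF hm
  generalize α x = y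
  constructor
  · intro h
    exact Subgroup.mul_mem _ (Subgroup.mul_mem _ hu h) (Subgroup.inv_mem _ hu)
  · intro h
    have e : y = u⁻¹ * (u * y * u⁻¹) * u := by group
    rw [e]
    exact Subgroup.mul_mem _ (Subgroup.mul_mem _ (Subgroup.inv_mem _ hu) h) hu

include hF hm in
theorem presU_conj_tG (t : Fˣ) {α : MulAut (Cfsg.Sz F m)}
    (hα : PresU hF hm α) : PresU hF hm (MulAut.conj (tG hF t) * α) := by
  intro x
  rw [hα x]
  show α x ∈ UU hF hm ↔ tG hF t * α x * (tG hF t)⁻¹ ∈ UU hF hm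
  generalize α x = y
  constructor
  · intro h
    exact conj_mem_UU hF hm (tG_mem_BB hF hm t) h
  · intro h
    have := conj_mem_UU hF hm (tG_mem_BB hF hm t⁻¹) h
    have e : tG hF t⁻¹ * (tG hF t * y * (tG hF t)⁻¹) * (tG hF t⁻¹)⁻¹ = y := by
      rw [← tG_inv hF]
      group
    rwa [e] at this

include hF hm in
/-- Any automorphism can be corrected to preserve the standard Sylow subgroup. -/
theorem exists_conj_U (α : MulAut (Cfsg.Sz F m)) : ∃ g : Cfsg.Sz F m, PresU hF hm (MulAut.conj g * α) := by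
  haveI := finite_Sz hF hm
  let H : Subgroup (Cfsg.Sz F m) := (UU hF hm).map α.toMonoidHom
  have hp : IsPGroup 2 H := (isPGroup_UU hF hm).map α.toMonoidHom
  obtain ⟨P, hP⟩ := hp.exists_le_sylow
  have hcard : Nat.card H = Nat.card (P : Subgroup (Cfsg.Sz F m)) := by
    rw [(sylow_struct hF hm P).1, ← card_UU hF hm]
    exact Nat.card_congr (Subgroup.equivMapOfInjective _ _ α.injective).toEquiv.symm
  have he : H = (P : Subgroup (Cfsg.Sz F m)) := Subgroup.eq_of_le_of_card_ge hP (le_of_eq hcard.symm)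
  obtain ⟨k, hk⟩ := exists_conj hF hm P
  refine ⟨k⁻¹, ?_⟩
  intro x
  show x ∈ UU hF hm ↔ k⁻¹ * α x * k⁻¹⁻¹ ∈ UU hF hm
  rw [inv_inv, ← hk, ← he]
  constructor
  · intro h
    exact ⟨x, h, rfl⟩
  · rintro ⟨y, hy, e⟩
    have : y = x := α.injective e
    rwa [← this]

include hF hm in
/-- Preserving `U` implies preserving `B`. -/
theorem presU_pinf {α : MulAut (Cfsg.Sz F m)} (hα : PresU hF hm α) (x : Cfsg.Sz F m) :
    x • pinf F = pinf F ↔ α x • pinf F = pinf F := by
  have h1 : ∀ y : Cfsg.Sz F m, y • pinf F = pinf F ↔ y ∈ Subgroup.normalizer (UU hF hm : Set (Cfsg.Sz F m)) := by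
    intro y
    rw [normalizer_UU hF hm]
    exact MulAction.mem_stabilizer_iff.symm
  rw [h1, h1, Subgroup.mem_normalizer_iff, Subgroup.mem_normalizer_iff]
  constructor
  · intro h z
    obtain ⟨y, rfl⟩ := α.surjective z
    rw [← hα y, h y, hα, map_mul, map_mul, map_inv]
  · intro h z
    have h3 := h (α z)
    rw [← hα z, ← map_inv, ← map_mul, ← map_mul, ← hα] at h3
    exact h3

include hF hm in
theorem presU_pinf_eq {α : MulAut (Cfsg.Sz F m)} (hα : PresU hF hm α) {g h : Cfsg.Sz F m}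
    (e : g • pinf F = h • pinf F) : α g • pinf F = α h • pinf F := by
  have h1 : (h⁻¹ * g) • pinf F = pinf F := by
    rw [mul_smul, e, inv_smul_smul]
  have h3 := (presU_pinf hF hm hα _).mp h1
  rw [map_mul, map_inv, mul_smul, inv_smul_eq_iff] at h3
  exact h3

include hF hm in
/-- An element of `B` outside `U` has an affine fixed point. -/
theorem exists_affine_fix (a b : F) {t : Fˣ} (ht : t ≠ 1) :
    ∃ x y : F, (uG hF a b * tG hF t) • pt m x y = pt m x y := by
  have h2 := two_zero hF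
  have hne1 : (t : F) + 1 ≠ 0 := by
    intro h
    apply ht
    apply Units.ext
    rw [Units.val_one]
    grind
  have hne2 : (t : F) ^ (2 ^ (m + 1) + 1) + 1 ≠ 0 := by
    intro h
    apply ht
    apply Units.ext
    apply sg1_eq_one hF t.ne_zero
    grind
  set x := a / ((t : F) + 1) with hx
  set y := (a ^ (2 ^ (m + 1)) * ((t : F) * x) + b) / ((t : F) ^ (2 ^ (m + 1) + 1) + 1) with hy
  refine ⟨x, y, ?_⟩
  rw [mul_smul, tG_smul_pt hF, uG_smul_pt hF]
  congr 1
  · rw [hx]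
    field_simp
    grind
  · have : y * ((t : F) ^ (2 ^ (m + 1) + 1) + 1) = a ^ (2 ^ (m + 1)) * ((t : F) * x) + b := by
      rw [hy]
      field_simp
    grind

include hF hm in
/-- Elements of `T` with `t ≠ 1` are not in `U`. -/
theorem tG_not_mem_UU {t : Fˣ} (ht : t ≠ 1) : tG hF t ∉ UU hF hm := by
  intro h
  have h1 : tG hF t ≠ 1 := by
    intro e
    apply ht
    apply tG_inj hF
    rw [e, tG_one]
  exact uG_fix_pt hF hm h h1 (tG_smul_pt_zero hF t)

include hF hm in
/-- The correction on the torus. -/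
theorem exists_conj_T {α : MulAut (Cfsg.Sz F m)} (hα : PresU hF hm α) :
    ∃ u : Cfsg.Sz F m, PresU hF hm (MulAut.conj u * α) ∧ ∀ t : Fˣ, ∃ t' : Fˣ, (MulAut.conj u * α) (tG hF t) = tG hF t' := by
  obtain ⟨t₀, ht₀⟩ := exists_unit_ne_one hF hm
  have hB := (presU_pinf hF hm hα (tG hF t₀)).mp (tG_smul_pinf hF t₀)
  obtain ⟨a, b, r, e⟩ := (fix_pinf_iff hF hm _).mp hB
  have hr : r ≠ 1 := by
    rintro rfl
    rw [tG_one, mul_one] at e
    apply tG_not_mem_UU hF hm ht₀
    rw [hα, e]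
    exact uG_mem hF hm a b
  obtain ⟨x, y, hxy⟩ := exists_affine_fix hF hm a b hr
  have hu : (uG hF x y)⁻¹ ∈ UU hF hm := Subgroup.inv_mem _ (uG_mem hF hm x y)
  refine ⟨(uG hF x y)⁻¹, presU_conj_of_mem hF hm hu hα, ?_⟩
  set β := MulAut.conj (uG hF x y)⁻¹ * α with hβ
  have hβ1 : β (tG hF t₀) = (uG hF x y)⁻¹ * α (tG hF t₀) * ((uG hF x y)⁻¹)⁻¹ := rfl
  have h5 : β (tG hF t₀) • pinf F = pinf F := by
    rw [hβ1, e]
    simp only [mul_smul, inv_inv, uG_smul_pinf hF, tG_smul_pinf hF]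
    rw [inv_smul_eq_iff, uG_smul_pinf hF]
  have h6 : β (tG hF t₀) • pt m (0 : F) 0 = pt m (0 : F) 0 := by
    rw [hβ1, e, inv_inv, mul_smul, mul_smul, uG_smul_pt_zero hF, hxy, inv_smul_eq_iff, uG_smul_pt_zero hF]
  obtain ⟨s, hs⟩ := (fix_two_iff hF hm _).mp ⟨h5, h6⟩
  have hs1 : s ≠ 1 := by
    rintro rfl
    rw [tG_one, map_eq_one_iff _ β.injective] at hs
    apply ht₀
    apply tG_inj hF
    rw [hs, tG_one]
  intro t
  have hc : β (tG hF t) * tG hF s = tG hF s * β (tG hF t) := by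
    rw [← hs, ← map_mul, ← map_mul, tG_mul, tG_mul, mul_comm]
  obtain ⟨t', ht'⟩ := centralizer_tG hF hm hs1 hc
  exact ⟨t', ht'.symm⟩

include hF hm in
/-- The correction on the Weyl element. -/
theorem exists_conj_w {α : MulAut (Cfsg.Sz F m)} (hα : PresU hF hm α)
    (hT : ∀ t : Fˣ, ∃ t' : Fˣ, α (tG hF t) = tG hF t') :
    ∃ r : Fˣ, (MulAut.conj (tG hF r) * α) (wG hF hm) = wG hF hm := by
  obtain ⟨t₀, ht₀⟩ := exists_unit_ne_one hF hm
  obtain ⟨t₁, ht₁⟩ := hT t₀
  have ht₁1 : t₁ ≠ 1 := by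
    rintro rfl
    rw [tG_one, map_eq_one_iff _ α.injective] at ht₁
    apply ht₀
    apply tG_inj hF
    rw [ht₁, tG_one]
  set y := α (wG hF hm) with hy
  have hrel : y * tG hF t₁ = tG hF t₁⁻¹ * y := by
    have h1 : wG hF hm * tG hF t₀ = tG hF t₀⁻¹ * wG hF hm := by
      have := tG_wG hF hm t₀⁻¹
      rw [inv_inv] at this
      exact this.symm
    have h3 := congrArg α h1
    rw [map_mul, map_mul, ← tG_inv hF, map_inv, ht₁, tG_inv hF] at h3
    exact h3
  have hfix : ∀ p : Projectivization F (Fin 4 → F), tG hF t₁ • p = p → tG hF t₁⁻¹ • (y • p) = y • p := by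
    intro p hp
    rw [← mul_smul, ← hrel, mul_smul, hp]
  have ht₂ : t₁⁻¹ ≠ 1 := inv_ne_one.mpr ht₁1
  have h0 : pt m (0 : F) 0 ≠ pinf F := pt_ne_pinf _ _
  have hy1 : y • pinf F = pt m (0 : F) 0 := by
    rcases tG_fix_cases hF hm ht₂ (smul_mem_ovoid hF y (pinf_mem (m := m))) (hfix _ (tG_smul_pinf hF t₁)) with h | h
    · exfalso
      apply wG_not_mem_BB hF hm
      rw [MulAction.mem_stabilizer_iff]
      exact (presU_pinf hF hm hα _).mpr h
    · exact h
  have hy2 : y • pt m (0 : F) 0 = pinf F := by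
    rcases tG_fix_cases hF hm ht₂ (smul_mem_ovoid hF y (pt_mem (m := m) (0 : F) 0)) (hfix _ (tG_smul_pt_zero hF t₁)) with h | h
    · exact h
    · exfalso
      exact h0.symm (MulAction.injective y (hy1.trans h.symm))
  have hz1 : (wG hF hm * y) • pinf F = pinf F := by
    rw [mul_smul, hy1, wG_smul_pt_zero hF hm]
  have hz2 : (wG hF hm * y) • pt m (0 : F) 0 = pt m (0 : F) 0 := by
    rw [mul_smul, hy2, wG_smul_pinf hF hm]
  obtain ⟨s, hs⟩ := (fix_two_iff hF hm _).mp ⟨hz1, hz2⟩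
  have hys : y = wG hF hm * tG hF s := by
    rw [← hs, ← mul_assoc, wG_sq, one_mul]
  obtain ⟨r, hr⟩ := sq_surj hF (s : F)
  have hr0 : r ≠ 0 := by
    rintro rfl
    rw [zero_pow two_ne_zero] at hr
    exact s.ne_zero hr.symm
  refine ⟨Units.mk0 r hr0, ?_⟩
  show tG hF (Units.mk0 r hr0) * y * (tG hF (Units.mk0 r hr0))⁻¹ = wG hF hm
  have e : tG hF (Units.mk0 r hr0) * (wG hF hm * tG hF s) * (tG hF (Units.mk0 r hr0))⁻¹ =
      wG hF hm * (tG hF (Units.mk0 r hr0)⁻¹ * tG hF s * tG hF (Units.mk0 r hr0)⁻¹) := by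
    rw [tG_inv hF, ← mul_assoc (tG hF (Units.mk0 r hr0)), tG_wG hF hm]
    simp only [mul_assoc]
  rw [hys, e, tG_mul, tG_mul]
  have hunit : (Units.mk0 r hr0)⁻¹ * s * (Units.mk0 r hr0)⁻¹ = 1 := by
    apply Units.ext
    simp only [Units.val_mul, Units.val_inv_eq_inv_val, Units.val_mk0, Units.val_one]
    rw [← hr]
    field_simp
  rw [hunit, tG_one, mul_one]

/-- The normal form: an automorphism preserving `U`, mapping `T` to itself and fixing the Weyl element
is a field automorphism. -/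
theorem normal_form {α : MulAut (Cfsg.Sz F m)} (hα : PresU hF hm α)
    (hT : ∀ t : Fˣ, ∃ t' : Fˣ, α (tG hF t) = tG hF t') (hw : α (wG hF hm) = wG hF hm) :
    ∃ φ : F ≃+* F, α = Gam hF hm φ := by
  have h2 := two_zero hF
  choose β hβ using hT
  have hUmem : ∀ a b : F, ∃ A B : F, α (uG hF a b) = uG hF A B := fun a b => by
    obtain ⟨A, B, e⟩ := (mem_UU hF hm).mp ((hα _).mp (uG_mem hF hm a b))
    exact ⟨A, B, e⟩
  choose A B hAB using hUmem
  have hsq0 : ∀ b, A 0 b = 0 := by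
    intro b
    have h1 : uG hF (0 : F) b * uG hF (0 : F) b = 1 := (sq_one_iff hF hm 0 b).mpr rfl
    have h3 := congrArg α h1
    rw [map_mul, map_one, hAB] at h3
    exact (sq_one_iff hF hm _ _).mp h3
  obtain ⟨d, hd'⟩ : ∃ d : F → F, ∀ a, d a = A a 0 := ⟨_, fun _ => rfl⟩
  obtain ⟨e, he'⟩ : ∃ e : F → F, ∀ a, e a = B a 0 := ⟨_, fun _ => rfl⟩
  obtain ⟨γ, hγ'⟩ : ∃ γ : F → F, ∀ b, γ b = B 0 b := ⟨_, fun _ => rfl⟩
  have hd : ∀ a, α (uG hF a 0) = uG hF (d a) (e a) := fun a => by rw [hAB, hd', he']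
  have hγ : ∀ b, α (uG hF 0 b) = uG hF 0 (γ b) := fun b => by rw [hAB, hsq0, hγ']
  have hR2 : ∀ a x, d (a + x) = d a + d x ∧
      e a + e x + (d a) ^ (2 ^ (m + 1)) * d x = e (a + x) + γ (a ^ (2 ^ (m + 1)) * x) := by
    intro a x
    have h1 : uG hF a 0 * uG hF x 0 = uG hF (a + x) 0 * uG hF 0 (a ^ (2 ^ (m + 1)) * x) := by
      rw [uG_mul, uG_mul]
      congr 1 <;> simp
    have h3 := congrArg α h1
    rw [map_mul, map_mul, hd, hd, hd, hγ, uG_mul, uG_mul] at h3
    obtain ⟨h4, h5⟩ := uG_inj hF h3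
    exact ⟨by simpa using h4.symm, by simpa using h5⟩
  have hR3 : ∀ (t : Fˣ) (a : F), d (t * a) = β t * d a ∧ e (t * a) = (β t : F) ^ (2 ^ (m + 1) + 1) * e a := by
    intro t a
    have h1 := tG_conj hF hm t a 0
    have h3 := congrArg α h1
    rw [map_mul, map_mul, map_inv, hβ, hd, tG_conj hF hm, mul_zero, hd] at h3
    obtain ⟨h4, h5⟩ := uG_inj hF h3
    exact ⟨h4.symm, h5.symm⟩
  have hR4 : ∀ a, γ (a ^ (2 ^ (m + 1)) * a) = (d a) ^ (2 ^ (m + 1)) * d a := by
    intro a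
    have h1 := uG_sq hF a 0
    have h3 := congrArg α h1
    rw [map_mul, hd, uG_sq hF, hγ] at h3
    exact (uG_inj hF h3).2.symm
  have hc : d 1 ≠ 0 := by
    intro h0
    have h1 : uG hF (1 : F) 0 * uG hF (1 : F) 0 = 1 := by
      apply α.injective
      rw [map_mul, hd, map_one, h0]
      exact (sq_one_iff hF hm 0 _).mpr rfl
    exact one_ne_zero ((sq_one_iff hF hm 1 0).mp h1)
  obtain ⟨c, hcdef⟩ : ∃ c, c = d 1 := ⟨_, rfl⟩
  rw [← hcdef] at hc
  have hd0 : d 0 = 0 := by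
    have := (hR2 0 0).1
    simpa using this
  have hf_add : ∀ a x, c⁻¹ * d (a + x) = c⁻¹ * d a + c⁻¹ * d x := by
    intro a x
    rw [(hR2 a x).1]
    ring
  have hf_unit : ∀ t : Fˣ, c⁻¹ * d (t : F) = (β t : F) := by
    intro t
    have := (hR3 t 1).1
    rw [mul_one, ← hcdef] at this
    rw [this]
    field_simp
  have hf_mul : ∀ a x, c⁻¹ * d (a * x) = (c⁻¹ * d a) * (c⁻¹ * d x) := by
    intro a x
    by_cases ha : a = 0
    · subst ha
      simp [hd0]
    · have h1 := (hR3 (Units.mk0 a ha) x).1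
      rw [Units.val_mk0] at h1
      have h3 := hf_unit (Units.mk0 a ha)
      rw [Units.val_mk0] at h3
      rw [h3, h1]
      ring
  have hf_one : c⁻¹ * d 1 = 1 := by
    rw [← hcdef]
    exact inv_mul_cancel₀ hc
  let φ₀ : F →+* F :=
    { toFun := fun a => c⁻¹ * d a
      map_one' := hf_one
      map_mul' := hf_mul
      map_zero' := by simp [hd0]
      map_add' := hf_add }
  have hbij : Function.Bijective φ₀ := ⟨φ₀.injective, Finite.surjective_of_injective φ₀.injective⟩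
  let φ : F ≃+* F := RingEquiv.ofBijective φ₀ hbij
  have hφ : ∀ a, φ a = c⁻¹ * d a := fun a => rfl
  have hdφ : ∀ a, d a = c * φ a := by
    intro a
    rw [hφ]
    field_simp
  have hγφ : ∀ x, γ x = c ^ (2 ^ (m + 1) + 1) * φ x := by
    intro x
    by_cases hx : x = 0
    · subst hx
      have h1 := hγ 0
      rw [uG_zero hF hm, map_one, ← uG_zero hF hm] at h1
      have := (uG_inj hF h1).2
      rw [map_zero, mul_zero]
      exact this.symm
    · obtain ⟨a, -, hax⟩ := sg1_surj hF hx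
      have h3 := hR4 a
      have e1 : a ^ (2 ^ (m + 1)) * a = x := by
        rw [← hax]
        ring
      rw [e1] at h3
      rw [h3, hdφ, ← hax, map_pow]
      ring
  have he_add : ∀ a x, e (a + x) = e a + e x := by
    intro a x
    have h5 := (hR2 a x).2
    rw [hγφ, hdφ a, hdφ x, map_mul, map_pow, mul_pow] at h5
    have h6 : (c ^ (2 ^ (m + 1)) * (φ a) ^ (2 ^ (m + 1))) * (c * φ x) =
        c ^ (2 ^ (m + 1) + 1) * ((φ a) ^ (2 ^ (m + 1)) * φ x) := by ring
    rw [h6] at h5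
    exact (add_right_cancel h5).symm
  have he0 : e 0 = 0 := by
    have := he_add 0 0
    simpa using this
  have he_val : ∀ a, e a = (φ a) ^ (2 ^ (m + 1) + 1) * e 1 := by
    intro a
    by_cases ha : a = 0
    · subst ha
      rw [he0, map_zero, zero_pow (by positivity), zero_mul]
    · have h1 := (hR3 (Units.mk0 a ha) 1).2
      rw [Units.val_mk0, mul_one] at h1
      have h3 := hf_unit (Units.mk0 a ha)
      rw [Units.val_mk0] at h3
      rw [h1, ← h3, hφ]
  obtain ⟨X, hX⟩ : ∃ X : F, X ^ (2 ^ (m + 1)) ≠ X := by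
    by_contra hall
    push Not at hall
    obtain ⟨t, ht⟩ := exists_unit_ne_one hF hm
    rcases sg_fix hF (hall t) with h | h
    · exact t.ne_zero h
    · exact ht (Units.ext h)
  obtain ⟨X', hX'⟩ := φ.surjective X
  have he1 : e 1 = 0 := by
    have h1 := he_add 1 X'
    have v1 := he_val (1 + X')
    have v2 := he_val X'
    rw [map_add, map_one, hX'] at v1
    rw [hX'] at v2
    have hpow : ∀ z : F, z ^ (2 ^ (m + 1) + 1) = z ^ (2 ^ (m + 1)) * z := fun z => pow_succ _ _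
    rw [v1, v2, hpow, hpow, sg_add hF, one_pow] at h1
    generalize X ^ (2 ^ (m + 1)) = Y at *
    generalize e 1 = E at *
    have h3 : (X + Y) * E = 0 := by
      linear_combination h1
    rcases mul_eq_zero.mp h3 with h4 | h4
    · exfalso
      apply hX
      grind
    · exact h4
  have he00 : ∀ a, e a = 0 := by
    intro a
    rw [he_val, he1, mul_zero]
  have hfull : ∀ a b, α (uG hF a b) = uG hF (c * φ a) (c ^ (2 ^ (m + 1) + 1) * φ b) := by
    intro a b
    have h1 : uG hF a b = uG hF a 0 * uG hF 0 b := by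
      rw [uG_mul]
      congr 1 <;> simp
    rw [h1, map_mul, hd, hγ, uG_mul, he00, hγφ, hdφ]
    congr 1 <;> simp
  have hφ1 : φ 1 = 1 := map_one φ
  -- the relation through the Weyl element
  have hovf : ovf m (1 : F) 1 = 1 := by
    simp only [ovf, one_pow, mul_one]
    grind
  have hrel : (wG hF hm * uG hF 1 1 * wG hF hm) • pinf F = (uG hF 1 1 * wG hF hm) • pinf F := by
    simp only [mul_smul]
    rw [wG_smul_pinf hF hm, uG_smul_pt_zero hF, wG_smul_pt hF hm (by simp), hovf]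
    simp
  have hrel2 := presU_pinf_eq hF hm hα hrel
  simp only [map_mul, hw, hfull, hφ1, mul_one, mul_smul] at hrel2
  rw [wG_smul_pinf hF hm, uG_smul_pt_zero hF] at hrel2
  rw [wG_smul_pt hF hm (fun h => hc h.1)] at hrel2
  obtain ⟨h5, h6⟩ := pt_inj hrel2
  set f := ovf m c (c ^ (2 ^ (m + 1) + 1)) with hf
  set C := c ^ (2 ^ (m + 1) + 1) with hC
  have hf0 : f ≠ 0 := by
    intro h0
    rw [h0, div_zero] at h5
    exact hc h5.symm
  have e5 : C = c * f := by
    field_simp at h5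
    linear_combination h5
  have e6 : c = C * f := by
    field_simp at h6
    linear_combination h6
  have hff : f ^ 2 = 1 := by
    have : c * (f ^ 2) = c * 1 := by
      rw [mul_one]
      calc c * f ^ 2 = (c * f) * f := by ring
        _ = C * f := by rw [e5]
        _ = c := e6.symm
    exact mul_left_cancel₀ hc this
  have hf1 : f = 1 := sq_one_char2 h2 hff
  have hCc : C = c := by rw [e5, hf1, mul_one]
  have hc1 : c = 1 := by
    have h7 : c ^ (2 ^ (m + 1)) * c = 1 * c := by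
      rw [one_mul, ← pow_succ]
      exact hCc
    have h8 := mul_right_cancel₀ hc h7
    apply sg_inj hF
    rw [h8, one_pow]
  refine ⟨φ, aut_ext hF hm ?_ ?_ ?_⟩
  · intro a b
    rw [hfull, Gam_uG, hCc, hc1, one_mul, one_mul]
  · intro t
    rw [hβ, Gam_tG]
    congr 1
    apply Units.ext
    have h3 := hf_unit t
    rw [← h3]
    rfl
  · rw [hw, Gam_wG]

include hF hm in
/-- The normal form of an arbitrary automorphism. -/
theorem aut_normal (α : MulAut (Cfsg.Sz F m)) :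
    ∃ (g : Cfsg.Sz F m) (φ : F ≃+* F), MulAut.conj g * α = Gam hF hm φ := by
  obtain ⟨g₁, h₁⟩ := exists_conj_U hF hm α
  obtain ⟨u, h₂, hT⟩ := exists_conj_T hF hm h₁
  obtain ⟨r, hr⟩ := exists_conj_w hF hm h₂ hT
  have h₃ := presU_conj_tG hF hm r h₂
  obtain ⟨φ, hφ⟩ := normal_form hF hm h₃ (by
    intro t
    obtain ⟨t', ht'⟩ := hT t
    refine ⟨t', ?_⟩
    change tG hF r * (MulAut.conj u * (MulAut.conj g₁ * α)) (tG hF t) * (tG hF r)⁻¹ = _
    rw [ht', tG_inv hF, tG_mul, tG_mul, mul_comm, ← mul_assoc, inv_mul_cancel, one_mul]) hr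
  refine ⟨tG hF r * (u * g₁), φ, ?_⟩
  rw [← hφ, map_mul, map_mul, mul_assoc, mul_assoc]

include hF hm in
/-- A field automorphism which is inner modulo another is that other. -/
theorem Gam_inj {φ ψ : F ≃+* F} {h : Cfsg.Sz F m} (e : Gam hF hm φ = MulAut.conj h * Gam hF hm ψ) : φ = ψ := by
  have hu : ∀ a b, uG hF (φ a) (φ b) = h * uG hF (ψ a) (ψ b) * h⁻¹ := by
    intro a b
    have := DFunLike.congr_fun e (uG hF a b)
    rw [Gam_uG] at this
    rw [this]
    show h * (Gam hF hm ψ (uG hF a b)) * h⁻¹ = _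
    rw [Gam_uG]
  have ht : ∀ t, tG hF (Units.map (φ : F →* F) t) = h * tG hF (Units.map (ψ : F →* F) t) * h⁻¹ := by
    intro t
    have := DFunLike.congr_fun e (tG hF t)
    rw [Gam_tG] at this
    rw [this]
    show h * (Gam hF hm ψ (tG hF t)) * h⁻¹ = _
    rw [Gam_tG]
  have h1 : h • pinf F = pinf F := by
    have e1 := hu 1 0
    rw [map_one, map_one, map_zero, map_zero] at e1
    have hne : uG hF (1 : F) 0 ≠ 1 := by
      rw [← uG_zero hF hm]
      intro e2
      exact one_ne_zero (uG_inj hF e2).1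
    have hfix : uG hF (1 : F) 0 • (h • pinf F) = h • pinf F := by
      rw [e1]
      simp only [mul_smul, inv_smul_smul]
      rw [uG_smul_pinf hF]
    rcases (mem_ovoid _).mp (smul_mem_ovoid hF h (pinf_mem (m := m))) with h3 | ⟨x, y, h3⟩
    · exact h3
    · rw [h3] at hfix
      exact absurd hfix (uG_fix_pt hF hm (uG_mem hF hm _ _) hne)
  obtain ⟨t₀, ht₀⟩ := exists_unit_ne_one hF hm
  have ht₁ : Units.map (φ : F →* F) t₀ ≠ 1 := by
    intro e1
    apply ht₀
    apply Units.ext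
    have := congrArg Units.val e1
    simp only [Units.coe_map, Units.val_one] at this
    apply φ.injective
    rw [Units.val_one, map_one]
    exact this
  have h3 : h • pt m (0 : F) 0 = pt m (0 : F) 0 := by
    have hfix : tG hF (Units.map (φ : F →* F) t₀) • (h • pt m (0 : F) 0) = h • pt m (0 : F) 0 := by
      rw [ht t₀]
      simp only [mul_smul, inv_smul_smul]
      rw [tG_smul_pt_zero hF]
    rcases tG_fix_cases hF hm ht₁ (smul_mem_ovoid hF h (pt_mem (m := m) (0 : F) 0)) hfix with h4 | h4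
    · exfalso
      exact (pt_ne_pinf (m := m) (0 : F) 0) (MulAction.injective h (h4.trans h1.symm))
    · exact h4
  obtain ⟨r, rfl⟩ := (fix_two_iff hF hm h).mp ⟨h1, h3⟩
  ext a
  by_cases ha : a = 0
  · subst ha
    simp
  · have h5 := ht (Units.mk0 a ha)
    rw [tG_inv hF, tG_mul, tG_mul, mul_comm, ← mul_assoc, inv_mul_cancel, one_mul] at h5
    have h6 := congrArg Units.val (tG_inj hF h5)
    simpa using h6

end reduction

section outer

theorem card_gal_Sz (hF : Fintype.card F = 2 ^ (2 * m + 1)) : Nat.card (F ≃+* F) = 2 * m + 1 := by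
  haveI := charP_two hF
  let _ := ZMod.algebra F 2
  let e : (F ≃+* F) ≃ (F ≃ₐ[ZMod 2] F) :=
    { toFun := fun σ => AlgEquiv.ofRingEquiv (f := σ) (fun r => by
        have : (σ : F →+* F).comp (algebraMap (ZMod 2) F) = algebraMap (ZMod 2) F := Subsingleton.elim _ _
        exact RingHom.congr_fun this r)
      invFun := fun τ => τ.toRingEquiv
      left_inv := fun σ => by ext; rfl
      right_inv := fun τ => by ext; rfl }
  have h1 : Nat.card (F ≃ₐ[ZMod 2] F) = Module.finrank (ZMod 2) F := by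
    have := Nat.card_congr (Equiv.ofBijective _ (FiniteField.bijective_frobeniusAlgEquivOfAlgebraic_pow (ZMod 2) F))
    simpa using this.symm
  have h2 : Module.finrank (ZMod 2) F = 2 * m + 1 := by
    have h3 := Module.card_eq_pow_finrank (K := ZMod 2) (V := F)
    rw [ZMod.card, hF] at h3
    exact (Nat.pow_right_injective (le_refl 2) h3).symm
  rw [Nat.card_congr e, h1, h2]

include hF hm in
theorem card_out_Sz : Nat.card (Cfsg.Out (Cfsg.Sz F m)) = 2 * m + 1 := by
  let Ψ : (F ≃+* F) → Cfsg.Out (Cfsg.Sz F m) := fun φ => QuotientGroup.mk (Gam hF hm φ)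
  have hinj : Function.Injective Ψ := by
    intro φ ψ h
    have h1 : (Gam hF hm φ) * (Gam hF hm ψ)⁻¹ ∈ Cfsg.Inn (Cfsg.Sz F m) := by
      have : (QuotientGroup.mk ((Gam hF hm φ) * (Gam hF hm ψ)⁻¹) : Cfsg.Out (Cfsg.Sz F m)) = 1 := by
        rw [QuotientGroup.mk_mul, QuotientGroup.mk_inv]
        show Ψ φ * (Ψ ψ)⁻¹ = 1
        rw [h, mul_inv_cancel]
      exact (QuotientGroup.eq_one_iff _).mp this
    obtain ⟨k, hk⟩ := h1
    apply Gam_inj hF hm (h := k)
    have hk' : MulAut.conj k = (Gam hF hm φ) * (Gam hF hm ψ)⁻¹ := hk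
    rw [hk', inv_mul_cancel_right]
  have hsurj : Function.Surjective Ψ := by
    intro x
    obtain ⟨α, rfl⟩ := QuotientGroup.mk_surjective x
    obtain ⟨g, φ, h⟩ := aut_normal hF hm α
    refine ⟨φ, ?_⟩
    show QuotientGroup.mk (Gam hF hm φ) = _
    rw [← h, QuotientGroup.mk_mul]
    have : (QuotientGroup.mk (MulAut.conj g) : Cfsg.Out (Cfsg.Sz F m)) = 1 :=
      (QuotientGroup.eq_one_iff _).mpr ⟨g, rfl⟩
    rw [this, one_mul]
  rw [← Nat.card_congr (Equiv.ofBijective Ψ ⟨hinj, hsurj⟩), card_gal_Sz hF]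

omit hF hm [Field F] [Fintype F] in
/-- `Out` is an isomorphism invariant. -/
theorem card_out_congr {A B : Type*} [Group A] [Group B] (e : A ≃* B) :
    Nat.card (Cfsg.Out A) = Nat.card (Cfsg.Out B) := by
  refine Nat.card_congr (QuotientGroup.congr (Cfsg.Inn A) (Cfsg.Inn B) (MulAut.congr e) ?_).toEquiv
  ext β
  constructor
  · rintro ⟨_, ⟨g, rfl⟩, rfl⟩
    refine ⟨e g, ?_⟩
    ext x
    show e g * x * (e g)⁻¹ = e (g * e.symm x * g⁻¹)
    simp
  · rintro ⟨h, rfl⟩
    refine ⟨MulAut.conj (e.symm h), ⟨_, rfl⟩, ?_⟩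
    ext x
    show e (e.symm h * e.symm x * (e.symm h)⁻¹) = h * x * h⁻¹
    simp

include hF hm in
theorem card_out_lie : Nat.card (Cfsg.Out (Cfsg.Lie.Sz F (2 ^ (m + 1)))) = 2 * m + 1 := by
  rw [← card_out_congr (szEquiv hF hm), card_out_Sz hF hm]

end outer

end Cfsg.Agent.Lib.Suzuki
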