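import Mathlib
import Cfsg.Prelude.Def_LieExceptional

/-! Explicit coordinates for the Suzuki group as the stabiliser of the Suzuki-Tits ovoid:
field arithmetic for the twist `x ↦ x ^ 2 ^ (m + 1)`, the affine parametrisation of the ovoid,
the matrices `U`, `T`, `W` and their actions on the ovoid. -/

set_option autoImplicit false

namespace Cfsg.Agent.Lib.Suzuki

open Matrix

section Field

variable {F : Type*} [Field F] [Fintype F] {m : ℕ}

theorem two_zero (hF : Fintype.card F = 2 ^ (2 * m + 1)) : (2 : F) = 0 := by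
  have h := Nat.cast_card_eq_zero F
  rw [hF] at h
  push_cast at h
  exact pow_eq_zero_iff (by omega) |>.mp h

theorem charP_two (hF : Fintype.card F = 2 ^ (2 * m + 1)) : CharP F 2 :=
  CharTwo.of_one_ne_zero_of_two_eq_zero one_ne_zero (two_zero hF)

theorem sg_add (hF : Fintype.card F = 2 ^ (2 * m + 1)) (x y : F) :
    (x + y) ^ (2 ^ (m + 1)) = x ^ (2 ^ (m + 1)) + y ^ (2 ^ (m + 1)) := by
  haveI := charP_two hF
  haveI : Fact (Nat.Prime 2) := ⟨Nat.prime_two⟩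
  exact add_pow_char_pow (p := 2) (n := m + 1) x y

theorem sg_sg (hF : Fintype.card F = 2 ^ (2 * m + 1)) (x : F) :
    (x ^ (2 ^ (m + 1))) ^ (2 ^ (m + 1)) = x ^ 2 := by
  rw [← pow_mul]
  have : 2 ^ (m + 1) * 2 ^ (m + 1) = 2 ^ (2 * m + 1) * 2 := by ring
  rw [this, pow_mul, ← hF, FiniteField.pow_card]

theorem sg_mul (x y : F) : (x * y) ^ (2 ^ (m + 1)) = x ^ (2 ^ (m + 1)) * y ^ (2 ^ (m + 1)) :=
  mul_pow x y _

theorem sg_inj (hF : Fintype.card F = 2 ^ (2 * m + 1)) {x y : F}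
    (h : x ^ (2 ^ (m + 1)) = y ^ (2 ^ (m + 1))) : x = y := by
  have h2 := two_zero hF
  have h3 : (x + y) ^ (2 ^ (m + 1)) = 0 := by
    rw [sg_add hF, h]
    grind
  have h4 : x + y = 0 := pow_eq_zero_iff (by positivity) |>.mp h3
  grind

theorem sg_surj (hF : Fintype.card F = 2 ^ (2 * m + 1)) (y : F) :
    ∃ x : F, x ^ (2 ^ (m + 1)) = y := by
  have hinj : Function.Injective (fun x : F => x ^ (2 ^ (m + 1))) := fun a b h => sg_inj hF h
  exact (Finite.injective_iff_surjective.mp hinj) y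

theorem sq_inj (hF : Fintype.card F = 2 ^ (2 * m + 1)) {x y : F} (h : x ^ 2 = y ^ 2) : x = y := by
  have h1 := sg_sg hF x
  have h2 := sg_sg hF y
  rw [← h1, ← h2] at h
  exact sg_inj hF (sg_inj hF h)

theorem sq_surj (hF : Fintype.card F = 2 ^ (2 * m + 1)) (y : F) : ∃ x : F, x ^ 2 = y := by
  obtain ⟨a, ha⟩ := sg_surj hF y
  obtain ⟨b, hb⟩ := sg_surj hF a
  refine ⟨b, ?_⟩
  rw [← sg_sg hF, hb, ha]

/-- `t ↦ t ^ (σ + 1)` is injective on the non-zero field elements. -/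
theorem sg1_eq_one (hF : Fintype.card F = 2 ^ (2 * m + 1)) {t : F} (ht : t ≠ 0)
    (h : t ^ (2 ^ (m + 1) + 1) = 1) : t = 1 := by
  have h1 : t ^ (2 ^ (m + 1)) * t = 1 := by rw [← h]; ring
  have h2 : (t ^ (2 ^ (m + 1)) * t) ^ (2 ^ (m + 1)) = 1 := by rw [h1, one_pow]
  rw [sg_mul, sg_sg hF] at h2
  have h3 : t ^ (2 ^ (m + 1)) = t⁻¹ := eq_inv_of_mul_eq_one_left h1
  rw [h3] at h2
  have h4 : t⁻¹ * t = 1 := inv_mul_cancel₀ ht
  -- `t ^ 2 * t ^ σ = 1` and `t * t ^ σ = 1`.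
  have h5 : t ^ 2 * t⁻¹ = t := by field_simp
  grind

theorem sg1_inj (hF : Fintype.card F = 2 ^ (2 * m + 1)) {s t : F} (hs : s ≠ 0) (ht : t ≠ 0)
    (h : s ^ (2 ^ (m + 1) + 1) = t ^ (2 ^ (m + 1) + 1)) : s = t := by
  have h1 : (s / t) ^ (2 ^ (m + 1) + 1) = 1 := by
    rw [div_pow, h, div_self (pow_ne_zero _ ht)]
  have h2 := sg1_eq_one hF (div_ne_zero hs ht) h1
  field_simp at h2
  exact h2

theorem sg1_surj (hF : Fintype.card F = 2 ^ (2 * m + 1)) {z : F} (hz : z ≠ 0) :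
    ∃ t : F, t ≠ 0 ∧ t ^ (2 ^ (m + 1) + 1) = z := by
  haveI : Finite Fˣ := inferInstance
  have hinj : Function.Injective (fun t : Fˣ => t ^ (2 ^ (m + 1) + 1)) := by
    intro a b hab
    apply Units.ext
    apply sg1_inj hF a.ne_zero b.ne_zero
    have := congrArg (fun u : Fˣ => (u : F)) hab
    simpa using this
  obtain ⟨t, ht⟩ := (Finite.injective_iff_surjective.mp hinj) (Units.mk0 z hz)
  refine ⟨t, t.ne_zero, ?_⟩
  have := congrArg (fun u : Fˣ => (u : F)) ht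
  simpa using this

/-- A non-zero element fixed by the twist is `1`. -/
theorem sg_fix (hF : Fintype.card F = 2 ^ (2 * m + 1)) {x : F} (h : x ^ (2 ^ (m + 1)) = x) :
    x = 0 ∨ x = 1 := by
  have h1 := sg_sg hF x
  rw [h, h] at h1
  have h2 : x * (x - 1) = 0 := by
    have : x ^ 2 = x := h1.symm
    grind
  rcases mul_eq_zero.mp h2 with h3 | h3
  · exact Or.inl h3
  · exact Or.inr (sub_eq_zero.mp h3)

theorem sg_one : (1 : F) ^ (2 ^ (m + 1)) = 1 := one_pow _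

theorem sg_zero : (0 : F) ^ (2 ^ (m + 1)) = 0 := zero_pow (by positivity)

theorem four_root (hF : Fintype.card F = 2 ^ (2 * m + 1)) {z : F} (h : z ^ 4 = 1) : z = 1 := by
  have h2 := two_zero hF
  have h3 : (z ^ 2) ^ 2 = 1 ^ 2 := by rw [one_pow, ← h]; ring
  have h4 := sq_inj hF h3
  have h5 : z ^ 2 = 1 ^ 2 := by rw [h4, one_pow]
  exact sq_inj hF h5

theorem sig_lt_card (hm : 1 ≤ m) : 2 ^ (m + 1) + 2 < 2 ^ (2 * m + 1) := by
  obtain ⟨k, rfl⟩ : ∃ k, m = k + 1 := ⟨m - 1, by omega⟩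
  have h1 : 2 ^ (2 * (k + 1) + 1) = 2 ^ (k + 2) * 2 ^ (k + 1) := by ring
  have h2 : 2 ≤ 2 ^ (k + 1) := by
    have : 2 ^ (k + 1) = 2 * 2 ^ k := by ring
    have : 1 ≤ 2 ^ k := Nat.one_le_two_pow
    omega
  have h3 : 4 ≤ 2 ^ (k + 2) := by
    have : 2 ^ (k + 2) = 4 * 2 ^ k := by ring
    have : 1 ≤ 2 ^ k := Nat.one_le_two_pow
    omega
  rw [h1]
  have h4 : 2 ^ (k + 2) * 2 ≤ 2 ^ (k + 2) * 2 ^ (k + 1) := Nat.mul_le_mul_left _ h2
  have h5 : 2 ^ (k + 1 + 1) = 2 ^ (k + 2) := rfl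
  rw [h5]
  omega

theorem four_le_sig (hm : 1 ≤ m) : 4 ≤ 2 ^ (m + 1) := by
  obtain ⟨k, rfl⟩ : ∃ k, m = k + 1 := ⟨m - 1, by omega⟩
  have : 2 ^ (k + 1 + 1) = 4 * 2 ^ k := by ring
  have : 1 ≤ 2 ^ k := Nat.one_le_two_pow
  omega

/-- Polynomial identity principle in the shape needed for the ovoid: the five monomials
`1, x, x², x^σ, x^(σ+2)` are independent as functions on the field. -/
theorem five_coeffs (hF : Fintype.card F = 2 ^ (2 * m + 1)) (hm : 1 ≤ m) (c₀ c₁ c₂ c₃ c₄ : F)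
    (h : ∀ x : F, c₀ + c₁ * x + c₂ * x ^ 2 + c₃ * x ^ (2 ^ (m + 1)) + c₄ * x ^ (2 ^ (m + 1) + 2) = 0) :
    c₀ = 0 ∧ c₁ = 0 ∧ c₂ = 0 ∧ c₃ = 0 ∧ c₄ = 0 := by
  classical
  set s := 2 ^ (m + 1) with hs
  have hs4 : 4 ≤ s := four_le_sig hm
  have hlt : s + 2 < 2 ^ (2 * m + 1) := sig_lt_card hm
  let P : Polynomial F := Polynomial.C c₀ + Polynomial.C c₁ * Polynomial.X +
    Polynomial.C c₂ * Polynomial.X ^ 2 + Polynomial.C c₃ * Polynomial.X ^ s +
    Polynomial.C c₄ * Polynomial.X ^ (s + 2)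
  have hdeg : P.natDegree ≤ s + 2 := by
    apply Polynomial.natDegree_le_iff_coeff_eq_zero.mpr
    intro N hN
    simp only [P, Polynomial.coeff_add, Polynomial.coeff_C_mul, Polynomial.coeff_X_pow,
      Polynomial.coeff_C, Polynomial.coeff_X]
    have h1 : N ≠ 0 := by omega
    have h2 : ¬ (1 = N) := by omega
    have h3 : N ≠ 2 := by omega
    have h4 : N ≠ s := by omega
    have h5 : N ≠ s + 2 := by omega
    simp [h1, h2, h3, h4, h5]
  have hP : P = 0 := by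
    apply Polynomial.eq_zero_of_natDegree_lt_card_of_eval_eq_zero P (f := fun x : F => x)
      Function.injective_id
    · intro x
      simp only [P, Polynomial.eval_add, Polynomial.eval_mul, Polynomial.eval_C, Polynomial.eval_X,
        Polynomial.eval_pow]
      exact h x
    · rw [hF]
      omega
  have hc : ∀ N, P.coeff N = 0 := fun N => by rw [hP, Polynomial.coeff_zero]
  have e0 := hc 0
  have e1 := hc 1
  have e2 := hc 2
  have e3 := hc s
  have e4 := hc (s + 2)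
  simp only [P, Polynomial.coeff_add, Polynomial.coeff_C_mul, Polynomial.coeff_X_pow,
    Polynomial.coeff_C, Polynomial.coeff_X] at e0 e1 e2 e3 e4
  have h01 : (0 : ℕ) ≠ 2 := by omega
  have n1 : (1:ℕ) ≠ 2 := by omega
  have ns0 : s ≠ 0 := by omega
  have ns1 : ¬ (1 = s) := by omega
  have ns2 : s ≠ 2 := by omega
  have n0s : (0:ℕ) ≠ s := by omega
  have n1s : (1:ℕ) ≠ s := by omega
  have n2s : (2:ℕ) ≠ s := by omega
  have n0s2 : (0:ℕ) ≠ s + 2 := by omega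
  have n1s2 : (1:ℕ) ≠ s + 2 := by omega
  have n2s2 : (2:ℕ) ≠ s + 2 := by omega
  have ns2' : s ≠ s + 2 := by omega
  have ns3 : s + 2 ≠ 0 := by omega
  have ns4 : ¬ (1 = s + 2) := by omega
  have ns5 : s + 2 ≠ 2 := by omega
  simp [h01, n1, ns0, ns1, ns2, n0s, n1s, n2s, n0s2, n1s2, n2s2, ns2', ns3, ns4, ns5] at e0 e1 e2 e3 e4
  exact ⟨e0, e1, e2, e3, e4⟩

end Field

end Cfsg.Agent.Lib.Suzuki
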