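import Cfsg.Agent.Lib.Suzuki.Cyc

/-! The Suzuki group is a CN-group with cyclic odd Sylow subgroups. -/

set_option autoImplicit false

namespace Cfsg.Agent.Lib.Suzuki

open Matrix

theorem nilpotent_of_comm {G : Type*} [Group G] (h : ∀ a b : G, a * b = b * a) : Group.IsNilpotent G := by
  letI : CommGroup G := { (inferInstance : Group G) with mul_comm := h }
  infer_instance

theorem nilpotent_of_cyclic {G : Type*} [Group G] [IsCyclic G] : Group.IsNilpotent G := by
  letI : CommGroup G := IsCyclic.commGroup
  infer_instance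

variable {F : Type*} [Field F] [Fintype F] {m : ℕ}
variable (hF : Fintype.card F = 2 ^ (2 * m + 1)) (hm : 1 ≤ m)

/-- The torus is cyclic. -/
theorem cyclic_TT : IsCyclic (TT hF) := by
  exact isCyclic_of_surjective (MonoidHom.mk' (tG hF) (fun s t => (tG_mul hF s t).symm)).rangeRestrict
    (MonoidHom.rangeRestrict_surjective _)

include hF hm

/-- The centraliser of a derangement is cyclic. -/
theorem cyclic_centralizer {x : Cfsg.Sz F m} (hx : Der x) :
    IsCyclic (Subgroup.centralizer ({x} : Set (Cfsg.Sz F m))) :=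
  cyclic_centralizer_aux (E := AlgebraicClosure F) hF hm hx

omit hF hm [Fintype F] in
/-- Conjugates and commutation. -/
theorem conj_commute {k g y : Cfsg.Sz F m} (h : y * g = g * y) :
    (k * y * k⁻¹) * (k * g * k⁻¹) = (k * g * k⁻¹) * (k * y * k⁻¹) := by
  have e1 : (k * y * k⁻¹) * (k * g * k⁻¹) = k * (y * g) * k⁻¹ := by group
  have e2 : (k * g * k⁻¹) * (k * y * k⁻¹) = k * (g * y) * k⁻¹ := by group
  rw [e1, e2, h]

/-- The Suzuki group is a CN-group. -/
theorem isCN : Cfsg.IsCNGroup (Cfsg.Sz F m) := by
  haveI := finite_Sz hF hm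
  intro g hg
  by_cases hder : Der g
  · haveI := cyclic_centralizer hF hm hder
    exact nilpotent_of_cyclic
  · unfold Der at hder
    push Not at hder
    obtain ⟨p, hp, hfix⟩ := hder
    obtain ⟨k, h | ⟨t, h⟩⟩ := trichotomy hF hm hp hfix
    · obtain ⟨a, b, h⟩ := h
      have hne : uG hF a b ≠ 1 := by
        rw [← h]
        intro e
        apply hg
        have : g = k⁻¹ * (k * g * k⁻¹) * k := by group
        rw [this, e]
        group
      have hP : IsPGroup 2 (Subgroup.centralizer ({g} : Set (Cfsg.Sz F m))) := by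
        rintro ⟨y, hy⟩
        have hc : y * g = g * y := Subgroup.mem_centralizer_singleton_iff.mp hy
        have h1 := conj_commute (k := k) hc
        rw [h] at h1
        obtain ⟨c, d, hcd⟩ := centralizer_uG hF hm hne h1
        refine ⟨2, ?_⟩
        apply Subtype.ext
        show y ^ (2 ^ 2) = 1
        have h3 : (k * y * k⁻¹) ^ (2 ^ 2) = 1 := by
          rw [hcd]
          exact uG_pow_four hF hm c d
        have h4 : (k * y * k⁻¹) ^ (2 ^ 2) = k * y ^ (2 ^ 2) * k⁻¹ := by
          exact conj_pow
        rw [h4] at h3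
        have h5 : y ^ 2 ^ 2 = k⁻¹ * (k * y ^ 2 ^ 2 * k⁻¹) * k := by group
        rw [h5, h3]
        group
      exact hP.isNilpotent
    · have ht : t ≠ 1 := by
        rintro rfl
        rw [tG_one hF] at h
        apply hg
        have : g = k⁻¹ * (k * g * k⁻¹) * k := by group
        rw [this, h]
        group
      apply nilpotent_of_comm
      rintro ⟨y, hy⟩ ⟨z, hz⟩
      apply Subtype.ext
      have hc : y * g = g * y := Subgroup.mem_centralizer_singleton_iff.mp hy
      have hd : z * g = g * z := Subgroup.mem_centralizer_singleton_iff.mp hz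
      have h1 := conj_commute (k := k) hc
      have h3 := conj_commute (k := k) hd
      rw [h] at h1 h3
      obtain ⟨s, hs⟩ := centralizer_tG hF hm ht h1
      obtain ⟨u, hu⟩ := centralizer_tG hF hm ht h3
      show y * z = z * y
      have h4 : (k * y * k⁻¹) * (k * z * k⁻¹) = (k * z * k⁻¹) * (k * y * k⁻¹) := by
        rw [← hs, ← hu]
        show tG hF s * tG hF u = tG hF u * tG hF s
        rw [tG_mul hF, tG_mul hF, mul_comm]
      have e1 : (k * y * k⁻¹) * (k * z * k⁻¹) = k * (y * z) * k⁻¹ := by group
      have e2 : (k * z * k⁻¹) * (k * y * k⁻¹) = k * (z * y) * k⁻¹ := by group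
      rw [e1, e2] at h4
      exact mul_left_cancel (mul_right_cancel h4)

/-- Sylow subgroups for odd primes are cyclic. -/
theorem sylow_cyclic {p : ℕ} [Fact p.Prime] (hp2 : p ≠ 2) (P : Sylow p (Cfsg.Sz F m)) : IsCyclic P := by
  haveI := finite_Sz hF hm
  by_cases htriv : Nontrivial P
  swap
  · haveI : Subsingleton P := not_nontrivial_iff_subsingleton.mp htriv
    exact isCyclic_of_subsingleton
  haveI := P.isPGroup'.center_nontrivial
  obtain ⟨⟨⟨x, hxP⟩, hxc⟩, hx1⟩ := exists_ne (1 : Subgroup.center P)
  have hx1' : x ≠ 1 := fun h => hx1 (Subtype.ext (Subtype.ext h))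
  have hcomm : ∀ y ∈ (P : Subgroup (Cfsg.Sz F m)), y * x = x * y := by
    intro y hy
    have := (Subgroup.mem_center_iff.mp hxc) ⟨y, hy⟩
    exact congrArg Subtype.val this
  have hPC : (P : Subgroup (Cfsg.Sz F m)) ≤ Subgroup.centralizer ({x} : Set (Cfsg.Sz F m)) :=
    fun y hy => Subgroup.mem_centralizer_singleton_iff.mpr (hcomm y hy)
  by_cases hder : Der x
  · haveI := cyclic_centralizer hF hm hder
    exact isCyclic_of_injective (Subgroup.inclusion hPC) (Subgroup.inclusion_injective hPC)
  · unfold Der at hder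
    push Not at hder
    obtain ⟨r, hr, hfix⟩ := hder
    obtain ⟨k, h | ⟨t, h⟩⟩ := trichotomy hF hm hr hfix
    · exfalso
      obtain ⟨a, b, h⟩ := h
      have h4 : x ^ 4 = 1 := by
        have h3 : (k * x * k⁻¹) ^ 4 = 1 := by
          rw [h]
          exact uG_pow_four hF hm a b
        have h5 : (k * x * k⁻¹) ^ 4 = k * x ^ 4 * k⁻¹ := conj_pow
        rw [h5] at h3
        have h6 : x ^ 4 = k⁻¹ * (k * x ^ 4 * k⁻¹) * k := by group
        rw [h6, h3]
        group
      obtain ⟨n, hn⟩ := P.isPGroup' ⟨x, hxP⟩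
      have hn' : x ^ p ^ n = 1 := congrArg Subtype.val hn
      have h5 : orderOf x ∣ p ^ n := orderOf_dvd_of_pow_eq_one hn'
      have h6 : orderOf x ∣ 2 ^ 2 := orderOf_dvd_of_pow_eq_one (by simpa using h4)
      have hco : Nat.Coprime (p ^ n) (2 ^ 2) :=
        Nat.Coprime.pow _ _ ((Nat.coprime_primes (Fact.out) Nat.prime_two).mpr hp2)
      have h7 := Nat.eq_one_of_dvd_coprimes hco h5 h6
      exact hx1' (orderOf_eq_one_iff.mp h7)
    · have ht : t ≠ 1 := by
        rintro rfl
        rw [tG_one hF] at h
        apply hx1'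
        have : x = k⁻¹ * (k * x * k⁻¹) * k := by group
        rw [this, h]
        group
      haveI := cyclic_TT hF
      let f : (P : Subgroup (Cfsg.Sz F m)) →* TT hF :=
        { toFun := fun y => ⟨k * (y : Cfsg.Sz F m) * k⁻¹, by
            have h1 := conj_commute (k := k) (hcomm y y.2)
            rw [h] at h1
            exact centralizer_tG hF hm ht h1⟩
          map_one' := by
            apply Subtype.ext
            show k * 1 * k⁻¹ = 1
            group
          map_mul' := by
            intro y z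
            apply Subtype.ext
            show k * ((y : Cfsg.Sz F m) * (z : Cfsg.Sz F m)) * k⁻¹ = (k * (y : Cfsg.Sz F m) * k⁻¹) * (k * (z : Cfsg.Sz F m) * k⁻¹)
            group }
      apply isCyclic_of_injective f
      intro y z hyz
      have h3 : k * (y : Cfsg.Sz F m) * k⁻¹ = k * (z : Cfsg.Sz F m) * k⁻¹ := congrArg Subtype.val hyz
      exact Subtype.ext (mul_left_cancel (mul_right_cancel h3))

end Cfsg.Agent.Lib.Suzuki
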