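import Cfsg.Agent.Lib.Suzuki.Star

/-! Centralisers of 2-elements and of torus elements in the Suzuki group; every element with a fixed
point is conjugate into `U` or `T`. -/

set_option autoImplicit false

namespace Cfsg.Agent.Lib.Suzuki

open Matrix
open scoped Pointwise

variable {F : Type*} [Field F] [Fintype F] {m : ℕ}
variable (hF : Fintype.card F = 2 ^ (2 * m + 1)) (hm : 1 ≤ m)

/-- The torus. -/
def TT : Subgroup (Cfsg.Sz F m) := (MonoidHom.mk' (tG hF) (fun s t => (tG_mul hF s t).symm)).range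

include hF hm

theorem mem_TT {g : Cfsg.Sz F m} : g ∈ TT hF ↔ ∃ t : Fˣ, tG hF t = g := Iff.rfl

theorem TT_le_BB : TT hF ≤ BB F m := by
  rintro _ ⟨t, rfl⟩
  exact tG_mem_BB hF hm t

/-- The centraliser of a non-identity element of `U` lies in `U`. -/
theorem centralizer_uG {a b : F} (hab : uG hF a b ≠ 1) {y : Cfsg.Sz F m}
    (hy : y * uG hF a b = uG hF a b * y) : y ∈ UU hF hm := by
  have h2 := two_zero hF
  -- `y` fixes infinity
  have hfix : y ∈ BB F m := by
    rw [MulAction.mem_stabilizer_iff]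
    have hmem := smul_mem_ovoid hF y (pinf_mem (m := m))
    rcases (mem_ovoid _).mp hmem with h4 | ⟨x, z, h4⟩
    · exact h4
    · exfalso
      have h7 : uG hF a b • (y • pinf F) = y • pinf F := by
        rw [← mul_smul, ← hy, mul_smul, uG_smul_pinf hF]
      rw [h4] at h7
      obtain ⟨rfl, rfl⟩ := uG_fix hF hm h7
      exact hab (uG_zero hF hm)
  obtain ⟨e, f, t, rfl⟩ := (fix_pinf_iff hF hm y).mp hfix
  have h3 : (uG hF e f * tG hF t) * uG hF a b * (uG hF e f * tG hF t)⁻¹ = uG hF a b := by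
    rw [hy]
    group
  rw [conj_BB hF hm] at h3
  obtain ⟨h4, h5⟩ := uG_inj hF h3
  have ht : (t : F) = 1 := by
    by_cases ha : a = 0
    · subst ha
      have hb : b ≠ 0 := by
        rintro rfl
        exact hab (uG_zero hF hm)
      rw [mul_zero, sg_zero] at h5
      simp only [zero_mul, mul_zero, add_zero] at h5
      have : (t : F) ^ (2 ^ (m + 1) + 1) = 1 := mul_right_cancel₀ hb (by rw [h5, one_mul])
      exact sg1_eq_one hF t.ne_zero this
    · exact mul_right_cancel₀ ha (by rw [h4, one_mul])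
  have ht' : t = 1 := Units.ext ht
  rw [ht', tG_one hF, mul_one]
  exact uG_mem hF hm _ _

theorem tG_fix {t : Fˣ} (ht : t ≠ 1) {x y : F} (h : tG hF t • pt m x y = pt m x y) : x = 0 ∧ y = 0 := by
  rw [tG_smul_pt hF] at h
  obtain ⟨h1, h3⟩ := pt_inj h
  constructor
  · by_contra hx
    exact ht (Units.ext (mul_right_cancel₀ hx (by rw [h1, Units.val_one, one_mul])))
  · by_contra hy
    have : (t : F) ^ (2 ^ (m + 1) + 1) = 1 := mul_right_cancel₀ hy (by rw [h3, one_mul])
    exact ht (Units.ext (sg1_eq_one hF t.ne_zero this))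

/-- The fixed points of a torus element. -/
theorem tG_fix_cases {t : Fˣ} (ht : t ≠ 1) {p : Projectivization F (Fin 4 → F)}
    (hp : p ∈ Cfsg.suzukiOvoid F m) (h : tG hF t • p = p) : p = pinf F ∨ p = pt m (0 : F) 0 := by
  rcases (mem_ovoid _).mp hp with rfl | ⟨x, y, rfl⟩
  · exact Or.inl rfl
  · obtain ⟨rfl, rfl⟩ := tG_fix hF hm ht h
    exact Or.inr rfl

theorem tG_wG (t : Fˣ) : tG hF t * wG hF hm = wG hF hm * tG hF t⁻¹ := by
  have h1 := wG_tG_wG hF hm t
  have h3 := wG_sq hF hm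
  calc tG hF t * wG hF hm = wG hF hm * wG hF hm * tG hF t * wG hF hm := by rw [h3, one_mul]
    _ = wG hF hm * (wG hF hm * tG hF t * wG hF hm) := by group
    _ = _ := by rw [h1]

/-- The centraliser of a non-identity element of `T` is `T`. -/
theorem centralizer_tG {t : Fˣ} (ht : t ≠ 1) {y : Cfsg.Sz F m}
    (hy : y * tG hF t = tG hF t * y) : y ∈ TT hF := by
  have hfp : ∀ p, p ∈ Cfsg.suzukiOvoid F m → tG hF t • p = p → tG hF t • (y • p) = y • p := by
    intro p _ h
    rw [← mul_smul, ← hy, mul_smul, h]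
  have h0 : pt m (0 : F) 0 ≠ pinf F := pt_ne_pinf _ _
  rcases tG_fix_cases hF hm ht (smul_mem_ovoid hF y (pinf_mem (m := m)))
      (hfp _ pinf_mem (tG_smul_pinf hF t)) with h1 | h1
  · -- `y` fixes both
    rcases tG_fix_cases hF hm ht (smul_mem_ovoid hF y (pt_mem (m := m) (0 : F) 0))
        (hfp _ (pt_mem _ _) (tG_smul_pt_zero hF t)) with h3 | h3
    · exfalso
      rw [← h1] at h3
      exact h0 (MulAction.injective y h3)
    · obtain ⟨s, hs⟩ := (fix_two_iff hF hm y).mp ⟨h1, h3⟩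
      exact ⟨s, hs.symm⟩
  · -- `y` swaps the two points
    exfalso
    rcases tG_fix_cases hF hm ht (smul_mem_ovoid hF y (pt_mem (m := m) (0 : F) 0))
        (hfp _ (pt_mem _ _) (tG_smul_pt_zero hF t)) with h3 | h3
    · have h5 : (wG hF hm * y) • pinf F = pinf F := by
        rw [mul_smul, h1, wG_smul_pt_zero hF hm]
      have h6 : (wG hF hm * y) • pt m (0 : F) 0 = pt m (0 : F) 0 := by
        rw [mul_smul, h3, wG_smul_pinf hF hm]
      obtain ⟨s, hs⟩ := (fix_two_iff hF hm _).mp ⟨h5, h6⟩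
      have hy2 : y = wG hF hm * tG hF s := by
        have h7 := wG_sq hF hm
        calc y = (wG hF hm * wG hF hm) * y := by rw [h7, one_mul]
          _ = wG hF hm * (wG hF hm * y) := by group
          _ = _ := by rw [hs]
      rw [hy2, mul_assoc, tG_mul hF, ← mul_assoc, tG_wG hF hm, mul_assoc, tG_mul hF] at hy
      have h8 := mul_left_cancel hy
      have h9 := tG_inj hF h8
      apply ht
      have h10 : t = t⁻¹ := by
        have h11 : s * t = t⁻¹ * s := h9
        rw [mul_comm t⁻¹ s] at h11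
        exact mul_left_cancel h11
      have h12 : (t : F) ^ 2 = 1 ^ 2 := by
        have h13 : t * t = 1 := by
          nth_rewrite 2 [h10]
          exact mul_inv_cancel t
        have h14 := congrArg (Units.val) h13
        rw [Units.val_mul, Units.val_one] at h14
        rw [sq, h14, one_pow]
      exact Units.ext (sq_inj hF h12)
    · exact h0 (MulAction.injective y (h3.trans h1.symm))

/-- An element with a fixed point is conjugate into `U` or `T`. -/
theorem trichotomy {g : Cfsg.Sz F m} {p : Projectivization F (Fin 4 → F)}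
    (hp : p ∈ Cfsg.suzukiOvoid F m) (hfix : g • p = p) :
    ∃ k : Cfsg.Sz F m, (∃ a b : F, k * g * k⁻¹ = uG hF a b) ∨ ∃ t : Fˣ, k * g * k⁻¹ = tG hF t := by
  have h2 := two_zero hF
  obtain ⟨k₀, hk₀⟩ := exists_smul_pinf hF hm hp
  have h1 : (k₀ * g * k₀⁻¹) • pinf F = pinf F := by
    rw [← hk₀]
    simp only [mul_smul, inv_smul_smul, hfix]
  obtain ⟨a, b, t, e⟩ := (fix_pinf_iff hF hm _).mp h1
  by_cases ht : t = 1
  · refine ⟨k₀, Or.inl ⟨a, b, ?_⟩⟩
    rw [e, ht, tG_one hF, mul_one]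
  · -- an affine fixed point
    have hne1 : (t : F) + 1 ≠ 0 := by
      intro h
      apply ht
      apply Units.ext
      rw [Units.val_one]
      grind
    have hne2 : (t : F) ^ (2 ^ (m + 1) + 1) + 1 ≠ 0 := by
      intro h
      apply ht
      apply Units.ext
      apply sg1_eq_one hF t.ne_zero
      grind
    set x := a / ((t : F) + 1) with hx
    set y := (a ^ (2 ^ (m + 1)) * ((t : F) * x) + b) / ((t : F) ^ (2 ^ (m + 1) + 1) + 1) with hy
    have hfx : (uG hF a b * tG hF t) • pt m x y = pt m x y := by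
      rw [mul_smul, tG_smul_pt hF, uG_smul_pt hF]
      congr 1
      · rw [hx]
        field_simp
        grind
      · have : y * ((t : F) ^ (2 ^ (m + 1) + 1) + 1) = a ^ (2 ^ (m + 1)) * ((t : F) * x) + b := by
          rw [hy]
          field_simp
        grind
    set k := (uG hF x y)⁻¹ * k₀ with hk
    have e2 : k * g * k⁻¹ = (uG hF x y)⁻¹ * (uG hF a b * tG hF t) * uG hF x y := by
      rw [← e, hk]
      group
    refine ⟨k, Or.inr ?_⟩
    have h5 : (k * g * k⁻¹) • pinf F = pinf F := by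
      rw [e2]
      simp only [mul_smul, uG_smul_pinf hF, tG_smul_pinf hF]
      rw [inv_smul_eq_iff, uG_smul_pinf hF]
    have h6 : (k * g * k⁻¹) • pt m (0 : F) 0 = pt m (0 : F) 0 := by
      rw [e2, mul_smul, mul_smul, uG_smul_pt_zero hF, hfx, inv_smul_eq_iff, uG_smul_pt_zero hF]
    obtain ⟨s, hs⟩ := (fix_two_iff hF hm _).mp ⟨h5, h6⟩
    exact ⟨s, hs⟩

omit hF hm [Fintype F] in
/-- Nilpotent subgroups and centralisers: if `x ≠ 1` lies in the nilpotent group `X`, `C(x) ≤ Y` and
`C(z) ≤ Y` for every `1 ≠ z ∈ Y`, then `X ≤ Y`. -/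
theorem nilpotent_le_of_centralizer {G : Type*} [Group G] {X Y : Subgroup G} (hX : Group.IsNilpotent X)
    {x : G} (hx : x ∈ X) (hx1 : x ≠ 1) (h1 : ∀ y, y * x = x * y → y ∈ Y)
    (h3 : ∀ z ∈ Y, z ≠ 1 → ∀ y, y * z = z * y → y ∈ Y) : X ≤ Y := by
  haveI : Nontrivial X := ⟨⟨⟨x, hx⟩, 1, fun h => hx1 (congrArg Subtype.val h)⟩⟩
  haveI := hX
  obtain ⟨⟨⟨z, hzX⟩, hz⟩, hz1⟩ := Subgroup.ne_bot_iff_exists_ne_one.mp (Group.IsNilpotent.center_ne_bot (G := X))
  have hz1' : z ≠ 1 := fun h => hz1 (Subtype.ext (Subtype.ext h))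
  have hzc : ∀ y ∈ X, y * z = z * y := by
    intro y hy
    have := (Subgroup.mem_center_iff.mp hz) ⟨y, hy⟩
    exact (congrArg Subtype.val this)
  have hzY : z ∈ Y := h1 z ((hzc x hx).symm)
  intro y hy
  exact h3 z hzY hz1' y (hzc y hy)

end Cfsg.Agent.Lib.Suzuki
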