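import Cfsg.Agent.Lib.Suzuki.Star

/-! The characteristic polynomial of an element of the Suzuki group:
`X⁴ + t X³ + t^σ X² + t X + 1`, where `t` is the trace. -/

set_option autoImplicit false

namespace Cfsg.Agent.Lib.Suzuki

open Matrix Polynomial Cfsg.Lie

section general
variable {R : Type*} [CommRing R]

/-- The sum of the principal `2 × 2` minors. -/
def e2f (M : Matrix (Fin 4) (Fin 4) R) : R :=
  (M 0 0 * M 1 1 - M 1 0 * M 0 1) + (M 0 0 * M 2 2 - M 2 0 * M 0 2) + (M 0 0 * M 3 3 - M 3 0 * M 0 3) +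
  (M 1 1 * M 2 2 - M 2 1 * M 1 2) + (M 1 1 * M 3 3 - M 3 1 * M 1 3) + (M 2 2 * M 3 3 - M 3 2 * M 2 3)

/-- The sum of the principal `3 × 3` minors. -/
def e3f (M : Matrix (Fin 4) (Fin 4) R) : R :=
  (M 1 1 * (M 2 2 * M 3 3 - M 2 3 * M 3 2) - M 1 2 * (M 2 1 * M 3 3 - M 2 3 * M 3 1) + M 1 3 * (M 2 1 * M 3 2 - M 2 2 * M 3 1)) +
  (M 0 0 * (M 2 2 * M 3 3 - M 2 3 * M 3 2) - M 0 2 * (M 2 0 * M 3 3 - M 2 3 * M 3 0) + M 0 3 * (M 2 0 * M 3 2 - M 2 2 * M 3 0)) +
  (M 0 0 * (M 1 1 * M 3 3 - M 1 3 * M 3 1) - M 0 1 * (M 1 0 * M 3 3 - M 1 3 * M 3 0) + M 0 3 * (M 1 0 * M 3 1 - M 1 1 * M 3 0)) +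
  (M 0 0 * (M 1 1 * M 2 2 - M 1 2 * M 2 1) - M 0 1 * (M 1 0 * M 2 2 - M 1 2 * M 2 0) + M 0 2 * (M 1 0 * M 2 1 - M 1 1 * M 2 0))

/-- The `4 × 4` determinant. -/
theorem det4 (A : Matrix (Fin 4) (Fin 4) R) : A.det =
   A 0 0 * (A 1 1 * (A 2 2 * A 3 3 - A 2 3 * A 3 2) - A 1 2 * (A 2 1 * A 3 3 - A 2 3 * A 3 1) + A 1 3 * (A 2 1 * A 3 2 - A 2 2 * A 3 1))
 - A 0 1 * (A 1 0 * (A 2 2 * A 3 3 - A 2 3 * A 3 2) - A 1 2 * (A 2 0 * A 3 3 - A 2 3 * A 3 0) + A 1 3 * (A 2 0 * A 3 2 - A 2 2 * A 3 0))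
 + A 0 2 * (A 1 0 * (A 2 1 * A 3 3 - A 2 3 * A 3 1) - A 1 1 * (A 2 0 * A 3 3 - A 2 3 * A 3 0) + A 1 3 * (A 2 0 * A 3 1 - A 2 1 * A 3 0))
 - A 0 3 * (A 1 0 * (A 2 1 * A 3 2 - A 2 2 * A 3 1) - A 1 1 * (A 2 0 * A 3 2 - A 2 2 * A 3 0) + A 1 2 * (A 2 0 * A 3 1 - A 2 1 * A 3 0)) := by
  rw [Matrix.det_succ_row_zero, Fin.sum_univ_four]
  simp only [Matrix.det_fin_three, Matrix.submatrix_apply]
  have e : ∀ (i : Fin 3), (Fin.succ i : Fin 4) = i.succ := fun _ => rfl
  simp [Fin.succAbove]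
  ring

/-- The characteristic polynomial of a `4 × 4` matrix. -/
theorem charpoly4 (M : Matrix (Fin 4) (Fin 4) R) :
    M.charpoly = X ^ 4 - C (M.trace) * X ^ 3 + C (e2f M) * X ^ 2 -
      C (e3f M) * X + C M.det := by
  rw [Matrix.charpoly, det4, det4 M]
  simp only [charmatrix_apply, Matrix.trace, Fin.sum_univ_four, Matrix.diag, e2f, e3f, Matrix.diagonal_apply]
  simp only [map_add, map_sub, map_mul]
  simp
  ring

theorem adj_trace (M : Matrix (Fin 4) (Fin 4) R) : M.adjugate.trace = e3f M := by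
  simp only [Matrix.trace, Fin.sum_univ_four, Matrix.diag, Matrix.adjugate_fin_succ_eq_det_submatrix, Matrix.det_fin_three, Matrix.submatrix_apply]
  simp [Fin.succAbove, e3f]
  ring

end general

variable {F : Type*} [Field F] {m : ℕ}

theorem e2f_eq (h2 : (2 : F) = 0) {M : Matrix (Fin 4) (Fin 4) F} (hM : IsSp M) :
    e2f M = (star4 M).trace := by
  have h1 := congrFun (congrFun (isSp_dual hM) 0) 3
  have h3 := congrFun (congrFun (isSp_dual hM) 1) 2
  have h4 := congrFun (congrFun hM 0) 3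
  have h5 := congrFun (congrFun hM 1) 2
  simp [Matrix.mul_apply, Fin.sum_univ_four, Cfsg.suzukiForm] at h1 h3 h4 h5
  simp only [Matrix.trace, Fin.sum_univ_four, Matrix.diag, star4_apply, e2f, m2]
  simp only [pairOf]
  simp
  grind

theorem e3f_eq {M : Matrix (Fin 4) (Fin 4) F} (hM : IsSp M) (hdet : M.det = 1) : e3f M = M.trace := by
  rw [← adj_trace]
  have h1 : M * (Cfsg.suzukiForm F * M.transpose * Cfsg.suzukiForm F) = 1 := by
    rw [← Matrix.mul_assoc, ← Matrix.mul_assoc, isSp_dual hM, form_sq]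
  have h2 : M.adjugate * M = 1 := by
    rw [Matrix.adjugate_mul, hdet, one_smul]
  have h3 : M.adjugate = Cfsg.suzukiForm F * M.transpose * Cfsg.suzukiForm F := by
    calc M.adjugate = M.adjugate * (M * (Cfsg.suzukiForm F * M.transpose * Cfsg.suzukiForm F)) := by
          rw [h1, Matrix.mul_one]
      _ = (M.adjugate * M) * (Cfsg.suzukiForm F * M.transpose * Cfsg.suzukiForm F) := by
          rw [← Matrix.mul_assoc M.adjugate M]
      _ = _ := by rw [h2, Matrix.one_mul]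
  rw [h3, Matrix.trace_mul_comm, ← Matrix.mul_assoc, form_sq, Matrix.one_mul, Matrix.trace_transpose]

/-- The polynomial `X⁴ + t X³ + t^σ X² + t X + 1`. -/
noncomputable def pS (m : ℕ) (t : F) : F[X] :=
  X ^ 4 + C t * X ^ 3 + C (t ^ (2 ^ (m + 1))) * X ^ 2 + C t * X + 1

section
variable [Fintype F] (hF : Fintype.card F = 2 ^ (2 * m + 1))
include hF

theorem trace_theta (M : Matrix (Fin 4) (Fin 4) F) : (theta m M).trace = M.trace ^ (2 ^ (m + 1)) := by
  simp only [Matrix.trace, Fin.sum_univ_four, Matrix.diag, theta, Matrix.map_apply]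
  rw [sg_add hF, sg_add hF, sg_add hF]

theorem charpoly_eq {M : Matrix (Fin 4) (Fin 4) F} (hM : IsSp M) (hlaw : star4 M = theta m M) :
    M.charpoly = pS m M.trace := by
  have h2 := two_zero hF
  haveI := charP_two hF
  rw [charpoly4, e2f_eq h2 hM, e3f_eq hM (det_of_isSp hF hM), det_of_isSp hF hM, hlaw, trace_theta hF, pS]
  simp only [map_one, CharTwo.sub_eq_add]

/-- Cayley–Hamilton in this form. -/
theorem cayley {M : Matrix (Fin 4) (Fin 4) F} (hM : IsSp M) (hlaw : star4 M = theta m M) :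
    M ^ 4 + M.trace • M ^ 3 + (M.trace ^ (2 ^ (m + 1))) • M ^ 2 + M.trace • M + 1 = 0 := by
  have h1 := Matrix.aeval_self_charpoly M
  rw [charpoly_eq hF hM hlaw, pS] at h1
  simpa [Algebra.smul_def, aeval_def, eval₂_add, eval₂_mul, eval₂_pow] using h1

omit hF [Fintype F] in
theorem root_of_eigen {E : Type*} [Field E] [Algebra F E] {M : Matrix (Fin 4) (Fin 4) F} {v : Fin 4 → E}
    (hv : v ≠ 0) {l : E} (h : (M.map (algebraMap F E)) *ᵥ v = l • v) : (M.charpoly.map (algebraMap F E)).eval l = 0 := by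
  rw [← Matrix.charpoly_map, Matrix.eval_charpoly]
  rw [← Matrix.exists_mulVec_eq_zero_iff]
  refine ⟨v, hv, ?_⟩
  rw [Matrix.sub_mulVec, h]
  simp [Matrix.scalar_apply, Matrix.mulVec_diagonal]

/-- An element with a nonzero fixed vector (over any extension) has trace zero and order dividing 4. -/
theorem trace_zero_of_fix {E : Type*} [Field E] [Algebra F E] {M : Matrix (Fin 4) (Fin 4) F}
    (hM : IsSp M) (hlaw : star4 M = theta m M) {v : Fin 4 → E} (hv : v ≠ 0)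
    (h : (M.map (algebraMap F E)) *ᵥ v = v) : M.trace = 0 := by
  have h2 := two_zero hF
  have h1 := root_of_eigen (l := 1) hv (by rw [one_smul]; exact h)
  rw [charpoly_eq hF hM hlaw, pS] at h1
  simp at h1
  have h3 : (algebraMap F E) (M.trace ^ (2 ^ (m + 1))) = 0 := by
    have h4 := congrArg (algebraMap F E) h2
    rw [map_ofNat, map_zero] at h4
    have h5 : (2 : E) = 0 := h4
    rw [map_pow]
    grind
  have h4 : M.trace ^ (2 ^ (m + 1)) = 0 := by
    apply (algebraMap F E).injective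
    rw [h3, map_zero]
  exact pow_eq_zero_iff (by positivity) |>.mp h4

theorem pow_four_of_trace {M : Matrix (Fin 4) (Fin 4) F} (hM : IsSp M) (hlaw : star4 M = theta m M)
    (ht : M.trace = 0) : M ^ 4 = 1 := by
  have h2 := two_zero hF
  haveI := charP_two hF
  have h1 := cayley hF hM hlaw
  rw [ht] at h1
  have hs : (0 : F) ^ (2 ^ (m + 1)) = 0 := sg_zero
  rw [hs] at h1
  simp only [zero_smul, add_zero] at h1
  haveI : CharP (Matrix (Fin 4) (Fin 4) F) 2 := Matrix.charP 2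
  have h3 : M ^ 4 = M ^ 4 + 1 + 1 := by
    rw [add_assoc, CharTwo.add_self_eq_zero, add_zero]
  rw [h3, h1, zero_add]

/-- An element of the Suzuki group with a nonzero fixed vector has order dividing 4. -/
theorem pow_four_of_fix {E : Type*} [Field E] [Algebra F E] {M : Matrix (Fin 4) (Fin 4) F}
    (hM : IsSp M) (hlaw : star4 M = theta m M) {v : Fin 4 → E} (hv : v ≠ 0)
    (h : (M.map (algebraMap F E)) *ᵥ v = v) : M ^ 4 = 1 :=
  pow_four_of_trace hF hM hlaw (trace_zero_of_fix hF hM hlaw hv h)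

end

end Cfsg.Agent.Lib.Suzuki
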