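import Cfsg.Agent.Lib.Suzuki.Basic

/-! Coordinates on the ovoid, and the elements `U`, `T`, `W` of the Suzuki group. -/

set_option autoImplicit false

namespace Cfsg.Agent.Lib.Suzuki

open Matrix
open scoped Pointwise

variable {F : Type*} [Field F] [Fintype F] {m : ℕ}

/-- The ovoid function, with the exponent `σ + 2` split. -/
def ovf (m : ℕ) (x y : F) : F := x * y + x ^ (2 ^ (m + 1)) * x ^ 2 + y ^ (2 ^ (m + 1))

omit [Fintype F] in
theorem ovf_eq (x y : F) :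
    x * y + x ^ (2 ^ (m + 1) + 2) + y ^ (2 ^ (m + 1)) = ovf m x y := by
  rw [pow_add]; rfl

/-- The affine ovoid vector. -/
def ptv (m : ℕ) (x y : F) : Fin 4 → F := ![ovf m x y, y, x, 1]

omit [Fintype F] in
theorem ptv_ne_zero (x y : F) : ptv m x y ≠ 0 := by
  intro h
  have := congrFun h 3
  simp [ptv] at this

/-- The point of the ovoid with affine parameters `(x, y)`. -/
def pt (m : ℕ) (x y : F) : Projectivization F (Fin 4 → F) :=
  Projectivization.mk F (ptv m x y) (ptv_ne_zero x y)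

/-- The point at infinity. -/
def pinf (F : Type*) [Field F] : Projectivization F (Fin 4 → F) := Cfsg.suzukiPointInfinity F

omit [Fintype F] in
theorem pinf_eq : pinf F = Projectivization.mk F ![1, 0, 0, 0] (by simp) := rfl

omit [Fintype F] in
theorem pt_zero (hm : 1 ≤ m) : Cfsg.suzukiPointZero F = pt m (0 : F) 0 := by
  have h0 : ptv m (0 : F) 0 = ![0, 0, 0, 1] := by
    have h1 : (0 : F) ^ (2 ^ (m + 1)) = 0 := zero_pow (by positivity)
    simp [ptv, ovf, h1]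
  simp only [Cfsg.suzukiPointZero, pt, h0]

omit [Fintype F] in
theorem mem_ovoid (p : Projectivization F (Fin 4 → F)) :
    p ∈ Cfsg.suzukiOvoid F m ↔ p = pinf F ∨ ∃ x y : F, p = pt m x y := by
  constructor
  · rintro ⟨v, hv, rfl, h | ⟨x, y, h⟩⟩
    · left
      subst h
      rfl
    · right
      refine ⟨x, y, ?_⟩
      have h2 : v = ptv m x y := by
        rw [h, ovf_eq]
        rfl
      subst h2
      rfl
  · rintro (rfl | ⟨x, y, rfl⟩)
    · exact ⟨![1, 0, 0, 0], by simp, rfl, Or.inl rfl⟩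
    · exact ⟨ptv m x y, ptv_ne_zero x y, rfl, Or.inr ⟨x, y, by rw [ovf_eq]; rfl⟩⟩

omit [Fintype F] in
theorem pt_inj {x y x' y' : F} (h : pt m x y = pt m x' y') : x = x' ∧ y = y' := by
  rw [pt, pt, Projectivization.mk_eq_mk_iff'] at h
  obtain ⟨a, ha⟩ := h
  have h3 := congrFun ha 3
  have h2 := congrFun ha 2
  have h1 := congrFun ha 1
  simp [ptv] at h1 h2 h3
  subst h3
  simp at h1 h2
  exact ⟨h2.symm, h1.symm⟩

omit [Fintype F] in
theorem pt_ne_pinf (x y : F) : pt m x y ≠ pinf F := by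
  intro h
  rw [pt, pinf_eq, Projectivization.mk_eq_mk_iff'] at h
  obtain ⟨a, ha⟩ := h
  have h3 := congrFun ha 3
  simp [ptv] at h3

/-! ### Matrices -/

/-- Upper triangular matrices with unit diagonal have determinant one. -/
theorem det_upper {R : Type*} [CommRing R] (M : Matrix (Fin 4) (Fin 4) R)
    (h : ∀ i j, j < i → M i j = 0) : M.det = M 0 0 * M 1 1 * M 2 2 * M 3 3 := by
  have h1 : M.BlockTriangular id := by
    intro i j hij
    exact h i j hij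
  rw [Matrix.det_of_upperTriangular h1, Fin.prod_univ_four]

/-- The unipotent elements. -/
def Um (m : ℕ) (a b : F) : Matrix (Fin 4) (Fin 4) F :=
  !![1, a, b + a ^ (2 ^ (m + 1)) * a, a * b + a ^ (2 ^ (m + 1)) * a ^ 2 + b ^ (2 ^ (m + 1));
     0, 1, a ^ (2 ^ (m + 1)), b;
     0, 0, 1, a;
     0, 0, 0, 1]

omit [Fintype F] in
theorem Um_det (a b : F) : (Um m a b).det = 1 := by
  rw [det_upper]
  · simp [Um]
  · intro i j hij
    fin_cases i <;> fin_cases j <;> first | (exact absurd hij (by decide)) | simp [Um]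

/-- The unipotent elements as elements of `SL₄`. -/
def U (m : ℕ) (a b : F) : Matrix.SpecialLinearGroup (Fin 4) F := ⟨Um m a b, Um_det a b⟩

omit [Fintype F] in
@[simp] theorem U_coe (a b : F) : (U m a b).1 = Um m a b := rfl

theorem Um_mul (hF : Fintype.card F = 2 ^ (2 * m + 1)) (a b c d : F) :
    Um m a b * Um m c d = Um m (a + c) (b + d + a ^ (2 ^ (m + 1)) * c) := by
  have h2 := two_zero hF
  have e1 : (a + c) ^ (2 ^ (m + 1)) = a ^ (2 ^ (m + 1)) + c ^ (2 ^ (m + 1)) := sg_add hF a c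
  have e2 : (b + d + a ^ (2 ^ (m + 1)) * c) ^ (2 ^ (m + 1)) =
      b ^ (2 ^ (m + 1)) + d ^ (2 ^ (m + 1)) + a ^ 2 * c ^ (2 ^ (m + 1)) := by
    rw [sg_add hF, sg_add hF, sg_mul, sg_sg hF]
  have hA : a ^ (2 ^ (m + 1) + 1) = a ^ (2 ^ (m + 1)) * a := by ring
  ext i j
  fin_cases i <;> fin_cases j <;>
    simp [Um, Matrix.mul_apply, Fin.sum_univ_four, e1, e2] <;>
    generalize a ^ (2 ^ (m + 1)) = A at * <;>
    generalize b ^ (2 ^ (m + 1)) = B at * <;>
    generalize c ^ (2 ^ (m + 1)) = C at * <;>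
    generalize d ^ (2 ^ (m + 1)) = D at * <;>
    grind

theorem U_mul (hF : Fintype.card F = 2 ^ (2 * m + 1)) (a b c d : F) :
    U m a b * U m c d = U m (a + c) (b + d + a ^ (2 ^ (m + 1)) * c) :=
  Subtype.ext (Um_mul hF a b c d)

theorem U_zero (hm : 1 ≤ m) : U m (0 : F) 0 = 1 := by
  apply Subtype.ext
  have h1 : (0 : F) ^ (2 ^ (m + 1)) = 0 := zero_pow (by positivity)
  ext i j
  fin_cases i <;> fin_cases j <;> simp [Um, h1]

theorem U_inv (hF : Fintype.card F = 2 ^ (2 * m + 1)) (hm : 1 ≤ m) (a b : F) :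
    (U m a b)⁻¹ = U m a (b + a ^ (2 ^ (m + 1)) * a) := by
  have h2 := two_zero hF
  apply inv_eq_of_mul_eq_one_right
  rw [U_mul hF]
  have : a + a = 0 := by grind
  have h3 : b + (b + a ^ (2 ^ (m + 1)) * a) + a ^ (2 ^ (m + 1)) * a = 0 := by
    generalize a ^ (2 ^ (m + 1)) = A
    grind
  rw [this, h3, U_zero hm]

/-- The torus elements. -/
def Tm (m : ℕ) (t : F) : Matrix (Fin 4) (Fin 4) F :=
  !![t ^ (2 ^ m + 1), 0, 0, 0;
     0, t ^ (2 ^ m), 0, 0;
     0, 0, (t ^ (2 ^ m))⁻¹, 0;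
     0, 0, 0, (t ^ (2 ^ m + 1))⁻¹]

omit [Fintype F] in
theorem Tm_det {t : F} (ht : t ≠ 0) : (Tm m t).det = 1 := by
  rw [det_upper]
  · simp [Tm]
    have h1 : t ^ (2 ^ m) ≠ 0 := pow_ne_zero _ ht
    have h2 : t ^ (2 ^ m + 1) ≠ 0 := pow_ne_zero _ ht
    field_simp
  · intro i j hij
    fin_cases i <;> fin_cases j <;> first | (exact absurd hij (by decide)) | simp [Tm]

/-- The torus elements in `SL₄`. -/
def T (m : ℕ) (t : Fˣ) : Matrix.SpecialLinearGroup (Fin 4) F := ⟨Tm m (t : F), Tm_det t.ne_zero⟩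

omit [Fintype F] in
@[simp] theorem T_coe (t : Fˣ) : (T m t).1 = Tm m (t : F) := rfl

omit [Fintype F] in
theorem T_mul (s t : Fˣ) : T m s * T m t = T m (s * t) := by
  apply Subtype.ext
  have h1 : (s : F) ≠ 0 := s.ne_zero
  have h2 : (t : F) ≠ 0 := t.ne_zero
  ext i j
  fin_cases i <;> fin_cases j <;>
    simp [Tm, Matrix.mul_apply, Fin.sum_univ_four, mul_pow]
  all_goals ring

omit [Fintype F] in
theorem T_one : T m (1 : Fˣ) = (1 : Matrix.SpecialLinearGroup (Fin 4) F) := by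
  apply Subtype.ext
  ext i j
  fin_cases i <;> fin_cases j <;> simp [Tm]

omit [Fintype F] in
theorem T_inv (t : Fˣ) : (T m t)⁻¹ = T m t⁻¹ := by
  apply inv_eq_of_mul_eq_one_right
  rw [T_mul, mul_inv_cancel, T_one]

/-- The antidiagonal matrix. -/
def Wm (F : Type*) [Field F] : Matrix (Fin 4) (Fin 4) F :=
  !![0, 0, 0, 1; 0, 0, 1, 0; 0, 1, 0, 0; 1, 0, 0, 0]

omit [Fintype F] in
theorem Wm_sq : Wm F * Wm F = 1 := by
  ext i j
  fin_cases i <;> fin_cases j <;> simp [Wm, Matrix.mul_apply, Fin.sum_univ_four]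

omit [Fintype F] in
theorem Wm_det : (Wm F).det = 1 := by
  simp [Wm, Matrix.det_succ_row_zero, Fin.sum_univ_succ, Fin.succAbove]
  try norm_num

/-- The antidiagonal matrix in `SL₄`. -/
def W (F : Type*) [Field F] : Matrix.SpecialLinearGroup (Fin 4) F := ⟨Wm F, Wm_det⟩

omit [Fintype F] in
@[simp] theorem W_coe : (W F).1 = Wm F := rfl

omit [Fintype F] in
theorem W_sq : W F * W F = 1 := Subtype.ext Wm_sq

omit [Fintype F] in
theorem W_inv : (W F)⁻¹ = W F := inv_eq_of_mul_eq_one_right W_sq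

omit [Fintype F] in
theorem W_T_W (t : Fˣ) : W F * T m t * W F = T m t⁻¹ := by
  apply Subtype.ext
  have h2 : (t : F) ≠ 0 := t.ne_zero
  ext i j
  fin_cases i <;> fin_cases j <;>
    simp [Tm, Wm, Matrix.mul_apply, Fin.sum_univ_four]

/-! ### Actions on the ovoid points -/

omit [Fintype F] in
theorem smul_pt_of (g : Matrix.SpecialLinearGroup (Fin 4) F) (c : F) {x y x' y' : F}
    (h : g.1.mulVec (ptv m x y) = c • ptv m x' y') : g • pt m x y = pt m x' y' := by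
  rw [pt, Projectivization.smul_mk, pt, Projectivization.mk_eq_mk_iff']
  exact ⟨c, h.symm⟩

omit [Fintype F] in
theorem smul_pinf_of (g : Matrix.SpecialLinearGroup (Fin 4) F) (c : F)
    (h : g.1.mulVec ![1, 0, 0, 0] = c • ![1, 0, 0, 0]) : g • pinf F = pinf F := by
  rw [pinf_eq, Projectivization.smul_mk, Projectivization.mk_eq_mk_iff']
  exact ⟨c, h.symm⟩

theorem Um_ptv (hF : Fintype.card F = 2 ^ (2 * m + 1)) (a b x y : F) :
    (Um m a b).mulVec (ptv m x y) = ptv m (x + a) (y + a ^ (2 ^ (m + 1)) * x + b) := by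
  have h2 := two_zero hF
  have e1 : (x + a) ^ (2 ^ (m + 1)) = x ^ (2 ^ (m + 1)) + a ^ (2 ^ (m + 1)) := sg_add hF x a
  have e2 : (y + a ^ (2 ^ (m + 1)) * x + b) ^ (2 ^ (m + 1)) =
      y ^ (2 ^ (m + 1)) + a ^ 2 * x ^ (2 ^ (m + 1)) + b ^ (2 ^ (m + 1)) := by
    rw [sg_add hF, sg_add hF, sg_mul, sg_sg hF]
  ext i
  fin_cases i <;>
    simp [Um, ptv, ovf, Matrix.mulVec, dotProduct, Fin.sum_univ_four, e1, e2] <;>
    generalize a ^ (2 ^ (m + 1)) = A at * <;>
    generalize b ^ (2 ^ (m + 1)) = B at * <;>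
    generalize x ^ (2 ^ (m + 1)) = X at * <;>
    generalize y ^ (2 ^ (m + 1)) = Y at * <;>
    grind

theorem U_smul_pt (hF : Fintype.card F = 2 ^ (2 * m + 1)) (a b x y : F) :
    U m a b • pt m x y = pt m (x + a) (y + a ^ (2 ^ (m + 1)) * x + b) := by
  apply smul_pt_of _ 1
  rw [one_smul]
  exact Um_ptv hF a b x y

omit [Fintype F] in
theorem U_smul_pinf (a b : F) : U m a b • pinf F = pinf F := by
  apply smul_pinf_of _ 1
  ext i
  fin_cases i <;> simp [Um, Matrix.mulVec, dotProduct, Fin.sum_univ_four]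

theorem ovf_T (hF : Fintype.card F = 2 ^ (2 * m + 1)) (t x y : F) :
    ovf m (t * x) (t ^ (2 ^ (m + 1) + 1) * y) = t ^ (2 ^ (m + 1) + 2) * ovf m x y := by
  have e1 : (t * x) ^ (2 ^ (m + 1)) = t ^ (2 ^ (m + 1)) * x ^ (2 ^ (m + 1)) := sg_mul t x
  have e2 : (t ^ (2 ^ (m + 1) + 1) * y) ^ (2 ^ (m + 1)) =
      t ^ 2 * t ^ (2 ^ (m + 1)) * y ^ (2 ^ (m + 1)) := by
    rw [sg_mul, pow_add, sg_mul, sg_sg hF, pow_one]
  unfold ovf
  rw [e1, e2]
  ring

theorem T_smul_pt (hF : Fintype.card F = 2 ^ (2 * m + 1)) (t : Fˣ) (x y : F) :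
    T m t • pt m x y = pt m ((t : F) * x) ((t : F) ^ (2 ^ (m + 1) + 1) * y) := by
  apply smul_pt_of _ ((t : F) ^ (2 ^ m + 1))⁻¹
  have h0 : (t : F) ≠ 0 := t.ne_zero
  have hs : (2 : ℕ) ^ (m + 1) = 2 * 2 ^ m := by ring
  have hr : (t : F) ^ (2 ^ m) ≠ 0 := pow_ne_zero _ h0
  ext i
  fin_cases i
  · simp only [T_coe, Tm, ptv, Matrix.mulVec, dotProduct, Fin.sum_univ_four, ovf_T hF, Pi.smul_apply,
      smul_eq_mul]
    simp [hs]
    field_simp
    ring
  · simp only [T_coe, Tm, ptv, Matrix.mulVec, dotProduct, Fin.sum_univ_four, ovf_T hF, Pi.smul_apply,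
      smul_eq_mul]
    simp [hs]
    field_simp
    ring
  · simp only [T_coe, Tm, ptv, Matrix.mulVec, dotProduct, Fin.sum_univ_four, ovf_T hF, Pi.smul_apply,
      smul_eq_mul]
    simp
    field_simp
    ring
  · simp only [T_coe, Tm, ptv, Matrix.mulVec, dotProduct, Fin.sum_univ_four, ovf_T hF, Pi.smul_apply,
      smul_eq_mul]
    simp

omit [Fintype F] in
theorem T_smul_pinf (t : Fˣ) : T m t • pinf F = pinf F := by
  apply smul_pinf_of _ ((t : F) ^ (2 ^ m + 1))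
  ext i
  fin_cases i <;> simp [Tm, Matrix.mulVec, dotProduct, Fin.sum_univ_four]

/-- The Frobenius-twisted value of the ovoid function. -/
theorem ovf_sg (hF : Fintype.card F = 2 ^ (2 * m + 1)) (x y : F) :
    (ovf m x y) ^ (2 ^ (m + 1)) =
      x ^ (2 ^ (m + 1)) * y ^ (2 ^ (m + 1)) + x ^ 2 * (x ^ (2 ^ (m + 1))) ^ 2 + y ^ 2 := by
  have e1 : (x ^ 2) ^ (2 ^ (m + 1)) = (x ^ (2 ^ (m + 1))) ^ 2 := by
    rw [← pow_mul, ← pow_mul, mul_comm]
  rw [ovf, sg_add hF, sg_add hF, sg_mul, sg_mul, sg_sg hF, sg_sg hF, e1]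

/-- The main ovoid identity. -/
theorem ovf_key (hF : Fintype.card F = 2 ^ (2 * m + 1)) (x y : F) :
    x * y * (ovf m x y) ^ (2 ^ (m + 1)) + y ^ (2 ^ (m + 1)) * y ^ 2 +
        x ^ (2 ^ (m + 1)) * (ovf m x y) ^ 2 =
      ovf m x y * (ovf m x y) ^ (2 ^ (m + 1)) := by
  have h2 := two_zero hF
  rw [ovf_sg hF, ovf]
  generalize x ^ (2 ^ (m + 1)) = X
  generalize y ^ (2 ^ (m + 1)) = Y
  grind

theorem ovf_ne_zero (hF : Fintype.card F = 2 ^ (2 * m + 1)) (hm : 1 ≤ m) {x y : F}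
    (h : ¬ (x = 0 ∧ y = 0)) : ovf m x y ≠ 0 := by
  intro h0
  have hk := ovf_key hF x y
  have hs : (0 : F) ^ (2 ^ (m + 1)) = 0 := zero_pow (by positivity)
  rw [h0, hs] at hk
  simp only [mul_zero, zero_add, ne_eq, OfNat.ofNat_ne_zero, not_false_eq_true, zero_pow, add_zero] at hk
  have hy : y = 0 := by
    by_contra hy
    exact (mul_ne_zero (pow_ne_zero _ hy) (pow_ne_zero _ hy)) hk
  subst hy
  have hx : x = 0 := by
    by_contra hx
    have h1 : ovf m x (0 : F) = x ^ (2 ^ (m + 1)) * x ^ 2 := by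
      simp [ovf, hs]
    rw [h1] at h0
    exact (mul_ne_zero (pow_ne_zero _ hx) (pow_ne_zero _ hx)) h0
  exact h ⟨hx, rfl⟩

theorem W_smul_pt (hF : Fintype.card F = 2 ^ (2 * m + 1)) (hm : 1 ≤ m) {x y : F}
    (h : ¬ (x = 0 ∧ y = 0)) :
    W F • pt m x y = pt m (y / ovf m x y) (x / ovf m x y) := by
  have h2 := two_zero hF
  have hf := ovf_ne_zero hF hm h
  apply smul_pt_of _ (ovf m x y)
  have hk := ovf_key hF x y
  have hv : ovf m x y * ovf m (y / ovf m x y) (x / ovf m x y) = 1 := by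
    have e1 : (y / ovf m x y) ^ (2 ^ (m + 1)) = y ^ (2 ^ (m + 1)) / (ovf m x y) ^ (2 ^ (m + 1)) :=
      div_pow _ _ _
    have e2 : (x / ovf m x y) ^ (2 ^ (m + 1)) = x ^ (2 ^ (m + 1)) / (ovf m x y) ^ (2 ^ (m + 1)) :=
      div_pow _ _ _
    have hF0 : (ovf m x y) ^ (2 ^ (m + 1)) ≠ 0 := pow_ne_zero _ hf
    have e3 : ovf m (y / ovf m x y) (x / ovf m x y) = (y / ovf m x y) * (x / ovf m x y) +
        (y / ovf m x y) ^ (2 ^ (m + 1)) * (y / ovf m x y) ^ 2 + (x / ovf m x y) ^ (2 ^ (m + 1)) := rfl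
    rw [e3, e1, e2]
    generalize hf1 : ovf m x y = f at *
    generalize hF1 : f ^ (2 ^ (m + 1)) = S at *
    generalize x ^ (2 ^ (m + 1)) = X at *
    generalize y ^ (2 ^ (m + 1)) = Y at *
    field_simp
    linear_combination hk
  ext i
  fin_cases i
  · simp [Wm, ptv, Matrix.mulVec, dotProduct, Fin.sum_univ_four]
    exact hv.symm
  · simp [Wm, ptv, Matrix.mulVec, dotProduct, Fin.sum_univ_four]
    field_simp
  · simp [Wm, ptv, Matrix.mulVec, dotProduct, Fin.sum_univ_four]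
    field_simp
  · simp [Wm, ptv, Matrix.mulVec, dotProduct, Fin.sum_univ_four]

omit [Fintype F] in
theorem W_smul_pinf (hm : 1 ≤ m) : W F • pinf F = pt m (0 : F) 0 := by
  rw [pinf_eq, Projectivization.smul_mk, pt, Projectivization.mk_eq_mk_iff']
  have h1 : (0 : F) ^ (2 ^ (m + 1)) = 0 := zero_pow (by positivity)
  refine ⟨1, ?_⟩
  rw [one_smul]
  show ptv m 0 0 = (Wm F).mulVec ![1, 0, 0, 0]
  ext i
  fin_cases i <;> simp [Wm, ptv, ovf, h1, Matrix.mulVec, dotProduct, Fin.sum_univ_four]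

omit [Fintype F] in
theorem W_smul_pt_zero (hm : 1 ≤ m) : W F • pt m (0 : F) 0 = pinf F := by
  rw [← W_smul_pinf hm, smul_smul, W_sq, one_smul]

/-! ### Membership in the Suzuki group -/

omit [Fintype F] in
theorem mem_Sz_iff (g : Matrix.SpecialLinearGroup (Fin 4) F) :
    g ∈ Cfsg.Sz F m ↔ g • Cfsg.suzukiOvoid F m = Cfsg.suzukiOvoid F m := MulAction.mem_stabilizer_iff

theorem mem_Sz_of_subset (g : Matrix.SpecialLinearGroup (Fin 4) F)
    (h : ∀ p ∈ Cfsg.suzukiOvoid F m, g • p ∈ Cfsg.suzukiOvoid F m) : g ∈ Cfsg.Sz F m := by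
  rw [mem_Sz_iff]
  apply Set.eq_of_subset_of_ncard_le
  · rintro _ ⟨p, hp, rfl⟩
    exact h p hp
  · have : (g • Cfsg.suzukiOvoid F m).ncard = (Cfsg.suzukiOvoid F m).ncard :=
      Set.ncard_image_of_injective _ (MulAction.injective g)
    exact this.ge
  · exact Set.toFinite _

theorem U_mem (hF : Fintype.card F = 2 ^ (2 * m + 1)) (a b : F) : U m a b ∈ Cfsg.Sz F m := by
  apply mem_Sz_of_subset
  intro p hp
  rw [mem_ovoid] at hp ⊢
  rcases hp with rfl | ⟨x, y, rfl⟩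
  · exact Or.inl (U_smul_pinf a b)
  · exact Or.inr ⟨_, _, U_smul_pt hF a b x y⟩

theorem T_mem (hF : Fintype.card F = 2 ^ (2 * m + 1)) (t : Fˣ) : T m t ∈ Cfsg.Sz F m := by
  apply mem_Sz_of_subset
  intro p hp
  rw [mem_ovoid] at hp ⊢
  rcases hp with rfl | ⟨x, y, rfl⟩
  · exact Or.inl (T_smul_pinf t)
  · exact Or.inr ⟨_, _, T_smul_pt hF t x y⟩

theorem W_mem (hF : Fintype.card F = 2 ^ (2 * m + 1)) (hm : 1 ≤ m) : W F ∈ Cfsg.Sz F m := by
  apply mem_Sz_of_subset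
  intro p hp
  rw [mem_ovoid] at hp ⊢
  rcases hp with rfl | ⟨x, y, rfl⟩
  · exact Or.inr ⟨_, _, W_smul_pinf hm⟩
  · by_cases h : x = 0 ∧ y = 0
    · obtain ⟨rfl, rfl⟩ := h
      exact Or.inl (W_smul_pt_zero hm)
    · exact Or.inr ⟨_, _, W_smul_pt hF hm h⟩

end Cfsg.Agent.Lib.Suzuki
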