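import Cfsg.Agent.Lib.Suzuki.Tori

/-! The number of derangements in the Suzuki group. -/

set_option autoImplicit false

namespace Cfsg.Agent.Lib.Suzuki

open Finset

section general

variable {G : Type*} [Group G]

theorem card_filter_conj [Fintype G] [DecidableEq G] (k : G) (P R : G → Prop) [DecidablePred P] [DecidablePred R]
    (h : ∀ g, P g ↔ R (k * g * k⁻¹)) :
    (univ.filter P).card = (univ.filter R).card := by
  apply Finset.card_equiv (MulAut.conj k).toEquiv
  intro g
  simp only [mem_filter, mem_univ, true_and]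
  exact h g

/-- Counting conjugates of a subgroup which is the centraliser of each of its non-trivial elements. -/
theorem count_conj [Fintype G] [DecidableEq G] (A : Subgroup G) [DecidablePred (· ∈ A)]
    (hT : ∀ y ∈ A, y ≠ 1 → Subgroup.centralizer ({y} : Set G) = A) :
    Nat.card G * (Nat.card A - 1) ≤ Nat.card (Subgroup.normalizer (A : Set G)) *
      (((univ : Finset G) ×ˢ (univ.filter (fun y : G => y ∈ A ∧ y ≠ 1))).image
        (fun p : G × G => p.1 * p.2 * p.1⁻¹)).card := by
  classical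
  set S := (univ : Finset G) ×ˢ (univ.filter (fun y : G => y ∈ A ∧ y ≠ 1)) with hS
  have hcardS : S.card = Nat.card G * (Nat.card A - 1) := by
    rw [hS, Finset.card_product, Finset.card_univ, Nat.card_eq_fintype_card]
    congr 1
    have h1 : (univ.filter (fun y : G => y ∈ A ∧ y ≠ 1)) = (univ.filter (fun y : G => y ∈ A)).erase 1 := by
      ext y
      simp only [mem_filter, mem_univ, true_and, mem_erase]
      tauto
    rw [h1, Finset.card_erase_of_mem (by simp [A.one_mem]), ← Fintype.card_subtype,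
      Nat.card_eq_fintype_card]
  rw [← hcardS]
  apply Finset.card_le_mul_card_image
  intro g hg
  obtain ⟨⟨k₀, y₀⟩, h0, h0e⟩ := Finset.mem_image.mp hg
  simp only [hS, mem_product, mem_univ, true_and, mem_filter] at h0
  obtain ⟨hy₀, hy₀1⟩ := h0
  simp only at h0e
  have hle : (S.filter (fun p : G × G => p.1 * p.2 * p.1⁻¹ = g)).card ≤
      (univ.filter (fun h : G => h ∈ (Subgroup.normalizer (A : Set G)))).card := by
    apply Finset.card_le_card_of_injOn (fun p : G × G => p.1⁻¹ * k₀)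
    · rintro ⟨k, y⟩ hp
      simp only [coe_filter, Set.mem_setOf_eq, hS, mem_product, mem_univ, true_and, mem_filter] at hp
      obtain ⟨⟨hy, hy1⟩, hpe⟩ := hp
      simp only [coe_filter, mem_univ, true_and, Set.mem_setOf_eq]
      rw [Subgroup.mem_normalizer_iff]
      have hyh : (k⁻¹ * k₀) * y₀ * (k⁻¹ * k₀)⁻¹ = y := by
        have : (k⁻¹ * k₀) * y₀ * (k⁻¹ * k₀)⁻¹ = k⁻¹ * (k₀ * y₀ * k₀⁻¹) * k := by group
        rw [this, h0e, ← hpe]
        group
      intro z
      set h := k⁻¹ * k₀ with hh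
      constructor
      · intro hz
        have hzc : z ∈ Subgroup.centralizer ({y₀} : Set G) := by
          rw [hT y₀ hy₀ hy₀1]
          exact hz
        have hz2 : h * z * h⁻¹ ∈ Subgroup.centralizer ({y} : Set G) := by
          rw [Subgroup.mem_centralizer_singleton_iff] at hzc ⊢
          rw [← hyh]
          have e1 : h * z * h⁻¹ * (h * y₀ * h⁻¹) = h * (z * y₀) * h⁻¹ := by group
          have e2 : h * y₀ * h⁻¹ * (h * z * h⁻¹) = h * (y₀ * z) * h⁻¹ := by group
          rw [e1, e2, hzc]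
        rw [hT y hy hy1] at hz2
        exact hz2
      · intro hz
        have hzc : h * z * h⁻¹ ∈ Subgroup.centralizer ({y} : Set G) := by
          rw [hT y hy hy1]
          exact hz
        have hz2 : z ∈ Subgroup.centralizer ({y₀} : Set G) := by
          rw [Subgroup.mem_centralizer_singleton_iff] at hzc ⊢
          rw [← hyh] at hzc
          have e1 : h * z * h⁻¹ * (h * y₀ * h⁻¹) = h * (z * y₀) * h⁻¹ := by group
          have e2 : h * y₀ * h⁻¹ * (h * z * h⁻¹) = h * (y₀ * z) * h⁻¹ := by group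
          rw [e1, e2] at hzc
          have := mul_right_cancel hzc
          exact mul_left_cancel this
        rw [hT y₀ hy₀ hy₀1] at hz2
        exact hz2
    · rintro ⟨k, y⟩ hp ⟨k', y'⟩ hp' he
      simp only [coe_filter, Set.mem_setOf_eq, hS, mem_product, mem_univ, true_and, mem_filter] at hp hp'
      simp only at he
      have hk : k = k' := by
        have := mul_right_cancel he
        exact inv_injective this
      subst hk
      have : y = y' := by
        have h1 := hp.2.trans hp'.2.symm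
        have h2 := mul_right_cancel h1
        exact mul_left_cancel h2
      rw [this]
  refine hle.trans (le_of_eq ?_)
  rw [← Fintype.card_subtype, Nat.card_eq_fintype_card]

theorem cyc_comm {A : Subgroup G} [IsCyclic A] {a b : G} (ha : a ∈ A) (hb : b ∈ A) : a * b = b * a := by
  letI := IsCyclic.commGroup (α := A)
  exact congrArg Subtype.val (mul_comm (⟨a, ha⟩ : A) ⟨b, hb⟩)

end general

variable {F : Type*} [Field F] [Fintype F] {m : ℕ}
variable (hF : Fintype.card F = 2 ^ (2 * m + 1)) (hm : 1 ≤ m)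
include hF hm

theorem der_conj {x : Cfsg.Sz F m} (hx : Der x) (k : Cfsg.Sz F m) : Der (k * x * k⁻¹) := by
  intro p hp hf
  apply hx (k⁻¹ • p) (smul_mem_ovoid hF k⁻¹ hp)
  rw [eq_inv_smul_iff, ← mul_smul, ← mul_smul]
  exact hf

theorem der_ne_one {x : Cfsg.Sz F m} (hx : Der x) : x ≠ 1 := by
  rintro rfl
  exact hx _ (pinf_mem (m := m)) (one_smul _ _)

/-- A non-identity element of the centraliser of a derangement has the same centraliser. -/
theorem centralizer_eq_of_mem {x y : Cfsg.Sz F m} (hx : Der x)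
    (hy : y ∈ Subgroup.centralizer ({x} : Set (Cfsg.Sz F m))) (hy1 : y ≠ 1) :
    Subgroup.centralizer ({y} : Set (Cfsg.Sz F m)) = Subgroup.centralizer ({x} : Set (Cfsg.Sz F m)) := by
  have hc : y * x = x * y := Subgroup.mem_centralizer_singleton_iff.mp hy
  have hy' := der_of_commute hF hm hx hc hy1
  haveI cy := cyclic_centralizer hF hm hy'
  haveI cx := cyclic_centralizer hF hm hx
  have hxy : x ∈ Subgroup.centralizer ({y} : Set (Cfsg.Sz F m)) :=
    Subgroup.mem_centralizer_singleton_iff.mpr hc.symm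
  have hyy : y ∈ Subgroup.centralizer ({y} : Set (Cfsg.Sz F m)) :=
    Subgroup.mem_centralizer_singleton_iff.mpr rfl
  have hxx : x ∈ Subgroup.centralizer ({x} : Set (Cfsg.Sz F m)) :=
    Subgroup.mem_centralizer_singleton_iff.mpr rfl
  apply le_antisymm
  · intro z hz
    exact Subgroup.mem_centralizer_singleton_iff.mpr (cyc_comm hz hxy)
  · intro z hz
    exact Subgroup.mem_centralizer_singleton_iff.mpr (cyc_comm hz hy)

/-- The normaliser of the centraliser of a derangement has order at most four times its order. -/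
theorem card_normalizer_le {x : Cfsg.Sz F m} (hx : Der x) :
    Nat.card (Subgroup.normalizer ((Subgroup.centralizer ({x} : Set (Cfsg.Sz F m)) : Subgroup (Cfsg.Sz F m)) : Set (Cfsg.Sz F m))) ≤
      4 * Nat.card (Subgroup.centralizer ({x} : Set (Cfsg.Sz F m))) := by
  classical
  haveI := finite_Sz hF hm
  haveI : Fintype (Cfsg.Sz F m) := Fintype.ofFinite _
  let E := AlgebraicClosure F
  obtain ⟨l, v, hv, h⟩ := exists_eigen (E := E) hF hm x
  set C := Subgroup.centralizer ({x} : Set (Cfsg.Sz F m)) with hC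
  set N := Subgroup.normalizer ((C : Subgroup (Cfsg.Sz F m)) : Set (Cfsg.Sz F m)) with hN
  obtain ⟨f, hf, hfv⟩ : ∃ f : C →* E, Function.Injective f ∧
      ∀ y : C, Matrix.mulVec (ME E (y : Cfsg.Sz F m)) v = f y • v := der_char hF hm hx hv h
  have hxC : x ∈ C := Subgroup.mem_centralizer_singleton_iff.mpr rfl
  have hconj : ∀ n : N, (n : Cfsg.Sz F m) * x * (n : Cfsg.Sz F m)⁻¹ ∈ C := fun n =>
    (Subgroup.mem_normalizer_iff.mp n.2 x).mp hxC
  let ψ : N → E := fun n => f ⟨(n : Cfsg.Sz F m) * x * (n : Cfsg.Sz F m)⁻¹, hconj n⟩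
  have hp0 := root_of_eigenvector hF hm hv h
  have hl1 := der_eig_ne hF hm hx hv h
  have hl := der_eig_pow hF hm hx hv h
  have hroot : ∀ n : N, ψ n ∈ ({l, l⁻¹, l ^ 2 ^ (2 * m + 1), (l ^ 2 ^ (2 * m + 1))⁻¹} : Finset E) := by
    intro n
    have h3 := hfv ⟨(n : Cfsg.Sz F m) * x * (n : Cfsg.Sz F m)⁻¹, hconj n⟩
    have hp := root_of_eigenvector hF hm hv h3
    simp only [trG_conj] at hp
    have := roots_of_eigen hF hm hp0 hl1 hl hp
    simp only [Finset.mem_insert, Finset.mem_singleton]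
    exact this
  haveI : Fintype N := Fintype.ofFinite _
  have key := Finset.card_le_mul_card_image (f := ψ) (univ : Finset N) (Fintype.card C) (by
    intro a ha
    obtain ⟨n₀, -, rfl⟩ := Finset.mem_image.mp ha
    apply le_trans _ (le_of_eq (Fintype.card_subtype (· ∈ C)).symm)
    apply Finset.card_le_card_of_injOn (fun n : N => (n₀ : Cfsg.Sz F m)⁻¹ * n)
    · intro n hn
      have hn' : ψ n = ψ n₀ := (Finset.mem_filter.mp (Finset.mem_coe.mp hn)).2
      have h5 : (n : Cfsg.Sz F m) * x * (n : Cfsg.Sz F m)⁻¹ = (n₀ : Cfsg.Sz F m) * x * (n₀ : Cfsg.Sz F m)⁻¹ :=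
        congrArg Subtype.val (hf hn')
      simp only [coe_filter, mem_univ, true_and, Set.mem_setOf_eq]
      rw [Subgroup.mem_centralizer_singleton_iff]
      have e : (n₀ : Cfsg.Sz F m)⁻¹ * n * x = (n₀ : Cfsg.Sz F m)⁻¹ * ((n : Cfsg.Sz F m) * x * (n : Cfsg.Sz F m)⁻¹) * n := by group
      rw [e, h5]
      group
    · intro n _ n' _ he
      exact Subtype.ext (mul_left_cancel he))
  rw [Finset.card_univ] at key
  rw [Nat.card_eq_fintype_card, Nat.card_eq_fintype_card]
  refine key.trans ?_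
  rw [mul_comm]
  apply Nat.mul_le_mul_right
  refine (Finset.card_le_card (t := {l, l⁻¹, l ^ 2 ^ (2 * m + 1), (l ^ 2 ^ (2 * m + 1))⁻¹}) ?_).trans Finset.card_le_four
  intro y hy
  obtain ⟨n, -, rfl⟩ := Finset.mem_image.mp hy
  exact hroot n

/-- The centraliser of an element of order `q + σ + 1`. -/
theorem card_centralizer_plus {x : Cfsg.Sz F m} (hx : Der x)
    (hor : orderOf x = 2 ^ (2 * m + 1) + 2 ^ (m + 1) + 1) :
    Nat.card (Subgroup.centralizer ({x} : Set (Cfsg.Sz F m))) = 2 ^ (2 * m + 1) + 2 ^ (m + 1) + 1 := by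
  haveI := finite_Sz hF hm
  haveI cx := cyclic_centralizer hF hm hx
  obtain ⟨c, hc⟩ := IsCyclic.exists_generator (α := Subgroup.centralizer ({x} : Set (Cfsg.Sz F m)))
  have hord : orderOf c = Nat.card (Subgroup.centralizer ({x} : Set (Cfsg.Sz F m))) :=
    orderOf_eq_card_of_forall_mem_zpowers hc
  have hxC : x ∈ Subgroup.centralizer ({x} : Set (Cfsg.Sz F m)) := Subgroup.mem_centralizer_singleton_iff.mpr rfl
  have h1 : orderOf x ∣ Nat.card (Subgroup.centralizer ({x} : Set (Cfsg.Sz F m))) := by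
    have := Subgroup.orderOf_dvd_natCard (Subgroup.centralizer ({x} : Set (Cfsg.Sz F m))) hxC
    exact this
  have hc1 : (c : Cfsg.Sz F m) ≠ 1 := by
    intro e
    have e2 : c = 1 := Subtype.ext e
    rw [e2, orderOf_one] at hord
    rw [← hord] at h1
    have : orderOf x = 1 := Nat.dvd_one.mp h1
    rw [hor] at this
    have h2 : 0 < 2 ^ (m + 1) := by positivity
    omega
  have hder := der_of_commute hF hm hx (Subgroup.mem_centralizer_singleton_iff.mp c.2) hc1
  have ho : orderOf (c : Cfsg.Sz F m) = orderOf c := Subgroup.orderOf_coe c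
  rw [hor] at h1
  rcases der_order_dvd hF hm hder with h3 | h3
  · rw [ho, hord] at h3
    exact Nat.dvd_antisymm h3 h1
  · rw [ho, hord] at h3
    exfalso
    have := Nat.le_of_dvd (by omega) (h1.trans h3)
    have := am_lt_ap m
    omega

/-- The centraliser of an element of order `q - σ + 1`. -/
theorem card_centralizer_minus {x : Cfsg.Sz F m} (hx : Der x)
    (hor : orderOf x = 2 ^ (2 * m + 1) - 2 ^ (m + 1) + 1) :
    Nat.card (Subgroup.centralizer ({x} : Set (Cfsg.Sz F m))) = 2 ^ (2 * m + 1) - 2 ^ (m + 1) + 1 := by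
  haveI := finite_Sz hF hm
  haveI cx := cyclic_centralizer hF hm hx
  obtain ⟨c, hc⟩ := IsCyclic.exists_generator (α := Subgroup.centralizer ({x} : Set (Cfsg.Sz F m)))
  have hord : orderOf c = Nat.card (Subgroup.centralizer ({x} : Set (Cfsg.Sz F m))) :=
    orderOf_eq_card_of_forall_mem_zpowers hc
  have hxC : x ∈ Subgroup.centralizer ({x} : Set (Cfsg.Sz F m)) := Subgroup.mem_centralizer_singleton_iff.mpr rfl
  have h1 : orderOf x ∣ Nat.card (Subgroup.centralizer ({x} : Set (Cfsg.Sz F m))) := by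
    have := Subgroup.orderOf_dvd_natCard (Subgroup.centralizer ({x} : Set (Cfsg.Sz F m))) hxC
    exact this
  have hgt := am_gt m hm
  have hc1 : (c : Cfsg.Sz F m) ≠ 1 := by
    intro e
    have e2 : c = 1 := Subtype.ext e
    rw [e2, orderOf_one] at hord
    rw [← hord] at h1
    have : orderOf x = 1 := Nat.dvd_one.mp h1
    omega
  have hder := der_of_commute hF hm hx (Subgroup.mem_centralizer_singleton_iff.mp c.2) hc1
  have ho : orderOf (c : Cfsg.Sz F m) = orderOf c := Subgroup.orderOf_coe c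
  rw [hor] at h1
  rcases der_order_dvd hF hm hder with h3 | h3
  · rw [ho, hord] at h3
    exfalso
    have h5 := h1.trans h3
    have h6 := Nat.Coprime.eq_one_of_dvd (pm_coprime m).symm h5
    omega
  · rw [ho, hord] at h3
    exact Nat.dvd_antisymm h3 h1

/-- The number of derangements. -/
theorem two_card_der :
    2 * Nat.card {g : Cfsg.Sz F m // Der g} =
      (2 ^ (2 * m + 1)) ^ 3 * (2 ^ (2 * m + 1) - 1) ^ 2 := by
  classical
  haveI := finite_Sz hF hm
  haveI : Fintype (Cfsg.Sz F m) := Fintype.ofFinite _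
  haveI : Finite (Cfsg.suzukiOvoid F m) := Finite.of_equiv _ (ovoidEquiv F m)
  let O : Finset (Projectivization F (Fin 4 → F)) := (Set.toFinite (Cfsg.suzukiOvoid F m)).toFinset
  have hOmem : ∀ p, p ∈ O ↔ p ∈ Cfsg.suzukiOvoid F m := fun p => Set.Finite.mem_toFinset _
  have hOcard : O.card = (2 ^ (2 * m + 1)) ^ 2 + 1 := by
    have h1 := ovoid_card (F := F) m
    rw [_root_.Nat.card_coe_set_eq, Set.ncard_eq_toFinset_card _ (Set.toFinite _), hF] at h1
    exact h1
  let Fx : Cfsg.Sz F m → Finset (Projectivization F (Fin 4 → F)) := fun g => O.filter (fun p => g • p = p)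
  have S1 : ∑ g, (Fx g).card = ∑ p ∈ O, (univ.filter (fun g : Cfsg.Sz F m => g • p = p)).card :=
    Finset.sum_card_bipartiteAbove_eq_sum_card_bipartiteBelow _
  have hq1 : 1 ≤ 2 ^ (2 * m + 1) := Nat.one_le_two_pow
  have hstab : ∀ p ∈ O, (univ.filter (fun g : Cfsg.Sz F m => g • p = p)).card =
      (2 ^ (2 * m + 1)) ^ 2 * (2 ^ (2 * m + 1) - 1) := by
    intro p hp
    obtain ⟨k, hk⟩ := exists_smul_pinf hF hm ((hOmem p).mp hp)
    rw [card_filter_conj k _ (fun g : Cfsg.Sz F m => g • pinf F = pinf F) (by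
      intro g
      rw [← hk]
      simp only [mul_smul, inv_smul_smul]
      exact (smul_left_cancel_iff k).symm)]
    rw [← card_stab hF hm, Nat.card_eq_fintype_card, Fintype.card_subtype]
    rfl
  have S2 : ∑ g, ((Fx g).offDiag).card = ∑ pr ∈ O.offDiag,
      (univ.filter (fun g : Cfsg.Sz F m => g • pr.1 = pr.1 ∧ g • pr.2 = pr.2)).card := by
    have h := Finset.sum_card_bipartiteAbove_eq_sum_card_bipartiteBelow (s := (univ : Finset (Cfsg.Sz F m)))
      (t := O.offDiag) (fun g (pr : Projectivization F (Fin 4 → F) × Projectivization F (Fin 4 → F)) =>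
        g • pr.1 = pr.1 ∧ g • pr.2 = pr.2)
    refine Eq.trans ?_ h
    apply Finset.sum_congr rfl
    intro g _
    congr 1
    ext ⟨p, r⟩
    simp only [Fx, Finset.mem_offDiag, Finset.mem_filter, Finset.bipartiteAbove]
    tauto
  have hstab2 : ∀ pr ∈ O.offDiag, (univ.filter (fun g : Cfsg.Sz F m => g • pr.1 = pr.1 ∧ g • pr.2 = pr.2)).card =
      2 ^ (2 * m + 1) - 1 := by
    rintro ⟨p, r⟩ hpr
    obtain ⟨hp, hr, hne⟩ := Finset.mem_offDiag.mp hpr
    obtain ⟨k, hk1, hk2⟩ := exists_to_base hF hm ((hOmem p).mp hp) ((hOmem r).mp hr) hne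
    simp only
    rw [card_filter_conj k _ (fun g : Cfsg.Sz F m => g • pinf F = pinf F ∧ g • pt m (0 : F) 0 = pt m (0 : F) 0) (by
      intro g
      rw [← hk1, ← hk2]
      simp only [mul_smul, inv_smul_smul]
      rw [smul_left_cancel_iff, smul_left_cancel_iff])]
    have e : (univ.filter (fun g : Cfsg.Sz F m => g • pinf F = pinf F ∧ g • pt m (0 : F) 0 = pt m (0 : F) 0)) =
        (univ : Finset Fˣ).image (tG hF) := by
      ext g
      simp only [mem_filter, mem_univ, true_and, mem_image]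
      rw [fix_two_iff hF hm]
      constructor
      · rintro ⟨t, rfl⟩
        exact ⟨t, rfl⟩
      · rintro ⟨t, rfl⟩
        exact ⟨t, rfl⟩
    rw [e, Finset.card_image_of_injective _ (fun s t h => tG_inj hF h), Finset.card_univ,
      Fintype.card_units, hF]
  have hcard := card_Sz hF hm
  -- the value of the sums
  have T1 : ∑ g, ((Fx g).card : ℤ) = ((2 ^ (2 * m + 1) : ℕ) ^ 2 + 1) * ((2 ^ (2 * m + 1) : ℕ) ^ 2 * ((2 ^ (2 * m + 1) : ℕ) - 1)) := by
    have h := congrArg (Nat.cast (R := ℤ)) S1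
    rw [Finset.sum_congr rfl hstab, Finset.sum_const, hOcard] at h
    push_cast at h
    rw [h]
    simp only [nsmul_eq_mul]
    push_cast [hq1]
    ring
  have T2 : ∑ g, (((Fx g).offDiag).card : ℤ) = ((2 ^ (2 * m + 1) : ℕ) ^ 2 + 1) * ((2 ^ (2 * m + 1) : ℕ) ^ 2 * ((2 ^ (2 * m + 1) : ℕ) - 1)) := by
    have h := congrArg (Nat.cast (R := ℤ)) S2
    rw [Finset.sum_congr rfl hstab2, Finset.sum_const, Finset.offDiag_card, hOcard] at h
    push_cast at h
    rw [h]
    have hle : ((2 ^ (2 * m + 1)) ^ 2 + 1) ≤ ((2 ^ (2 * m + 1)) ^ 2 + 1) * ((2 ^ (2 * m + 1)) ^ 2 + 1) :=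
      Nat.le_mul_self _
    simp only [nsmul_eq_mul]
    push_cast [hq1, hle]
    ring
  have T0 : ∑ _g : Cfsg.Sz F m, (1 : ℤ) = ((2 ^ (2 * m + 1) : ℕ) ^ 2) * ((2 ^ (2 * m + 1) : ℕ) ^ 2 + 1) * ((2 ^ (2 * m + 1) : ℕ) - 1) := by
    rw [Finset.sum_const, Finset.card_univ, ← Nat.card_eq_fintype_card, hcard]
    simp only [nsmul_eq_mul, mul_one]
    push_cast [hq1]
    ring
  -- pointwise evaluation
  have hpt : ∀ g : Cfsg.Sz F m, (((Fx g).card : ℤ) - 1) * (((Fx g).card : ℤ) - 2) =
      (if g = 1 then ((2 ^ (2 * m + 1) : ℕ) ^ 2 * ((2 ^ (2 * m + 1) : ℕ) ^ 2 - 1) : ℤ) else 0) + (if Der g then 2 else 0) := by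
    intro g
    by_cases hg : g = 1
    · subst hg
      have h0 : Fx 1 = O := by
        simp [Fx]
      have hd : ¬ Der (1 : Cfsg.Sz F m) := fun h => der_ne_one hF hm h rfl
      rw [h0, hOcard, if_pos rfl, if_neg hd]
      push_cast
      ring
    · rw [if_neg hg, zero_add]
      by_cases hd : Der g
      · rw [if_pos hd]
        have h0 : Fx g = ∅ := by
          apply Finset.filter_eq_empty_iff.mpr
          intro p hp
          exact hd p ((hOmem p).mp hp)
        rw [h0]
        simp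
      · rw [if_neg hd]
        have h1 : (Fx g).Nonempty := by
          simp only [Der] at hd
          push Not at hd
          obtain ⟨p, hp, hf⟩ := hd
          exact ⟨p, Finset.mem_filter.mpr ⟨(hOmem p).mpr hp, hf⟩⟩
        have h2 : (Fx g).card ≤ 2 := by
          by_contra hcon
          push Not at hcon
          obtain ⟨a, b, c, ha, hb, hc, hab, hac, hbc⟩ := Finset.two_lt_card_iff.mp hcon
          obtain ⟨ha1, ha2⟩ := Finset.mem_filter.mp ha
          obtain ⟨hb1, hb2⟩ := Finset.mem_filter.mp hb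
          obtain ⟨hc1, hc2⟩ := Finset.mem_filter.mp hc
          exact hg (fix_three hF hm ((hOmem a).mp ha1) ((hOmem b).mp hb1) ((hOmem c).mp hc1) hab hbc hac ha2 hb2 hc2)
        have h3 := Finset.card_pos.mpr h1
        have h4 : (Fx g).card = 1 ∨ (Fx g).card = 2 := by omega
        rcases h4 with h4 | h4 <;> rw [h4] <;> norm_num
  have hpt2 : ∀ g : Cfsg.Sz F m, (((Fx g).card : ℤ) - 1) * (((Fx g).card : ℤ) - 2) =
      (((Fx g).offDiag).card : ℤ) - 2 * ((Fx g).card : ℤ) + 2 * 1 := by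
    intro g
    rw [Finset.offDiag_card]
    have hle : (Fx g).card ≤ (Fx g).card * (Fx g).card := Nat.le_mul_self _
    push_cast [hle]
    ring
  have hsum1 : ∑ g : Cfsg.Sz F m, (((Fx g).card : ℤ) - 1) * (((Fx g).card : ℤ) - 2) =
      (((2 ^ (2 * m + 1) : ℕ) ^ 2) * ((2 ^ (2 * m + 1) : ℕ) ^ 2 + 1) * ((2 ^ (2 * m + 1) : ℕ) - 1) : ℤ) := by
    rw [Finset.sum_congr rfl (fun g _ => hpt2 g), Finset.sum_add_distrib, Finset.sum_sub_distrib,
      ← Finset.mul_sum, ← Finset.mul_sum, T2, T1, T0]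
    ring
  have hsum2 : ∑ g : Cfsg.Sz F m, (((Fx g).card : ℤ) - 1) * (((Fx g).card : ℤ) - 2) =
      ((2 ^ (2 * m + 1) : ℕ) ^ 2 * ((2 ^ (2 * m + 1) : ℕ) ^ 2 - 1) : ℤ) + 2 * Nat.card {g : Cfsg.Sz F m // Der g} := by
    rw [Finset.sum_congr rfl (fun g _ => hpt g), Finset.sum_add_distrib, Finset.sum_ite_eq', if_pos (mem_univ _)]
    congr 1
    rw [Nat.card_eq_fintype_card, Fintype.card_subtype, Finset.sum_ite, Finset.sum_const_zero, add_zero,
      Finset.sum_const]
    simp only [nsmul_eq_mul]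
    ring
  rw [hsum1] at hsum2
  have hfin : ((2 * Nat.card {g : Cfsg.Sz F m // Der g} : ℕ) : ℤ) =
      (((2 ^ (2 * m + 1)) ^ 3 * (2 ^ (2 * m + 1) - 1) ^ 2 : ℕ) : ℤ) := by
    push_cast [hq1]
    push_cast at hsum2
    linear_combination -hsum2
  exact_mod_cast hfin

end Cfsg.Agent.Lib.Suzuki
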