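import Cfsg.Agent.Lib.Suzuki.Central

/-! The Suzuki groups have no minimal cover by nilpotent subgroups. -/

set_option autoImplicit false

namespace Cfsg.Agent.Lib.Suzuki

open Matrix
open scoped Pointwise

variable {F : Type*} [Field F] [Fintype F] {m : ℕ}
variable (hF : Fintype.card F = 2 ^ (2 * m + 1)) (hm : 1 ≤ m)
include hF hm

/-- The point stabilisers are proper. -/
theorem stab_ne_top {p : Projectivization F (Fin 4 → F)} (hp : p ∈ Cfsg.suzukiOvoid F m) :
    MulAction.stabilizer (Cfsg.Sz F m) p ≠ ⊤ := by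
  intro h
  have hall : ∀ g : Cfsg.Sz F m, g • p = p := fun g => by
    have : g ∈ MulAction.stabilizer (Cfsg.Sz F m) p := by
      rw [h]
      exact Subgroup.mem_top g
    exact this
  rcases (mem_ovoid _).mp hp with rfl | ⟨x, y, rfl⟩
  · exact (wG_not_mem_BB hF hm) (hall _)
  · exact one_ne_zero (uG_fix hF hm (hall (uG hF 1 0))).1

/-- The main theorem for the ovoid model. -/
theorem no_min_nil_cover :
    ¬ ∃ A : Finset (Subgroup (Cfsg.Sz F m)), ((∀ X ∈ A, X ≠ ⊤) ∧ (∀ g, ∃ X ∈ A, g ∈ X)) ∧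
      (∀ B : Finset (Subgroup (Cfsg.Sz F m)), ((∀ X ∈ B, X ≠ ⊤) ∧ (∀ g, ∃ X ∈ B, g ∈ X)) → A.card ≤ B.card) ∧
      (∀ X ∈ A, Group.IsNilpotent X) := by
  classical
  rintro ⟨A, ⟨hprop, hcov⟩, hmin, hnil⟩
  haveI : Fintype (Cfsg.suzukiOvoid F m) := Fintype.ofFinite _
  -- data attached to a point
  have hU : ∀ p : Cfsg.suzukiOvoid F m, ∃ k : Cfsg.Sz F m, k • (p : Projectivization F (Fin 4 → F)) = pinf F :=
    fun p => exists_smul_pinf hF hm p.2
  choose k hk using hU
  have huG1 : uG hF 1 0 ≠ 1 := by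
    intro h
    rw [← uG_zero hF hm] at h
    exact one_ne_zero (uG_inj hF h).1
  have hup : ∀ p, ∃ X ∈ A, (k p)⁻¹ * uG hF 1 0 * k p ∈ X := fun p => hcov _
  choose X hXA hX using hup
  -- `X p` lies in the conjugate of `U`
  have hXle : ∀ p, ∀ y ∈ X p, k p * y * (k p)⁻¹ ∈ UU hF hm := by
    intro p
    have hle : X p ≤ (UU hF hm).comap (MulAut.conj (k p)).toMonoidHom := by
      apply nilpotent_le_of_centralizer (hnil _ (hXA p)) (hX p)
      · intro h
        apply huG1
        have : uG hF 1 0 = k p * ((k p)⁻¹ * uG hF 1 0 * k p) * (k p)⁻¹ := by group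
        rw [this, h]
        group
      · intro y hy
        apply centralizer_uG hF hm huG1
        show k p * y * (k p)⁻¹ * uG hF 1 0 = uG hF 1 0 * (k p * y * (k p)⁻¹)
        have e1 : y = (k p)⁻¹ * (k p * y * (k p)⁻¹) * k p := by group
        rw [e1] at hy
        have e2 : ((k p)⁻¹ * (k p * y * (k p)⁻¹) * k p) * ((k p)⁻¹ * uG hF 1 0 * k p) =
            (k p)⁻¹ * ((k p * y * (k p)⁻¹) * uG hF 1 0) * k p := by group
        have e3 : ((k p)⁻¹ * uG hF 1 0 * k p) * ((k p)⁻¹ * (k p * y * (k p)⁻¹) * k p) =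
            (k p)⁻¹ * (uG hF 1 0 * (k p * y * (k p)⁻¹)) * k p := by group
        rw [e2, e3] at hy
        exact mul_left_cancel (mul_right_cancel hy)
      · intro z hz hz1 y hy
        obtain ⟨a, b, hab⟩ : k p * z * (k p)⁻¹ ∈ UU hF hm := hz
        have hne : uG hF a b ≠ 1 := by
          rw [← hab]
          intro h
          apply hz1
          have : z = (k p)⁻¹ * (k p * z * (k p)⁻¹) * k p := by group
          rw [this, h]
          group
        apply centralizer_uG hF hm hne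
        show k p * y * (k p)⁻¹ * uG hF a b = uG hF a b * (k p * y * (k p)⁻¹)
        rw [← hab]
        have e2 : k p * y * (k p)⁻¹ * (k p * z * (k p)⁻¹) = k p * (y * z) * (k p)⁻¹ := by group
        have e3 : k p * z * (k p)⁻¹ * (k p * y * (k p)⁻¹) = k p * (z * y) * (k p)⁻¹ := by group
        rw [e2, e3, hy]
    exact fun y hy => hle hy
  -- consequences for stabilisers and fixed points
  have hXstab : ∀ p : Cfsg.suzukiOvoid F m, X p ≤ MulAction.stabilizer (Cfsg.Sz F m) (p : Projectivization F (Fin 4 → F)) := by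
    intro p y hy
    rw [MulAction.mem_stabilizer_iff]
    have h1 : (k p * y * (k p)⁻¹) • pinf F = pinf F :=
      MulAction.mem_stabilizer_iff.mp (UU_le_BB hF hm (hXle p y hy))
    rw [← hk p] at h1
    simp only [mul_smul, inv_smul_smul] at h1
    exact MulAction.injective (k p) h1
  have hXfix : ∀ (p : Cfsg.suzukiOvoid F m) (y : Cfsg.Sz F m), y ∈ X p → y ≠ 1 →
      ∀ r : Cfsg.suzukiOvoid F m, y • (r : Projectivization F (Fin 4 → F)) = r → r = p := by
    intro p y hy hy1 r hr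
    have h0 := hXle p y hy
    have hne : k p * y * (k p)⁻¹ ≠ 1 := by
      intro h
      apply hy1
      have : y = (k p)⁻¹ * (k p * y * (k p)⁻¹) * k p := by group
      rw [this, h]
      group
    have hmem := smul_mem_ovoid hF (k p) r.2
    have h5 : (k p * y * (k p)⁻¹) • (k p • (r : Projectivization F (Fin 4 → F))) = k p • (r : Projectivization F (Fin 4 → F)) := by
      simp only [mul_smul, inv_smul_smul, hr]
    rcases (mem_ovoid _).mp hmem with h4 | ⟨x, z, h4⟩
    · rw [← hk p] at h4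
      exact Subtype.ext (MulAction.injective (k p) h4)
    · exfalso
      rw [h4] at h5
      exact uG_fix_pt hF hm h0 hne h5
  have hu1 : ∀ p, (k p)⁻¹ * uG hF 1 0 * k p ≠ 1 := by
    intro p h
    apply huG1
    have : uG hF 1 0 = k p * ((k p)⁻¹ * uG hF 1 0 * k p) * (k p)⁻¹ := by group
    rw [this, h]
    group
  have huFix : ∀ p : Cfsg.suzukiOvoid F m, ((k p)⁻¹ * uG hF 1 0 * k p) • (p : Projectivization F (Fin 4 → F)) = p := by
    intro p
    rw [mul_smul, mul_smul, hk p, uG_smul_pinf hF, inv_smul_eq_iff, hk p]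
  -- the torus member
  obtain ⟨t0, ht0⟩ := exists_unit_ne_one hF hm
  have ht1 : tG hF t0 ≠ 1 := by
    intro h
    rw [← tG_one hF] at h
    exact ht0 (tG_inj hF h)
  obtain ⟨XT, hXTA, hXT⟩ := hcov (tG hF t0)
  have hXTle : XT ≤ TT hF := by
    apply nilpotent_le_of_centralizer (hnil _ hXTA) hXT ht1
    · intro y hy
      exact centralizer_tG hF hm ht0 hy
    · intro z hz hz1 y hy
      obtain ⟨s, rfl⟩ := hz
      have hs : s ≠ 1 := by
        rintro rfl
        exact hz1 (tG_one hF)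
      exact centralizer_tG hF hm hs hy
  have hXTstab : XT ≤ MulAction.stabilizer (Cfsg.Sz F m) (pinf F) :=
    hXTle.trans (TT_le_BB hF hm)
  -- the injection
  let S : Finset (Subgroup (Cfsg.Sz F m)) :=
    A.filter (fun Y => ∃ p : Cfsg.suzukiOvoid F m, Y ≤ MulAction.stabilizer (Cfsg.Sz F m) (p : Projectivization F (Fin 4 → F)))
  let f : Option (Cfsg.suzukiOvoid F m) → Subgroup (Cfsg.Sz F m) := fun o =>
    match o with
    | none => XT
    | some p => X p
  have hfS : ∀ o ∈ (Finset.univ : Finset (Option (Cfsg.suzukiOvoid F m))), f o ∈ S := by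
    rintro (_ | p) -
    · exact Finset.mem_filter.mpr ⟨hXTA, ⟨⟨pinf F, pinf_mem⟩, hXTstab⟩⟩
    · exact Finset.mem_filter.mpr ⟨hXA p, ⟨p, hXstab p⟩⟩
  have hfinj : Function.Injective f := by
    have hpinf : (pinf F) ≠ pt m (0 : F) 0 := (pt_ne_pinf _ _).symm
    have key : ∀ p : Cfsg.suzukiOvoid F m, XT ≠ X p := by
      intro p h
      have h1 : tG hF t0 ∈ X p := h ▸ hXT
      have h3 := hXfix p _ h1 ht1 ⟨pinf F, pinf_mem⟩ (tG_smul_pinf hF t0)
      have h4 := hXfix p _ h1 ht1 ⟨pt m 0 0, pt_mem 0 0⟩ (tG_smul_pt_zero hF t0)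
      exact hpinf (congrArg Subtype.val (h3.trans h4.symm))
    rintro (_ | p) (_ | r) h
    · rfl
    · exact absurd h (key r)
    · exact absurd h.symm (key p)
    · have h1 : (k p)⁻¹ * uG hF 1 0 * k p ∈ X r := (show X p = X r from h) ▸ hX p
      have h3 := hXfix r _ h1 (hu1 p) p (huFix p)
      rw [h3]
  have hcardS : Fintype.card (Cfsg.suzukiOvoid F m) + 1 ≤ S.card := by
    have h1 := Finset.card_le_card_of_injOn f hfS (fun a _ b _ h => hfinj h)
    simpa [Fintype.card_option] using h1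
  -- the new cover
  let stabs : Finset (Subgroup (Cfsg.Sz F m)) :=
    (Finset.univ : Finset (Cfsg.suzukiOvoid F m)).image
      (fun p : Cfsg.suzukiOvoid F m => MulAction.stabilizer (Cfsg.Sz F m) (p : Projectivization F (Fin 4 → F)))
  let B := (A \ S) ∪ stabs
  have hB := hmin B ⟨?_, ?_⟩
  · have h1 : B.card ≤ (A \ S).card + stabs.card := Finset.card_union_le _ _
    have h3 : stabs.card ≤ Fintype.card (Cfsg.suzukiOvoid F m) := Finset.card_image_le
    have h4 : (A \ S).card = A.card - S.card := Finset.card_sdiff_of_subset (Finset.filter_subset _ _)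
    have h5 : S.card ≤ A.card := Finset.card_le_card (Finset.filter_subset _ _)
    omega
  · intro Y hY
    rcases Finset.mem_union.mp hY with h | h
    · exact hprop Y (Finset.mem_sdiff.mp h).1
    · obtain ⟨p, -, rfl⟩ := Finset.mem_image.mp h
      exact stab_ne_top hF hm p.2
  · intro g
    obtain ⟨Y, hY, hg⟩ := hcov g
    by_cases hYS : Y ∈ S
    · obtain ⟨p, hp⟩ := (Finset.mem_filter.mp hYS).2
      exact ⟨_, Finset.mem_union_right _ (Finset.mem_image_of_mem _ (Finset.mem_univ p)), hp hg⟩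
    · exact ⟨Y, Finset.mem_union_left _ (Finset.mem_sdiff.mpr ⟨hY, hYS⟩), hg⟩

omit hF hm in
/-- Transfer of the nonexistence of a minimal nilpotent cover along an isomorphism. -/
theorem cover_transfer {G G' : Type*} [Group G] [Group G'] (e : G' ≃* G)
    (h : ¬ ∃ A : Finset (Subgroup G), ((∀ X ∈ A, X ≠ ⊤) ∧ (∀ g, ∃ X ∈ A, g ∈ X)) ∧
      (∀ B : Finset (Subgroup G), ((∀ X ∈ B, X ≠ ⊤) ∧ (∀ g, ∃ X ∈ B, g ∈ X)) → A.card ≤ B.card) ∧
      (∀ X ∈ A, Group.IsNilpotent X)) :
    ¬ ∃ A : Finset (Subgroup G'), ((∀ X ∈ A, X ≠ ⊤) ∧ (∀ g, ∃ X ∈ A, g ∈ X)) ∧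
      (∀ B : Finset (Subgroup G'), ((∀ X ∈ B, X ≠ ⊤) ∧ (∀ g, ∃ X ∈ B, g ∈ X)) → A.card ≤ B.card) ∧
      (∀ X ∈ A, Group.IsNilpotent X) := by
  classical
  rintro ⟨A, ⟨h1, h2⟩, h3, h4⟩
  let f := e.mapSubgroup
  apply h
  refine ⟨A.image f, ⟨?_, ?_⟩, ?_, ?_⟩
  · intro X hX
    obtain ⟨Y, hY, rfl⟩ := Finset.mem_image.mp hX
    intro h5
    apply h1 Y hY
    apply f.injective
    rw [h5, map_top]
  · intro g
    obtain ⟨X, hX, hg⟩ := h2 (e.symm g)
    exact ⟨f X, Finset.mem_image_of_mem _ hX, ⟨e.symm g, hg, by simp⟩⟩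
  · intro B ⟨hB1, hB2⟩
    rw [Finset.card_image_of_injective _ f.injective]
    have h5 := h3 (B.image f.symm) ⟨?_, ?_⟩
    · exact h5.trans Finset.card_image_le
    · intro X hX
      obtain ⟨Y, hY, rfl⟩ := Finset.mem_image.mp hX
      intro h6
      apply hB1 Y hY
      apply f.symm.injective
      rw [h6, map_top]
    · intro g
      obtain ⟨X, hX, hg⟩ := hB2 (e g)
      refine ⟨f.symm X, Finset.mem_image_of_mem _ hX, ?_⟩
      have h7 : e g ∈ f (f.symm X) := by
        rw [f.apply_symm_apply]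
        exact hg
      obtain ⟨g', hg', h8⟩ := h7
      have h9 := e.injective h8
      rw [← h9]
      exact hg'
  · intro X hX
    obtain ⟨Y, hY, rfl⟩ := Finset.mem_image.mp hX
    haveI := h4 Y hY
    exact Group.nilpotent_of_mulEquiv (Subgroup.equivMapOfInjective Y (e : G' →* G) e.injective)

/-- The main theorem for the second model. -/
theorem no_min_nil_cover_lie :
    ¬ ∃ A : Finset (Subgroup (Cfsg.Lie.Sz F (2 ^ (m + 1)))), ((∀ X ∈ A, X ≠ ⊤) ∧ (∀ g, ∃ X ∈ A, g ∈ X)) ∧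
      (∀ B : Finset (Subgroup (Cfsg.Lie.Sz F (2 ^ (m + 1)))), ((∀ X ∈ B, X ≠ ⊤) ∧ (∀ g, ∃ X ∈ B, g ∈ X)) → A.card ≤ B.card) ∧
      (∀ X ∈ A, Group.IsNilpotent X) :=
  cover_transfer (szEquiv hF hm).symm (no_min_nil_cover hF hm)

end Cfsg.Agent.Lib.Suzuki
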