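import Cfsg.Agent.Lib.Suzuki.Eig

/-! Centralisers of derangements in the Suzuki group are cyclic. -/

set_option autoImplicit false

namespace Cfsg.Agent.Lib.Suzuki

open Matrix Polynomial

variable {F : Type*} [Field F] [Fintype F] {m : ℕ}
variable {E : Type*} [Field E] [Algebra F E]
variable (hF : Fintype.card F = 2 ^ (2 * m + 1)) (hm : 1 ≤ m)

omit [Fintype F] in
theorem coe_pow_Sz (g : Cfsg.Sz F m) (n : ℕ) :
    ((g ^ n : Cfsg.Sz F m) : Matrix.SpecialLinearGroup (Fin 4) F).1 = (g : Matrix.SpecialLinearGroup (Fin 4) F).1 ^ n := by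
  simp

include hF hm

/-- A nonzero fixed vector forces order dividing four. -/
theorem pow_four_of_eig {g : Cfsg.Sz F m} {v : Fin 4 → E} (hv : v ≠ 0) (h : ME E g *ᵥ v = v) : g ^ 4 = 1 := by
  have h1 := pow_four_of_fix hF (form_Sz hF hm g.2) (law_Sz hF hm g.2) hv h
  apply Subtype.ext
  apply Subtype.ext
  rw [coe_pow_Sz]
  exact h1

/-- Eigenvectors exist over an algebraically closed field. -/
theorem exists_eigen [IsAlgClosed E] (g : Cfsg.Sz F m) :
    ∃ (l : E) (v : Fin 4 → E), v ≠ 0 ∧ ME E g *ᵥ v = l • v := by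
  have hdeg : (((g : Matrix.SpecialLinearGroup (Fin 4) F).1.charpoly).map (algebraMap F E)).degree ≠ 0 := by
    rw [Polynomial.degree_map, Matrix.charpoly_degree_eq_dim]
    simp
  obtain ⟨l, hl⟩ := IsAlgClosed.exists_root _ hdeg
  have hl2 : PE m (trG g) l = 0 := by
    rw [← charpoly_eval hF hm]
    exact hl
  obtain ⟨v, hv, h⟩ := eigenvector_of_root hF hm hl2
  exact ⟨l, v, hv, h⟩

/-- The order of a derangement divides `q² + 1`. -/
theorem der_orderOf_dvd {x : Cfsg.Sz F m} (hx : Der x) : orderOf x ∣ (2 ^ (2 * m + 1)) ^ 2 + 1 := by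
  have h1 := card_dvd_of_der hF (A := Subgroup.zpowers x) (by
    rintro _ ⟨k, rfl⟩ hy
    exact der_of_commute hF hm hx (by
      show x ^ k * x = x * x ^ k
      exact ((Commute.refl x).zpow_left k).eq) hy)
  rwa [Nat.card_zpowers] at h1

omit hF hm in
theorem odd_qq : ¬ 2 ∣ (2 ^ (2 * m + 1)) ^ 2 + 1 := by
  have : 2 ∣ 2 ^ (2 * m + 1) := dvd_pow_self 2 (by omega)
  obtain ⟨c, hc⟩ := this
  rw [hc]
  intro h
  have e : (2 * c) ^ 2 + 1 = 2 * (2 * c * c) + 1 := by ring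
  rw [e] at h
  omega

/-- A derangement has odd order. -/
theorem der_odd {x : Cfsg.Sz F m} (hx : Der x) : ¬ 2 ∣ orderOf x := fun h =>
  odd_qq (h.trans (der_orderOf_dvd hF hm hx))

/-- The eigenvalues of a derangement. -/
theorem der_eig_ne {x : Cfsg.Sz F m} (hx : Der x) {l : E} {v : Fin 4 → E} (hv : v ≠ 0)
    (h : ME E x *ᵥ v = l • v) : l ≠ 1 := by
  rintro rfl
  rw [one_smul] at h
  have h4 := pow_four_of_eig hF hm hv h
  obtain ⟨p, hp, hf⟩ := fix_of_two_pow hF hm (g := x) (n := 2) h4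
  exact hx p hp hf

theorem eig_pow_eq_one {g : Cfsg.Sz F m} {l : E} {v : Fin 4 → E} (hv : v ≠ 0)
    (h : ME E g *ᵥ v = l • v) {n : ℕ} (hn : g ^ n = 1) : l ^ n = 1 := by
  have h1 := mulVec_ME_pow h n
  rw [hn, ME_one, Matrix.one_mulVec] at h1
  by_contra hne
  obtain ⟨i, hi⟩ : ∃ i, v i ≠ 0 := by
    by_contra hcon
    push Not at hcon
    exact hv (funext hcon)
  have h3 := congrFun h1 i
  simp only [Pi.smul_apply, smul_eq_mul] at h3
  exact hne (mul_right_cancel₀ hi (by rw [← h3, one_mul]))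

theorem der_eig_pow {x : Cfsg.Sz F m} (hx : Der x) {l : E} {v : Fin 4 → E} (hv : v ≠ 0)
    (h : ME E x *ᵥ v = l • v) : l ^ ((2 ^ (2 * m + 1)) ^ 2 + 1) = 1 := by
  apply eig_pow_eq_one hF hm hv h
  exact orderOf_dvd_iff_pow_eq_one.mp (der_orderOf_dvd hF hm hx)

/-- Palindromic symmetry. -/
theorem PE_inv {t : F} {l : E} (hl0 : l ≠ 0) (h : PE m t l = 0) : PE m t l⁻¹ = 0 := by
  have h2 : (2 : E) = 0 := h2E hF
  have : l ^ 4 * PE m t l⁻¹ = PE m t l := by
    simp only [PE]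
    field_simp
    ring
  rw [h] at this
  exact (mul_eq_zero.mp this).resolve_left (pow_ne_zero _ hl0)

/-- The key relations for an eigenvalue whose order divides `q² + 1`. -/
theorem key_of_eigen {g : Cfsg.Sz F m} {l : E} (hp : PE m (trG g) l = 0) (hl1 : l ≠ 1)
    (hl : l ^ ((2 ^ (2 * m + 1)) ^ 2 + 1) = 1) :
    algebraMap F E (trG g) = (l + l⁻¹) + (l ^ 2 ^ (2 * m + 1) + (l ^ 2 ^ (2 * m + 1))⁻¹) ∧
      (algebraMap F E (trG g)) ^ (2 ^ (m + 1)) = (l + l⁻¹) * (l ^ 2 ^ (2 * m + 1) + (l ^ 2 ^ (2 * m + 1))⁻¹) := by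
  have h2 : (2 : E) = 0 := h2E hF
  obtain ⟨hl0, -, h3, h4, -, -⟩ := good_ne h2 hl1 hl
  have hQ := PE_frob hF hp
  exact coeffs_of_roots h2 hl0 (pow_ne_zero _ hl0) (by simpa [PE] using hp) (by simpa [PE] using hQ)
    (Ne.symm h3) h4

/-- All the roots of the quartic. -/
theorem roots_of_eigen {g : Cfsg.Sz F m} {l : E} (hp : PE m (trG g) l = 0) (hl1 : l ≠ 1)
    (hl : l ^ ((2 ^ (2 * m + 1)) ^ 2 + 1) = 1) {z : E} (hz : PE m (trG g) z = 0) :
    z = l ∨ z = l⁻¹ ∨ z = l ^ 2 ^ (2 * m + 1) ∨ z = (l ^ 2 ^ (2 * m + 1))⁻¹ := by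
  have h2 : (2 : E) = 0 := h2E hF
  obtain ⟨h3, h4⟩ := key_of_eigen hF hm hp hl1 hl
  obtain ⟨hl0, -, -, -, -, -⟩ := good_ne h2 hl1 hl
  have hQ0 : l ^ 2 ^ (2 * m + 1) ≠ 0 := pow_ne_zero _ hl0
  have e := quartic_factor h2 (z := z) (mul_inv_cancel₀ hl0) (mul_inv_cancel₀ hQ0)
  rw [← h3, ← h4] at e
  rw [PE] at hz
  have e2 : (z + l) * (z + l⁻¹) * (z + l ^ 2 ^ (2 * m + 1)) * (z + (l ^ 2 ^ (2 * m + 1))⁻¹) = 0 := by
    rw [← e, ← hz]
  have hchar : ∀ a : E, z + a = 0 → z = a := fun a ha => by grind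
  rcases mul_eq_zero.mp e2 with h5 | h5
  · rcases mul_eq_zero.mp h5 with h6 | h6
    · rcases mul_eq_zero.mp h6 with h7 | h7
      · exact Or.inl (hchar _ h7)
      · exact Or.inr (Or.inl (hchar _ h7))
    · exact Or.inr (Or.inr (Or.inl (hchar _ h6)))
  · exact Or.inr (Or.inr (Or.inr (hchar _ h5)))

/-- The eigenspace of an eigenvalue of a derangement is one-dimensional. -/
theorem der_eigen_line [IsAlgClosed E] {x : Cfsg.Sz F m} (hx : Der x) {l : E} {v : Fin 4 → E} (hv : v ≠ 0)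
    (h : ME E x *ᵥ v = l • v) {w : Fin 4 → E} (hw : ME E x *ᵥ w = l • w) : ∃ c : E, w = c • v := by
  have h2 : (2 : E) = 0 := h2E hF
  have hl1 := der_eig_ne hF hm hx hv h
  have hl := der_eig_pow hF hm hx hv h
  obtain ⟨hl0, h3, h4, h5, h6, h7⟩ := good_ne h2 hl1 hl
  have hp := root_of_eigenvector hF hm hv h
  have hp2 := PE_inv hF hm hl0 hp
  have hp3 := PE_frob hF hp
  have hp4 := PE_inv hF hm (pow_ne_zero _ hl0) hp3
  obtain ⟨v2, hv2, e2⟩ := eigenvector_of_root hF hm hp2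
  obtain ⟨v3, hv3, e3⟩ := eigenvector_of_root hF hm hp3
  obtain ⟨v4, hv4, e4⟩ := eigenvector_of_root hF hm hp4
  have hQ0 : l ^ 2 ^ (2 * m + 1) ≠ 0 := pow_ne_zero _ hl0
  let μ : Fin 4 → E := ![l, l⁻¹, l ^ 2 ^ (2 * m + 1), (l ^ 2 ^ (2 * m + 1))⁻¹]
  let V : Fin 4 → Fin 4 → E := ![v, v2, v3, v4]
  have hμ : Function.Injective μ := by
    have a1 : l ≠ l ^ 2 ^ (2 * m + 1) := Ne.symm h4
    have a2 : l ≠ (l ^ 2 ^ (2 * m + 1))⁻¹ := by
      intro e
      apply h5
      calc l * l ^ 2 ^ (2 * m + 1) = (l ^ 2 ^ (2 * m + 1))⁻¹ * l ^ 2 ^ (2 * m + 1) := by rw [← e]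
        _ = 1 := inv_mul_cancel₀ hQ0
    have a3 : l⁻¹ ≠ l ^ 2 ^ (2 * m + 1) := by
      intro e
      apply h5
      rw [← e, mul_inv_cancel₀ hl0]
    have a4 : l⁻¹ ≠ (l ^ 2 ^ (2 * m + 1))⁻¹ := fun e => a1 (inv_injective e)
    intro i j hij
    fin_cases i <;> fin_cases j <;> first
      | rfl
      | exact absurd hij h3
      | exact absurd hij a1
      | exact absurd hij a2
      | exact absurd hij a3
      | exact absurd hij a4
      | exact absurd hij h6
      | exact absurd hij.symm h3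
      | exact absurd hij.symm a1
      | exact absurd hij.symm a2
      | exact absurd hij.symm a3
      | exact absurd hij.symm a4
      | exact absurd hij.symm h6
  apply eigen_line (μ := μ) (v := V) hμ
  · intro i
    fin_cases i
    · exact hv
    · exact hv2
    · exact hv3
    · exact hv4
  · intro i
    fin_cases i
    · exact h
    · exact e2
    · exact e3
    · exact e4
  · exact hw

/-- The eigencharacter on the centraliser of a derangement. -/
theorem der_char [IsAlgClosed E] {x : Cfsg.Sz F m} (hx : Der x) {l : E} {v : Fin 4 → E} (hv : v ≠ 0)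
    (h : ME E x *ᵥ v = l • v) :
    ∃ f : Subgroup.centralizer ({x} : Set (Cfsg.Sz F m)) →* E, Function.Injective f ∧
      ∀ y : Subgroup.centralizer ({x} : Set (Cfsg.Sz F m)), ME E (y : Cfsg.Sz F m) *ᵥ v = f y • v := by
  have hex : ∀ y : Subgroup.centralizer ({x} : Set (Cfsg.Sz F m)), ∃ c : E, ME E (y : Cfsg.Sz F m) *ᵥ v = c • v := by
    rintro ⟨y, hy⟩
    have hc : y * x = x * y := (Subgroup.mem_centralizer_singleton_iff.mp hy)
    apply der_eigen_line hF hm hx hv h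
    show ME E x *ᵥ (ME E y *ᵥ v) = l • (ME E y *ᵥ v)
    rw [Matrix.mulVec_mulVec, ← ME_mul, ← hc, ME_mul, ← Matrix.mulVec_mulVec, h, Matrix.mulVec_smul]
  choose f0 hf0 using hex
  have hunique : ∀ (a b : E), a • v = b • v → a = b := by
    intro a b hab
    obtain ⟨i, hi⟩ : ∃ i, v i ≠ 0 := by
      by_contra hcon
      push Not at hcon
      exact hv (funext hcon)
    have h3 := congrFun hab i
    simp only [Pi.smul_apply, smul_eq_mul] at h3
    exact mul_right_cancel₀ hi h3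
  let f : Subgroup.centralizer ({x} : Set (Cfsg.Sz F m)) →* E :=
    { toFun := f0
      map_one' := by
        apply hunique
        rw [← hf0, one_smul]
        show ME E (1 : Cfsg.Sz F m) *ᵥ v = v
        rw [ME_one, Matrix.one_mulVec]
      map_mul' := by
        intro y z
        apply hunique
        rw [← hf0]
        show ME E ((y : Cfsg.Sz F m) * (z : Cfsg.Sz F m)) *ᵥ v = _
        rw [ME_mul, ← Matrix.mulVec_mulVec, hf0 z, Matrix.mulVec_smul, hf0 y, smul_smul, mul_comm] }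
  refine ⟨f, ?_, hf0⟩
  intro y z hyz
  have h3 : ME E ((y : Cfsg.Sz F m)⁻¹ * (z : Cfsg.Sz F m)) *ᵥ v = v := by
    have h4 : ME E (z : Cfsg.Sz F m) *ᵥ v = ME E (y : Cfsg.Sz F m) *ᵥ v := by
      have h5 : f0 z = f0 y := hyz.symm
      rw [hf0, hf0, h5]
    rw [ME_mul, ← Matrix.mulVec_mulVec, h4, Matrix.mulVec_mulVec, ← ME_mul, inv_mul_cancel, ME_one, Matrix.one_mulVec]
  have h4 := pow_four_of_eig hF hm hv h3
  by_contra hne
  have hne' : (y : Cfsg.Sz F m)⁻¹ * (z : Cfsg.Sz F m) ≠ 1 := by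
    intro e
    exact hne (Subtype.ext (inv_mul_eq_one.mp e))
  have hcomm : (y : Cfsg.Sz F m)⁻¹ * (z : Cfsg.Sz F m) ∈ Subgroup.centralizer ({x} : Set (Cfsg.Sz F m)) :=
    Subgroup.mul_mem _ (Subgroup.inv_mem _ y.2) z.2
  have hder := der_of_commute hF hm hx (Subgroup.mem_centralizer_singleton_iff.mp hcomm) hne'
  obtain ⟨p, hp, hf⟩ := fix_of_two_pow hF hm (n := 2) h4
  exact hder p hp hf

/-- The centraliser of a derangement is cyclic. -/
theorem cyclic_centralizer_aux [IsAlgClosed E] {x : Cfsg.Sz F m} (hx : Der x) :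
    IsCyclic (Subgroup.centralizer ({x} : Set (Cfsg.Sz F m))) := by
  haveI := finite_Sz hF hm
  obtain ⟨l, v, hv, h⟩ := exists_eigen (E := E) hF hm x
  obtain ⟨f, hf, -⟩ := der_char hF hm hx hv h
  exact isCyclic_of_injective_ringHom f hf

end Cfsg.Agent.Lib.Suzuki
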