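import Cfsg.Agent.Lib.Suzuki.Central
import Cfsg.Agent.Lib.Suzuki.Charpoly

/-! Elements of the Suzuki group without fixed points on the ovoid: group-theoretic part. -/

set_option autoImplicit false

namespace Cfsg.Agent.Lib.Suzuki

open Matrix
open scoped Pointwise

variable {F : Type*} [Field F] [Fintype F] {m : ℕ}

/-- An element without fixed points on the ovoid. -/
def Der (g : Cfsg.Sz F m) : Prop := ∀ p ∈ Cfsg.suzukiOvoid F m, g • p ≠ p

theorem card_dvd_of_free' {A X : Type*} [Group A] [MulAction A X]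
    (h : ∀ b : X, MulAction.stabilizer A b = ⊥) : Nat.card A ∣ Nat.card X := by
  rw [Nat.card_congr (MulAction.selfEquivOrbitsQuotientProd h), Nat.card_prod]
  exact dvd_mul_left _ _

variable (hF : Fintype.card F = 2 ^ (2 * m + 1)) (hm : 1 ≤ m)
include hF hm

/-- A 2-element has a fixed point. -/
theorem fix_of_two_pow {g : Cfsg.Sz F m} {n : ℕ} (h : g ^ 2 ^ n = 1) :
    ∃ p ∈ Cfsg.suzukiOvoid F m, g • p = p := by
  haveI := finite_Sz hF hm
  have hP : IsPGroup 2 (Subgroup.zpowers g) := by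
    rintro ⟨y, k, rfl⟩
    refine ⟨n, ?_⟩
    apply Subtype.ext
    show (g ^ k) ^ 2 ^ n = 1
    rw [← zpow_natCast, ← _root_.zpow_mul, mul_comm, _root_.zpow_mul, zpow_natCast, h, _root_.one_zpow]
  obtain ⟨Q, hQ⟩ := hP.exists_le_sylow
  obtain ⟨k, hk⟩ := exists_conj hF hm Q
  have h1 := (hk g).mp (hQ (Subgroup.mem_zpowers g))
  have h2 : (k⁻¹ * g * k) • pinf F = pinf F :=
    MulAction.mem_stabilizer_iff.mp (UU_le_BB hF hm h1)
  refine ⟨k • pinf F, smul_mem_ovoid hF k pinf_mem, ?_⟩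
  simp only [mul_smul, inv_smul_eq_iff] at h2
  exact h2

/-- An element interchanging two points is an involution. -/
theorem swap_sq {x : Cfsg.Sz F m} {p r : Projectivization F (Fin 4 → F)}
    (hp : p ∈ Cfsg.suzukiOvoid F m) (hr : r ∈ Cfsg.suzukiOvoid F m) (hne : p ≠ r)
    (h1 : x • p = r) (h2 : x • r = p) : x * x = 1 := by
  obtain ⟨k, hk0, hk1⟩ := exists_to_base hF hm hp hr hne
  set x' := k * x * k⁻¹ with hx'
  have e1 : x' • pinf F = pt m (0 : F) 0 := by
    rw [← hk0, ← hk1, hx']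
    simp only [mul_smul, inv_smul_smul, h1]
  have e2 : x' • pt m (0 : F) 0 = pinf F := by
    rw [← hk0, ← hk1, hx']
    simp only [mul_smul, inv_smul_smul, h2]
  have h5 : (wG hF hm * x') • pinf F = pinf F := by
    rw [mul_smul, e1, wG_smul_pt_zero hF hm]
  have h6 : (wG hF hm * x') • pt m (0 : F) 0 = pt m (0 : F) 0 := by
    rw [mul_smul, e2, wG_smul_pinf hF hm]
  obtain ⟨s, hs⟩ := (fix_two_iff hF hm _).mp ⟨h5, h6⟩
  have hy2 : x' = wG hF hm * tG hF s := by
    have h7 := wG_sq hF hm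
    calc x' = (wG hF hm * wG hF hm) * x' := by rw [h7, one_mul]
      _ = wG hF hm * (wG hF hm * x') := by group
      _ = _ := by rw [hs]
  have hsq : x' * x' = 1 := by
    have h7 : wG hF hm * tG hF s * wG hF hm = tG hF s⁻¹ := wG_tG_wG hF hm s
    rw [hy2]
    calc wG hF hm * tG hF s * (wG hF hm * tG hF s) = (wG hF hm * tG hF s * wG hF hm) * tG hF s := by group
      _ = tG hF s⁻¹ * tG hF s := by rw [h7]
      _ = 1 := by rw [tG_mul hF, inv_mul_cancel, tG_one hF]
  have : x * x = k⁻¹ * (x' * x') * k := by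
    rw [hx']
    group
  rw [this, hsq]
  group

/-- A derangement is not an involution. -/
theorem Der.not_sq {x : Cfsg.Sz F m} (hx : Der x) : x * x ≠ 1 := by
  intro h
  obtain ⟨p, hp, hf⟩ := fix_of_two_pow hF hm (g := x) (n := 1) (by rw [pow_one, sq, h])
  exact hx p hp hf

/-- The non-identity elements of the centraliser of a derangement are derangements. -/
theorem der_of_commute {x y : Cfsg.Sz F m} (hx : Der x) (hy : y * x = x * y) (hy1 : y ≠ 1) : Der y := by
  intro p hp hf
  have hp' : x • p ∈ Cfsg.suzukiOvoid F m := smul_mem_ovoid hF x hp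
  have hp'' : x • (x • p) ∈ Cfsg.suzukiOvoid F m := smul_mem_ovoid hF x hp'
  have hf' : y • (x • p) = x • p := by rw [← mul_smul, hy, mul_smul, hf]
  have hf'' : y • (x • (x • p)) = x • (x • p) := by rw [← mul_smul, hy, mul_smul, hf']
  have h1 : p ≠ x • p := fun e => hx p hp e.symm
  have h3 : x • p ≠ x • (x • p) := fun e => hx _ hp' e.symm
  by_cases h4 : p = x • (x • p)
  · have := swap_sq hF hm hp hp' h1 rfl h4.symm
    exact Der.not_sq hF hm hx this
  · exact hy1 (fix_three hF hm hp hp' hp'' h1 h3 h4 hf hf' hf'')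

omit hm in
/-- A subgroup consisting of derangements has order dividing `q² + 1`. -/
theorem card_dvd_of_der {A : Subgroup (Cfsg.Sz F m)} (hA : ∀ y ∈ A, y ≠ 1 → Der y) :
    Nat.card A ∣ (2 ^ (2 * m + 1)) ^ 2 + 1 := by
  have h1 : Nat.card A ∣ Nat.card (Cfsg.suzukiOvoid F m) := by
    apply card_dvd_of_free'
    rintro ⟨p, hp⟩
    rw [eq_bot_iff]
    rintro ⟨y, hy⟩ hs
    rw [MulAction.mem_stabilizer_iff] at hs
    rw [Subgroup.mem_bot]
    by_contra hne
    have hy1 : y ≠ 1 := fun e => hne (Subtype.ext e)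
    exact hA y hy hy1 p hp (congrArg Subtype.val hs)
  rwa [ovoid_card m, hF] at h1

end Cfsg.Agent.Lib.Suzuki
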