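import Cfsg.Agent.Lib.Suzuki.Der

/-! Eigenvalues of elements of the Suzuki group over an extension field. -/

set_option autoImplicit false

namespace Cfsg.Agent.Lib.Suzuki

open Matrix Polynomial

section linalg

/-- In a four-dimensional space an operator with four distinct eigenvalues has one-dimensional eigenspaces. -/
theorem eigen_line {E : Type*} [Field E] {M : Matrix (Fin 4) (Fin 4) E} {μ : Fin 4 → E}
    (hμ : Function.Injective μ) {v : Fin 4 → Fin 4 → E} (hv : ∀ i, v i ≠ 0)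
    (h : ∀ i, M *ᵥ v i = μ i • v i) {w : Fin 4 → E} (hw : M *ᵥ w = μ 0 • w) :
    ∃ c : E, w = c • v 0 := by
  have hli : LinearIndependent E v := by
    apply Module.End.eigenvectors_linearIndependent' (Matrix.mulVecLin M) μ hμ v
    intro i
    refine ⟨?_, hv i⟩
    rw [Module.End.mem_eigenspace_iff]
    exact h i
  have hspan := hli.span_eq_top_of_card_eq_finrank (by simp)
  have hwm : w ∈ Submodule.span E (Set.range v) := by
    rw [hspan]
    exact Submodule.mem_top
  obtain ⟨c, hc⟩ := (Submodule.mem_span_range_iff_exists_fun E).mp hwm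
  -- apply `M - μ₀`
  have h1 : ∑ i, (c i * (μ i - μ 0)) • v i = 0 := by
    have h3 : M *ᵥ w = ∑ i, (c i * μ i) • v i := by
      rw [← hc, Matrix.mulVec_sum]
      apply Finset.sum_congr rfl
      intro i _
      rw [Matrix.mulVec_smul, h i, smul_smul]
    have h4 : μ 0 • w = ∑ i, (c i * μ 0) • v i := by
      rw [← hc, Finset.smul_sum]
      apply Finset.sum_congr rfl
      intro i _
      rw [smul_smul, mul_comm]
    have h5 : ∑ i, (c i * μ i) • v i - ∑ i, (c i * μ 0) • v i = 0 := by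
      rw [← h3, ← h4, hw, sub_self]
    rw [← Finset.sum_sub_distrib] at h5
    rw [← h5]
    apply Finset.sum_congr rfl
    intro i _
    rw [← sub_smul, mul_sub]
  have h2 := Fintype.linearIndependent_iff.mp hli _ h1
  have hci : ∀ i, i ≠ 0 → c i = 0 := by
    intro i hi
    have h3 := h2 i
    rcases mul_eq_zero.mp h3 with h4 | h4
    · exact h4
    · exact absurd (hμ (sub_eq_zero.mp h4)) hi
  refine ⟨c 0, ?_⟩
  rw [← hc, Finset.sum_eq_single (0 : Fin 4)]
  · intro i _ hi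
    rw [hci i hi, zero_smul]
  · simp

end linalg

section algebra

variable {E : Type*} [Field E]

theorem pw2_add (h2E : (2 : E) = 0) (k : ℕ) (x y : E) : (x + y) ^ (2 ^ k) = x ^ (2 ^ k) + y ^ (2 ^ k) := by
  haveI : CharP E 2 := CharTwo.of_one_ne_zero_of_two_eq_zero one_ne_zero h2E
  exact add_pow_char_pow (p := 2) (n := k) x y

theorem sq_one_char2 (h2E : (2 : E) = 0) {x : E} (h : x ^ 2 = 1) : x = 1 := by
  have h1 : (x + 1) ^ 2 = 0 := by grind
  have h3 : x + 1 = 0 := pow_eq_zero_iff (by norm_num) |>.mp h1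
  grind

/-- The basic relations for a root of unity of order dividing `q² + 1`. -/
theorem good_ne {q : ℕ} (h2E : (2 : E) = 0) {l : E} (hl1 : l ≠ 1) (hl : l ^ (q ^ 2 + 1) = 1) :
    l ≠ 0 ∧ l ≠ l⁻¹ ∧ l ^ q ≠ l ∧ l * l ^ q ≠ 1 ∧ (l ^ q) ≠ (l ^ q)⁻¹ ∧ (l ^ q) ^ q = l⁻¹ := by
  have hl0 : l ≠ 0 := by
    rintro rfl
    rw [zero_pow (by positivity)] at hl
    exact zero_ne_one hl
  have hqq : (l ^ q) ^ q = l⁻¹ := by
    rw [← pow_mul, ← sq]
    apply eq_inv_of_mul_eq_one_left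
    rw [← pow_succ]
    exact hl
  have h1 : l ≠ l⁻¹ := by
    intro h
    apply hl1
    apply sq_one_char2 h2E
    rw [sq]
    nth_rewrite 2 [h]
    exact mul_inv_cancel₀ hl0
  have hQ0 : l ^ q ≠ 0 := pow_ne_zero _ hl0
  refine ⟨hl0, h1, ?_, ?_, ?_, hqq⟩
  · intro h
    rw [h, h] at hqq
    exact h1 hqq
  · intro h
    have h3 : l ^ q = l⁻¹ := eq_inv_of_mul_eq_one_right h
    have h4 : (l ^ q) ^ q = (l ^ q)⁻¹ := by
      rw [h3, inv_pow, ← h3]
    rw [hqq, h3, inv_inv] at h4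
    exact h1 h4.symm
  · intro h
    have h3 : (l ^ q) ^ 2 = 1 := by
      rw [sq]
      nth_rewrite 2 [h]
      exact mul_inv_cancel₀ hQ0
    have h4 := sq_one_char2 h2E h3
    rw [h4, one_pow] at hqq
    exact hl1 (inv_eq_one.mp hqq.symm)

/-- From a common root structure to the coefficients. -/
theorem coeffs_of_roots (h2E : (2 : E) = 0) {l Q t s : E} (hl0 : l ≠ 0) (hQ0 : Q ≠ 0)
    (hPl : l ^ 4 + t * l ^ 3 + s * l ^ 2 + t * l + 1 = 0)
    (hPQ : Q ^ 4 + t * Q ^ 3 + s * Q ^ 2 + t * Q + 1 = 0)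
    (hne : l ≠ Q) (hne2 : l * Q ≠ 1) :
    t = (l + l⁻¹) + (Q + Q⁻¹) ∧ s = (l + l⁻¹) * (Q + Q⁻¹) := by
  have e1 : (l + l⁻¹) ^ 2 + t * (l + l⁻¹) + s = 0 := by
    have : l ^ 2 * ((l + l⁻¹) ^ 2 + t * (l + l⁻¹) + s) = 0 := by
      rw [← hPl]
      field_simp
      grind
    exact (mul_eq_zero.mp this).resolve_left (pow_ne_zero _ hl0)
  have e2 : (Q + Q⁻¹) ^ 2 + t * (Q + Q⁻¹) + s = 0 := by
    have : Q ^ 2 * ((Q + Q⁻¹) ^ 2 + t * (Q + Q⁻¹) + s) = 0 := by
      rw [← hPQ]
      field_simp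
      grind
    exact (mul_eq_zero.mp this).resolve_left (pow_ne_zero _ hQ0)
  generalize hy1 : l + l⁻¹ = y1 at *
  generalize hy2 : Q + Q⁻¹ = y2 at *
  have hy : y1 + y2 ≠ 0 := by
    intro h
    have h3 : y1 = y2 := by grind
    rw [← hy1, ← hy2] at h3
    have h4 : (l + Q) * (l * Q + 1) = 0 := by
      have : (l + Q) * (l * Q + 1) = l * Q * (l + l⁻¹ + (Q + Q⁻¹)) := by
        field_simp
        grind
      rw [this, h3]
      grind
    rcases mul_eq_zero.mp h4 with h5 | h5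
    · exact hne (by grind)
    · exact hne2 (by grind)
  have ht : t = y1 + y2 := by
    have : (y1 + y2) * (y1 + y2 + t) = 0 := by grind
    have h5 := (mul_eq_zero.mp this).resolve_left hy
    grind
  refine ⟨ht, ?_⟩
  subst ht
  grind

/-- The factorisation of the quartic. -/
theorem quartic_factor (h2E : (2 : E) = 0) {a b c d z : E} (hab : a * b = 1) (hcd : c * d = 1) :
    z ^ 4 + ((a + b) + (c + d)) * z ^ 3 + ((a + b) * (c + d)) * z ^ 2 + ((a + b) + (c + d)) * z + 1 =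
      (z + a) * (z + b) * (z + c) * (z + d) := by
  grind

end algebra

variable {F : Type*} [Field F] [Fintype F] {m : ℕ}
variable {E : Type*} [Field E] [Algebra F E]

/-- The matrix of an element, over the extension. -/
def ME (E : Type*) [Field E] [Algebra F E] (g : Cfsg.Sz F m) : Matrix (Fin 4) (Fin 4) E :=
  (g : Matrix.SpecialLinearGroup (Fin 4) F).1.map (algebraMap F E)

omit [Fintype F] in
theorem ME_mul (g h : Cfsg.Sz F m) : ME E (g * h) = ME E g * ME E h := by
  show (((g : Matrix.SpecialLinearGroup (Fin 4) F).1) * ((h : Matrix.SpecialLinearGroup (Fin 4) F).1)).map (algebraMap F E) = _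
  rw [Matrix.map_mul]
  rfl

omit [Fintype F] in
theorem ME_one : ME E (1 : Cfsg.Sz F m) = 1 := by
  show ((1 : Matrix (Fin 4) (Fin 4) F)).map (algebraMap F E) = _
  simp

omit [Fintype F] in
theorem ME_pow (g : Cfsg.Sz F m) (n : ℕ) : ME E (g ^ n) = (ME E g) ^ n := by
  induction n with
  | zero => simp [ME_one]
  | succ k ih => rw [pow_succ, pow_succ, ME_mul, ih]

/-- The trace of an element. -/
def trG (g : Cfsg.Sz F m) : F := (g : Matrix.SpecialLinearGroup (Fin 4) F).1.trace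

/-- The quartic attached to a trace. -/
def PE (m : ℕ) (t : F) (z : E) : E :=
  z ^ 4 + (algebraMap F E t) * z ^ 3 + (algebraMap F E t) ^ (2 ^ (m + 1)) * z ^ 2 + (algebraMap F E t) * z + 1

omit [Fintype F] in
theorem mulVec_ME_pow {g : Cfsg.Sz F m} {l : E} {v : Fin 4 → E} (h : ME E g *ᵥ v = l • v) (n : ℕ) :
    ME E (g ^ n) *ᵥ v = l ^ n • v := by
  induction n with
  | zero => simp [ME_one]
  | succ k ih =>
    rw [pow_succ, ME_mul, ← Matrix.mulVec_mulVec, h, Matrix.mulVec_smul, ih, smul_smul, pow_succ, mul_comm]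

variable (hF : Fintype.card F = 2 ^ (2 * m + 1)) (hm : 1 ≤ m)

section
include hF

theorem h2E : (2 : E) = 0 := by
  have h4 := congrArg (algebraMap F E) (two_zero hF)
  rw [map_ofNat, map_zero] at h4
  exact h4

/-- The characteristic polynomial evaluated. -/
theorem charpoly_eval (hm : 1 ≤ m) (g : Cfsg.Sz F m) (z : E) :
    ((g : Matrix.SpecialLinearGroup (Fin 4) F).1.charpoly.map (algebraMap F E)).eval z = PE m (trG g) z := by
  rw [charpoly_eq hF (form_Sz hF hm g.2) (law_Sz hF hm g.2), pS]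
  simp [PE, trG, map_pow]

theorem root_of_eigenvector (hm : 1 ≤ m) {g : Cfsg.Sz F m} {l : E} {v : Fin 4 → E} (hv : v ≠ 0)
    (h : ME E g *ᵥ v = l • v) : PE m (trG g) l = 0 := by
  rw [← charpoly_eval hF hm]
  exact root_of_eigen hv h

theorem eigenvector_of_root (hm : 1 ≤ m) {g : Cfsg.Sz F m} {l : E} (h : PE m (trG g) l = 0) :
    ∃ v : Fin 4 → E, v ≠ 0 ∧ ME E g *ᵥ v = l • v := by
  rw [← charpoly_eval hF hm, ← Matrix.charpoly_map, Matrix.eval_charpoly, ← Matrix.exists_mulVec_eq_zero_iff] at h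
  obtain ⟨v, hv, h1⟩ := h
  refine ⟨v, hv, ?_⟩
  rw [Matrix.sub_mulVec] at h1
  have h3 : ME E g *ᵥ v = (Matrix.scalar (Fin 4) l) *ᵥ v := (sub_eq_zero.mp h1).symm
  rw [h3]
  simp [Matrix.scalar_apply, Matrix.mulVec_diagonal]

/-- The image of `F` is fixed by the `q`-power map. -/
theorem map_pow_card (t : F) : (algebraMap F E t) ^ (2 ^ (2 * m + 1)) = algebraMap F E t := by
  rw [← map_pow, ← hF, FiniteField.pow_card]

/-- The `q`-power map preserves the roots of the quartic. -/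
theorem PE_frob {t : F} {l : E} (h : PE m t l = 0) : PE m t (l ^ 2 ^ (2 * m + 1)) = 0 := by
  have h2 : (2 : E) = 0 := h2E hF
  have h1 : (PE m t l) ^ (2 ^ (2 * m + 1)) = 0 := by
    rw [h]
    exact zero_pow (by positivity)
  rw [PE] at h1
  rw [pw2_add h2, pw2_add h2, pw2_add h2, pw2_add h2, mul_pow, mul_pow, mul_pow, map_pow_card hF,
    ← pow_mul (algebraMap F E t), mul_comm (2 ^ (m + 1)), pow_mul (algebraMap F E t), map_pow_card hF, one_pow] at h1
  rw [PE, ← h1]
  have e : ∀ (k : ℕ), (l ^ 2 ^ (2 * m + 1)) ^ k = (l ^ k) ^ 2 ^ (2 * m + 1) := fun k => pow_right_comm _ _ _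
  rw [e, e, e]

end

end Cfsg.Agent.Lib.Suzuki
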