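import Cfsg.Agent.Lib.Suzuki.SubMain

/-! The subfield subgroups of the Suzuki group. -/

set_option autoImplicit false

namespace Cfsg.Agent.Lib.Suzuki

section emb

variable {F : Type*} [Field F] [Fintype F] {m : ℕ} {K : Type*} [Field K] [Fintype K] {k : ℕ}

theorem pow_two_pow_period (hK : Fintype.card K = 2 ^ (2 * k + 1)) (n : ℕ) (a : K) :
    a ^ (2 ^ (n * (2 * k + 1))) = a := by
  induction n with
  | zero => simp
  | succ n ih =>
    rw [Nat.succ_mul, pow_add, pow_mul, ih, ← hK, FiniteField.pow_card]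

omit [Fintype F] [Fintype K] [Field F] [Field K] in
theorem exponent_form (hdiv : 2 * k + 1 ∣ 2 * m + 1) : ∃ j, m = k + j * (2 * k + 1) := by
  obtain ⟨e, he⟩ := hdiv
  have he2 : e % 2 = 1 := by
    by_contra hne
    have : e % 2 = 0 := by omega
    obtain ⟨e', rfl⟩ : ∃ e', e = 2 * e' := ⟨e / 2, by omega⟩
    have : (2 * k + 1) * (2 * e') = 2 * ((2 * k + 1) * e') := by ring
    omega
  obtain ⟨j, rfl⟩ : ∃ j, e = 2 * j + 1 := ⟨e / 2, by omega⟩
  refine ⟨j, ?_⟩
  nlinarith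

variable (hF : Fintype.card F = 2 ^ (2 * m + 1)) (hm : 1 ≤ m)
  (hK : Fintype.card K = 2 ^ (2 * k + 1)) (hk : 1 ≤ k) (hdiv : 2 * k + 1 ∣ 2 * m + 1) (ι : K →+* F)

section inner
include hK hdiv

theorem pow_transfer₁ (a : K) : a ^ (2 ^ (m + 1)) = a ^ (2 ^ (k + 1)) := by
  obtain ⟨j, rfl⟩ := exponent_form hdiv
  have : k + j * (2 * k + 1) + 1 = j * (2 * k + 1) + (k + 1) := by ring
  rw [this, pow_add, pow_mul, pow_two_pow_period hK]

theorem pow_transfer₀ (a : K) : a ^ (2 ^ m) = a ^ (2 ^ k) := by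
  obtain ⟨j, rfl⟩ := exponent_form hdiv
  have : k + j * (2 * k + 1) = j * (2 * k + 1) + k := by ring
  rw [this, pow_add, pow_mul, pow_two_pow_period hK]

theorem map_Um (a b : K) :
    (Um k a b).map ι = Um m (ι a) (ι b) := by
  ext i j
  fin_cases i <;> fin_cases j <;>
    simp [Um, map_add, map_mul, map_pow, ← map_pow, pow_transfer₁ hK hdiv]

theorem map_Tm (t : K) :
    (Tm k t).map ι = Tm m (ι t) := by
  ext i j
  fin_cases i <;> fin_cases j <;>
    simp [Tm, map_mul, map_pow, map_inv₀, ← map_pow, pow_transfer₀ hK hdiv, pow_succ]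

omit [Fintype K] [Fintype F] hK hdiv in
theorem map_Wm : (Wm K).map ι = Wm F := by
  ext i j
  fin_cases i <;> fin_cases j <;> simp [Wm]

end inner

include hF hm hK hk hdiv in
theorem map_mem (g : Cfsg.Sz K k) :
    Matrix.SpecialLinearGroup.map ι (g : Matrix.SpecialLinearGroup (Fin 4) K) ∈ Cfsg.Sz F m := by
  have hu : ∀ a b : K, Matrix.SpecialLinearGroup.map ι ((uG hK a b : Cfsg.Sz K k) : Matrix.SpecialLinearGroup (Fin 4) K) =
      (uG hF (ι a) (ι b) : Cfsg.Sz F m) := by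
    intro a b
    exact Subtype.ext (map_Um hK hdiv ι a b)
  have ht : ∀ t : Kˣ, Matrix.SpecialLinearGroup.map ι ((tG hK t : Cfsg.Sz K k) : Matrix.SpecialLinearGroup (Fin 4) K) =
      (tG hF (Units.map (ι : K →* F) t) : Cfsg.Sz F m) := by
    intro t
    exact Subtype.ext (map_Tm hK hdiv ι t)
  have hw : Matrix.SpecialLinearGroup.map ι ((wG hK hk : Cfsg.Sz K k) : Matrix.SpecialLinearGroup (Fin 4) K) =
      (wG hF hm : Cfsg.Sz F m) := Subtype.ext (map_Wm ι)
  rcases bruhatG hK hk g with ⟨a, b, t, rfl⟩ | ⟨x, y, a, b, t, rfl⟩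
  · rw [Subgroup.coe_mul, map_mul, hu, ht]
    exact Subgroup.mul_mem _ (Subtype.mem _) (Subtype.mem _)
  · simp only [Subgroup.coe_mul, map_mul, hu, ht, hw]
    exact Subgroup.mul_mem _ (Subgroup.mul_mem _ (Subtype.mem _) (Subtype.mem _))
      (Subgroup.mul_mem _ (Subtype.mem _) (Subtype.mem _))

/-- The embedding of a smaller Suzuki group. -/
def emb : Cfsg.Sz K k →* Cfsg.Sz F m where
  toFun g := ⟨Matrix.SpecialLinearGroup.map ι g, map_mem hF hm hK hk hdiv ι g⟩
  map_one' := by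
    apply Subtype.ext
    exact map_one (Matrix.SpecialLinearGroup.map ι)
  map_mul' g h := by
    apply Subtype.ext
    exact map_mul (Matrix.SpecialLinearGroup.map ι) _ _

theorem emb_uG (a b : K) : emb hF hm hK hk hdiv ι (uG hK a b) = uG hF (ι a) (ι b) :=
  Subtype.ext (Subtype.ext (map_Um hK hdiv ι a b))

theorem emb_tG (t : Kˣ) : emb hF hm hK hk hdiv ι (tG hK t) = tG hF (Units.map (ι : K →* F) t) :=
  Subtype.ext (Subtype.ext (map_Tm hK hdiv ι t))

theorem emb_wG : emb hF hm hK hk hdiv ι (wG hK hk) = wG hF hm :=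
  Subtype.ext (Subtype.ext (map_Wm ι))

theorem emb_inj : Function.Injective (emb hF hm hK hk hdiv ι) := by
  intro g h e
  apply Subtype.ext
  apply Subtype.ext
  have h1 : (g : Matrix.SpecialLinearGroup (Fin 4) K).1.map ι = (h : Matrix.SpecialLinearGroup (Fin 4) K).1.map ι :=
    congrArg (fun x : Cfsg.Sz F m => (x : Matrix.SpecialLinearGroup (Fin 4) F).1) e
  ext i j
  exact ι.injective (congrFun (congrFun h1 i) j)

include hF hm hK hk hdiv in
/-- A subgroup with the subfield data is the range of the embedding. -/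
theorem emb_range {M : Subgroup (Cfsg.Sz F m)} {L : Subfield F} (hL : SubData hF hm M L)
    (hι : ∀ x, x ∈ L ↔ ∃ a, ι a = x) : M = (emb hF hm hK hk hdiv ι).range := by
  have hut : ∀ t : Fˣ, (t : F) ∈ L → ∃ t' : Kˣ, Units.map (ι : K →* F) t' = t := by
    intro t ht
    obtain ⟨a, ha⟩ := (hι _).mp ht
    have ha0 : a ≠ 0 := by
      rintro rfl
      rw [map_zero] at ha
      exact t.ne_zero ha.symm
    refine ⟨Units.mk0 a ha0, Units.ext ?_⟩
    simpa using ha
  have hLι : ∀ a : K, ι a ∈ L := fun a => (hι _).mpr ⟨a, rfl⟩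
  have hUL : ∀ t' : Kˣ, ((Units.map (ι : K →* F) t' : Fˣ) : F) ∈ L := fun t' => hLι t'
  apply le_antisymm
  · intro g hg
    rcases hL.hform g hg with ⟨a, b, t, ha, hb, ht, rfl⟩ | ⟨x, y, a, b, t, hx, hy, ha, hb, ht, rfl⟩
    · obtain ⟨a', rfl⟩ := (hι _).mp ha
      obtain ⟨b', rfl⟩ := (hι _).mp hb
      obtain ⟨t', rfl⟩ := hut t ht
      exact ⟨uG hK a' b' * tG hK t', by rw [map_mul, emb_uG, emb_tG]⟩
    · obtain ⟨a', rfl⟩ := (hι _).mp ha
      obtain ⟨b', rfl⟩ := (hι _).mp hb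
      obtain ⟨x', rfl⟩ := (hι _).mp hx
      obtain ⟨y', rfl⟩ := (hι _).mp hy
      obtain ⟨t', rfl⟩ := hut t ht
      exact ⟨uG hK x' y' * wG hK hk * (uG hK a' b' * tG hK t'), by
        rw [map_mul, map_mul, map_mul, emb_uG, emb_wG, emb_uG, emb_tG]⟩
  · rintro _ ⟨g, rfl⟩
    rcases bruhatG hK hk g with ⟨a, b, t, rfl⟩ | ⟨x, y, a, b, t, rfl⟩
    · rw [map_mul, emb_uG, emb_tG]
      exact M.mul_mem (hL.hu _ _ (hLι a) (hLι b)) (hL.ht _ (hUL t))
    · rw [map_mul, map_mul, map_mul, emb_uG, emb_wG, emb_uG, emb_tG]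
      exact M.mul_mem (M.mul_mem (hL.hu _ _ (hLι x) (hLι y)) hL.hw)
        (M.mul_mem (hL.hu _ _ (hLι a) (hLι b)) (hL.ht _ (hUL t)))

include hF hm hK hk hdiv in
theorem equiv_of_data {M : Subgroup (Cfsg.Sz F m)} {L : Subfield F} (hL : SubData hF hm M L)
    (hι : ∀ x, x ∈ L ↔ ∃ a, ι a = x) : Nonempty (M ≃* Cfsg.Sz K k) := by
  have e := emb_range hF hm hK hk hdiv ι hL hι
  refine ⟨(MulEquiv.subgroupCongr e).trans (MonoidHom.ofInjective (emb_inj hF hm hK hk hdiv ι)).symm⟩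

end emb

section data

variable {F : Type*} [Field F] [Fintype F] {m : ℕ}
variable (hF : Fintype.card F = 2 ^ (2 * m + 1)) (hm : 1 ≤ m)

include hF in
/-- The shape of the cardinality of a subfield. -/
theorem subfield_param (L : Subfield F) {b₀ b₁ : F} (h0 : b₀ ∈ L) (h1 : b₁ ∈ L) (h00 : b₀ ≠ 0) (h10 : b₁ ≠ 0) (h01 : b₀ ≠ b₁) :
    ∃ k, 1 ≤ k ∧ Nat.card L = 2 ^ (2 * k + 1) ∧ 2 * k + 1 ∣ 2 * m + 1 := by
  classical
  haveI : Fintype L := Fintype.ofFinite _
  have h2 := Module.card_eq_pow_finrank (K := L) (V := F)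
  rw [hF] at h2
  have hd : Fintype.card L ∣ 2 ^ (2 * m + 1) := by
    rw [h2]
    apply dvd_pow_self
    intro h3
    rw [h3, pow_zero] at h2
    have : 1 < 2 ^ (2 * m + 1) := Nat.one_lt_two_pow (by omega)
    omega
  obtain ⟨d, -, hd'⟩ := (Nat.dvd_prime_pow Nat.prime_two).mp hd
  rw [hd', ← pow_mul] at h2
  have hdn := Nat.pow_right_injective (le_refl 2) h2
  have hdd : d ∣ 2 * m + 1 := ⟨_, hdn⟩
  have hodd : d % 2 = 1 := by
    rcases Nat.mod_two_eq_zero_or_one d with h | h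
    · exfalso
      obtain ⟨e, rfl⟩ : ∃ e, d = 2 * e := ⟨d / 2, by omega⟩
      rw [mul_assoc] at hdn
      omega
    · exact h
  obtain ⟨k, rfl⟩ : ∃ k, d = 2 * k + 1 := ⟨d / 2, by omega⟩
  refine ⟨k, ?_, ?_, hdd⟩
  · by_contra hk
    have hk0 : k = 0 := by omega
    subst hk0
    simp only [mul_zero, zero_add, pow_one] at hd'
    have h3 : ({(0 : L), ⟨b₀, h0⟩, ⟨b₁, h1⟩} : Finset L).card = 3 := by
      rw [Finset.card_insert_of_notMem, Finset.card_insert_of_notMem, Finset.card_singleton]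
      · simp only [Finset.mem_singleton]
        intro h
        exact h01 (congrArg Subtype.val h)
      · simp only [Finset.mem_insert, Finset.mem_singleton, not_or]
        constructor
        · intro h
          exact h00 (congrArg Subtype.val h).symm
        · intro h
          exact h10 (congrArg Subtype.val h).symm
    have h4 := Finset.card_le_univ ({(0 : L), ⟨b₀, h0⟩, ⟨b₁, h1⟩} : Finset L)
    omega
  · rw [Nat.card_eq_fintype_card, hd']

end data

end Cfsg.Agent.Lib.Suzuki
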