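import Cfsg.Agent.Lib.Suzuki.SubSolv
import Cfsg.Agent.Lib.Suzuki.Aut

/-! Fixity two actions of the Suzuki group. -/

set_option autoImplicit false

namespace Cfsg.Agent.Lib.Suzuki

/-- The fixity hypothesis, at the level of a point stabiliser. -/
def FixH {G : Type*} [Group G] (H : Subgroup G) : Prop :=
  ∀ g : G, g ≠ 1 → ∀ K : Subgroup G, (∀ x ∈ K, x⁻¹ * g * x ∈ H) → Nat.card K ≤ 2 * Nat.card (K ⊓ H : Subgroup G)

theorem card_conj_map {G : Type*} [Group G] (K : Subgroup G) (k : G) :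
    Nat.card (K.map (MulAut.conj k).toMonoidHom) = Nat.card K :=
  (Nat.card_congr (K.equivMapOfInjective _ (MulAut.conj k).injective).toEquiv).symm

theorem FixH.conj {G : Type*} [Group G] {H : Subgroup G} (hf : FixH H) (k : G) :
    FixH (H.map (MulAut.conj k).toMonoidHom) := by
  intro g hg K hK
  have h1 := hf (k⁻¹ * g * k) (by
    intro e
    apply hg
    calc g = k * (k⁻¹ * g * k) * k⁻¹ := by group
      _ = 1 := by rw [e]; group) (K.map (MulAut.conj k⁻¹).toMonoidHom) (by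
    rintro _ ⟨x, hx, rfl⟩
    have h2 := (mem_conj_map H k _).mp (hK x hx)
    have e : (MulAut.conj k⁻¹).toMonoidHom x = k⁻¹ * x * k := by simp
    rw [e]
    have e2 : (k⁻¹ * x * k)⁻¹ * (k⁻¹ * g * k) * (k⁻¹ * x * k) = k⁻¹ * (x⁻¹ * g * x) * k := by group
    rwa [e2])
  rw [card_conj_map] at h1
  have e3 : K.map (MulAut.conj k⁻¹).toMonoidHom ⊓ H =
      (K ⊓ H.map (MulAut.conj k).toMonoidHom).map (MulAut.conj k⁻¹).toMonoidHom := by
    ext x
    have e : k⁻¹ * (k * x * k⁻¹) * k = x := by group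
    simp only [Subgroup.mem_inf, mem_conj_map, inv_inv, e]
  rw [e3, card_conj_map] at h1
  exact h1

/-- Squares of a subgroup with a subgroup of index at most two lie in the smaller group. -/
theorem mul_self_mem_of_card_le {G : Type*} [Group G] [Finite G] {A K : Subgroup G}
    (h : Nat.card K ≤ 2 * Nat.card (K ⊓ A : Subgroup G)) {u : G} (hu : u ∈ K) : u * u ∈ A := by
  have hle : K ⊓ A ≤ K := inf_le_left
  have h1 := Subgroup.card_mul_index ((K ⊓ A).subgroupOf K)
  rw [Nat.card_congr (Subgroup.subgroupOfEquivOfLe hle).toEquiv] at h1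
  have hi : ((K ⊓ A).subgroupOf K).index ≤ 2 := by
    have hpos : 0 < Nat.card (K ⊓ A : Subgroup G) := Nat.card_pos
    have : Nat.card (K ⊓ A : Subgroup G) * ((K ⊓ A).subgroupOf K).index ≤ Nat.card (K ⊓ A : Subgroup G) * 2 := by
      rw [h1, mul_comm _ 2]
      exact h
    exact Nat.le_of_mul_le_mul_left this hpos
  have hi0 : ((K ⊓ A).subgroupOf K).index ≠ 0 := Subgroup.index_ne_zero_of_finite
  have hcases : ((K ⊓ A).subgroupOf K).index = 1 ∨ ((K ⊓ A).subgroupOf K).index = 2 := by omega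
  have hmem : ((⟨u, hu⟩ : K) * ⟨u, hu⟩) ∈ (K ⊓ A).subgroupOf K := by
    rcases hcases with h2 | h2
    · rw [Subgroup.index_eq_one] at h2
      rw [h2]
      exact Subgroup.mem_top _
    · exact Subgroup.mul_self_mem_of_index_two h2 _
  exact ((Subgroup.mem_inf.mp (Subgroup.mem_subgroupOf.mp hmem))).2

/-- Elements of odd order in a group with a subgroup of index at most two lie in the smaller group. -/
theorem odd_mem_of_card_le {G : Type*} [Group G] [Finite G] {A K : Subgroup G}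
    (h : Nat.card K ≤ 2 * Nat.card (K ⊓ A : Subgroup G)) {u : G} (hu : u ∈ K) (hodd : ¬ 2 ∣ orderOf u) : u ∈ A := by
  have h1 := mul_self_mem_of_card_le h hu
  have hn : orderOf u % 2 = 1 := by omega
  obtain ⟨j, hj⟩ : ∃ j, orderOf u = 2 * j + 1 := ⟨orderOf u / 2, by omega⟩
  have e : u = (u * u) ^ (j + 1) := by
    rw [← sq, ← pow_mul]
    have : 2 * (j + 1) = orderOf u + 1 := by omega
    rw [this, pow_succ, pow_orderOf_eq_one, one_mul]
  rw [e]
  exact A.pow_mem h1 _

variable {F : Type*} [Field F] [Fintype F] {m : ℕ}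
variable (hF : Fintype.card F = 2 ^ (2 * m + 1)) (hm : 1 ≤ m)

include hF hm

/-- An involution is conjugate into the centre of the unipotent group. -/
theorem inv_conj_uG {τ : Cfsg.Sz F m} (h : τ * τ = 1) (h' : τ ≠ 1) :
    ∃ (k : Cfsg.Sz F m) (b : F), b ≠ 0 ∧ k * τ * k⁻¹ = uG hF 0 b := by
  obtain ⟨p, hp, hfix⟩ := fix_of_two_pow hF hm (g := τ) (n := 1) (by rw [pow_one, sq, h])
  obtain ⟨k, hk⟩ := exists_smul_pinf hF hm hp
  have e1 : (k * τ * k⁻¹) * (k * τ * k⁻¹) = 1 := by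
    calc (k * τ * k⁻¹) * (k * τ * k⁻¹) = k * (τ * τ) * k⁻¹ := by group
      _ = 1 := by rw [h]; group
  have e2 : k * τ * k⁻¹ ≠ 1 := by
    intro e
    apply h'
    calc τ = k⁻¹ * (k * τ * k⁻¹) * k := by group
      _ = 1 := by rw [e]; group
  have e3 : (k * τ * k⁻¹) • pinf F = pinf F := by
    rw [← hk]
    simp only [mul_smul, inv_smul_smul, hfix]
  obtain ⟨b, hb, e⟩ := inv_at_pinf hF hm e1 e2 e3
  exact ⟨k, b, hb, e⟩

/-- The centraliser of a central involution. -/
theorem centralizer_uG_zero {b : F} (hb : b ≠ 0) :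
    Subgroup.centralizer ({uG hF 0 b} : Set (Cfsg.Sz F m)) = UU hF hm := by
  have hne : uG hF 0 b ≠ 1 := by
    intro e
    rw [← uG_zero hF hm] at e
    exact hb (uG_inj hF e).2
  apply le_antisymm
  · intro y hy
    exact centralizer_uG hF hm hne (Subgroup.mem_centralizer_singleton_iff.mp hy)
  · rintro _ ⟨e, f, rfl⟩
    rw [Subgroup.mem_centralizer_singleton_iff]
    have h1 := uG_conj hF hm e f 0 b
    rw [sg_zero] at h1
    simp only [mul_zero, zero_mul, add_zero] at h1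
    exact mul_inv_eq_iff_eq_mul.mp h1

/-- An element of the Borel group with non-trivial torus part has odd order. -/
theorem odd_of_torus_part (a b : F) {t : Fˣ} (ht : t ≠ 1) : ¬ 2 ∣ orderOf (uG hF a b * tG hF t) := by
  obtain ⟨c, d, hfix⟩ := exists_affine_fix hF hm a b ht
  set y := uG hF a b * tG hF t with hy
  have h1 : ((uG hF c d)⁻¹ * y * uG hF c d) • pinf F = pinf F := by
    have e1 : y • pinf F = pinf F := by
      rw [hy, mul_smul, tG_smul_pinf hF, uG_smul_pinf hF]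
    rw [mul_smul, mul_smul, uG_smul_pinf hF, e1, inv_smul_eq_iff, uG_smul_pinf hF]
  have h2 : ((uG hF c d)⁻¹ * y * uG hF c d) • pt m (0 : F) 0 = pt m (0 : F) 0 := by
    rw [mul_smul, mul_smul, uG_smul_pt_zero hF, hfix, inv_smul_eq_iff, uG_smul_pt_zero hF]
  obtain ⟨s, hs⟩ := (fix_two_iff hF hm _).mp ⟨h1, h2⟩
  have hy' : y = uG hF c d * tG hF s * (uG hF c d)⁻¹ := by
    rw [← hs]
    group
  have hq : 2 ^ (2 * m + 1) - 1 ≠ 0 := by
    have : 1 < 2 ^ (2 * m + 1) := Nat.one_lt_two_pow (by omega)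
    omega
  have hpow : tG hF s ^ (2 ^ (2 * m + 1) - 1) = 1 := by
    have e : ∀ n : ℕ, tG hF s ^ n = tG hF (s ^ n) := by
      intro n
      induction n with
      | zero => rw [pow_zero, pow_zero, tG_one]
      | succ n ih => rw [pow_succ, ih, tG_mul, pow_succ]
    have hs1 : s ^ (2 ^ (2 * m + 1) - 1) = 1 := by
      apply Units.ext
      rw [Units.val_pow_eq_pow_val, Units.val_one, ← hF]
      exact FiniteField.pow_card_sub_one_eq_one _ s.ne_zero
    rw [e, hs1, tG_one]
  have hy2 : y ^ (2 ^ (2 * m + 1) - 1) = 1 := by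
    rw [hy', conj_pow, hpow, mul_one, mul_inv_cancel]
  intro h
  have h3 := h.trans (orderOf_dvd_of_pow_eq_one hy2)
  have h4 : ¬ 2 ∣ 2 ^ (2 * m + 1) - 1 := by
    have : 2 ∣ 2 ^ (2 * m + 1) := dvd_pow_self 2 (by omega)
    have hp : 1 < 2 ^ (2 * m + 1) := Nat.one_lt_two_pow (by omega)
    omega
  exact h4 h3

/-- The Borel case. -/
theorem borel_lemma {H : Subgroup (Cfsg.Sz F m)} (hH : H ≤ BB F m) (hf : FixH H) {b : F} (hb : b ≠ 0)
    (hτ : uG hF 0 b ∈ H) : H = BB F m := by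
  classical
  haveI := finite_Sz hF hm
  have hne : uG hF 0 b ≠ 1 := by
    intro e
    rw [← uG_zero hF hm] at e
    exact hb (uG_inj hF e).2
  have h1 : Nat.card (UU hF hm) ≤ 2 * Nat.card (UU hF hm ⊓ H : Subgroup (Cfsg.Sz F m)) := by
    apply hf _ hne
    intro x hx
    have : x⁻¹ ∈ Subgroup.centralizer ({uG hF 0 b} : Set (Cfsg.Sz F m)) := by
      rw [centralizer_uG_zero hF hm hb]
      exact (UU hF hm).inv_mem hx
    have e := Subgroup.mem_centralizer_singleton_iff.mp this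
    rw [e, inv_mul_cancel_right]
    exact hτ
  have hZ : ∀ c, uG hF 0 c ∈ H := by
    intro c
    by_cases hc : c = 0
    · subst hc
      rw [uG_zero hF hm]
      exact H.one_mem
    · obtain ⟨a, ha, rfl⟩ := sg1_surj hF hc
      have h2 := mul_self_mem_of_card_le h1 (uG_mem hF hm a 0)
      rw [uG_sq hF] at h2
      rwa [pow_succ]
  have h3 : Nat.card (BB F m) ≤ 2 * Nat.card (BB F m ⊓ H : Subgroup (Cfsg.Sz F m)) := by
    apply hf _ hne
    intro x hx
    have hx' : x⁻¹ ∈ BB F m := (BB F m).inv_mem hx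
    rw [MulAction.mem_stabilizer_iff] at hx'
    obtain ⟨e, f, t, ex⟩ := (fix_pinf_iff hF hm _).mp hx'
    have e1 := conj_BB hF hm e f t 0 b
    rw [← ex, inv_inv] at e1
    rw [e1]
    simp only [mul_zero, zero_mul, add_zero] at *
    have e2 : ((t : F) * 0) = 0 := mul_zero _
    rw [sg_zero]
    simp only [mul_zero, zero_mul, add_zero]
    exact hZ _
  apply le_antisymm hH
  have hodd : ∀ x ∈ BB F m, ¬ 2 ∣ orderOf x → x ∈ H := fun x hx h => odd_mem_of_card_le h3 hx h
  obtain ⟨t₀, ht₀⟩ := exists_unit_ne_one hF hm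
  have hmemB : ∀ (a b : F) (t : Fˣ), uG hF a b * tG hF t ∈ BB F m := by
    intro a b t
    rw [MulAction.mem_stabilizer_iff, mul_smul, tG_smul_pinf hF, uG_smul_pinf hF]
  have htm : ∀ t : Fˣ, t ≠ 1 → tG hF t ∈ H := by
    intro t ht
    apply hodd _ (tG_mem_BB hF hm t)
    have := odd_of_torus_part hF hm 0 0 ht
    rwa [uG_zero hF hm, one_mul] at this
  have hum : ∀ a b, uG hF a b ∈ H := by
    intro a b
    have e := hodd _ (hmemB a b t₀) (odd_of_torus_part hF hm a b ht₀)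
    have e2 := H.mul_mem e (H.inv_mem (htm t₀ ht₀))
    rwa [mul_inv_cancel_right] at e2
  intro x hx
  rw [MulAction.mem_stabilizer_iff] at hx
  obtain ⟨a, b', t, rfl⟩ := (fix_pinf_iff hF hm _).mp hx
  refine H.mul_mem (hum a b') ?_
  by_cases ht : t = 1
  · rw [ht, tG_one]
    exact H.one_mem
  · exact htm t ht

omit hF hm in
theorem mem_centralizer_conj {G : Type*} [Group G] (k g h : G) :
    h ∈ Subgroup.centralizer ({k * g * k⁻¹} : Set G) ↔ k⁻¹ * h * k ∈ Subgroup.centralizer ({g} : Set G) := by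
  rw [Subgroup.mem_centralizer_singleton_iff, Subgroup.mem_centralizer_singleton_iff]
  constructor
  · intro e
    calc k⁻¹ * h * k * g = k⁻¹ * (h * (k * g * k⁻¹)) * k := by group
      _ = k⁻¹ * (k * g * k⁻¹ * h) * k := by rw [e]
      _ = g * (k⁻¹ * h * k) := by group
  · intro e
    calc h * (k * g * k⁻¹) = k * (k⁻¹ * h * k * g) * k⁻¹ := by group
      _ = k * (g * (k⁻¹ * h * k)) * k⁻¹ := by rw [e]
      _ = k * g * k⁻¹ * h := by group

omit hF hm in
theorem normalizer_centralizer_conj {G : Type*} [Group G] (k g : G) :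
    Subgroup.normalizer ((Subgroup.centralizer ({k * g * k⁻¹} : Set G) : Subgroup G) : Set G) =
      (Subgroup.normalizer ((Subgroup.centralizer ({g} : Set G) : Subgroup G) : Set G)).map (MulAut.conj k).toMonoidHom := by
  ext x
  rw [mem_conj_map, Subgroup.mem_normalizer_iff, Subgroup.mem_normalizer_iff]
  constructor
  · intro h y
    have e1 := h (k * y * k⁻¹)
    simp only [SetLike.mem_coe, mem_centralizer_conj] at e1 ⊢
    have e2 : k⁻¹ * (k * y * k⁻¹) * k = y := by group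
    have e3 : k⁻¹ * (x * (k * y * k⁻¹) * x⁻¹) * k = k⁻¹ * x * k * y * (k⁻¹ * x * k)⁻¹ := by group
    rw [e2, e3] at e1
    exact e1
  · intro h y
    have e1 := h (k⁻¹ * y * k)
    simp only [SetLike.mem_coe, mem_centralizer_conj] at e1 ⊢
    have e3 : k⁻¹ * x * k * (k⁻¹ * y * k) * (k⁻¹ * x * k)⁻¹ = k⁻¹ * (x * y * x⁻¹) * k := by group
    rw [e3] at e1
    exact e1

/-- The normaliser of the split torus. -/
theorem normalizer_TT_cases {s : Fˣ} (hs : s ≠ 1) {n : Cfsg.Sz F m}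
    (hn : n ∈ Subgroup.normalizer ((TT hF : Subgroup (Cfsg.Sz F m)) : Set (Cfsg.Sz F m))) :
    (∃ t, n = tG hF t) ∨ ∃ t, n = wG hF hm * tG hF t := by
  have hmem : n⁻¹ * tG hF s * n ∈ TT hF := by
    have hn' := (Subgroup.normalizer ((TT hF : Subgroup (Cfsg.Sz F m)) : Set (Cfsg.Sz F m))).inv_mem hn
    have := (Subgroup.mem_normalizer_iff.mp hn' (tG hF s)).mp ⟨s, rfl⟩
    simpa using this
  obtain ⟨t', ht'⟩ := hmem
  have hconj : tG hF s * n = n * tG hF t' := by
    have e : (MonoidHom.mk' (tG hF) (fun s t => (tG_mul hF s t).symm)) t' = tG hF t' := rfl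
    rw [e] at ht'
    rw [ht']
    group
  have hfix : ∀ p : Projectivization F (Fin 4 → F), tG hF t' • p = p → tG hF s • (n • p) = n • p := by
    intro p hp
    rw [← mul_smul, hconj, mul_smul, hp]
  have hp1 := tG_fix_cases hF hm hs (smul_mem_ovoid hF n (pinf_mem (m := m))) (hfix _ (tG_smul_pinf hF t'))
  have hp2 := tG_fix_cases hF hm hs (smul_mem_ovoid hF n (pt_mem (m := m) (0 : F) 0)) (hfix _ (tG_smul_pt_zero hF t'))
  have h0 : pt m (0 : F) 0 ≠ pinf F := pt_ne_pinf _ _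
  rcases hp1 with h1 | h1
  · rcases hp2 with h2 | h2
    · exact absurd (MulAction.injective n (h2.trans h1.symm)) h0
    · left
      obtain ⟨t, ht⟩ := (fix_two_iff hF hm n).mp ⟨h1, h2⟩
      exact ⟨t, ht⟩
  · rcases hp2 with h2 | h2
    · right
      have h3 : (wG hF hm * n) • pinf F = pinf F := by
        rw [mul_smul, h1, wG_smul_pt_zero hF hm]
      have h4 : (wG hF hm * n) • pt m (0 : F) 0 = pt m (0 : F) 0 := by
        rw [mul_smul, h2, wG_smul_pinf hF hm]
      obtain ⟨t, ht⟩ := (fix_two_iff hF hm _).mp ⟨h3, h4⟩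
      refine ⟨t, ?_⟩
      rw [← ht, ← mul_assoc, wG_sq, one_mul]
    · exact absurd (MulAction.injective n (h1.trans h2.symm)) h0.symm

/-- The normaliser of the centraliser of an element of odd order is small. -/
theorem card_normalizer_odd_le {g : Cfsg.Sz F m} (hg : g ≠ 1) (hodd : ¬ 2 ∣ orderOf g) :
    Nat.card (Subgroup.normalizer ((Subgroup.centralizer ({g} : Set (Cfsg.Sz F m)) : Subgroup (Cfsg.Sz F m)) : Set (Cfsg.Sz F m))) ≤
      4 * Nat.card (Subgroup.centralizer ({g} : Set (Cfsg.Sz F m))) := by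
  classical
  haveI := finite_Sz hF hm
  by_cases hder : Der g
  · exact card_normalizer_le hF hm hder
  · rcases not_der_cases hF hm hg hder with h | ⟨k, s, hs, hk⟩
    · exact absurd (pow_odd_eq_one_of_pow_four hodd h) hg
    · obtain ⟨e⟩ := centralizerConj k g
      rw [← Nat.card_congr e.toEquiv]
      have e1 := normalizer_centralizer_conj k g
      have e2 := card_conj_map (Subgroup.normalizer ((Subgroup.centralizer ({g} : Set (Cfsg.Sz F m)) : Subgroup (Cfsg.Sz F m)) : Set (Cfsg.Sz F m))) k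
      rw [← e1] at e2
      rw [← e2, hk, centralizer_tG_eq hF hm hs]
      -- the normaliser of `TT`
      have hsub : ((Subgroup.normalizer ((TT hF : Subgroup (Cfsg.Sz F m)) : Set (Cfsg.Sz F m)) : Subgroup (Cfsg.Sz F m)) : Set (Cfsg.Sz F m)) ⊆
          (TT hF : Set (Cfsg.Sz F m)) ∪ (fun x => wG hF hm * x) '' (TT hF : Set (Cfsg.Sz F m)) := by
        intro n hn
        rcases normalizer_TT_cases hF hm hs hn with ⟨t, rfl⟩ | ⟨t, rfl⟩
        · exact Or.inl ⟨t, rfl⟩
        · exact Or.inr ⟨tG hF t, ⟨t, rfl⟩, rfl⟩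
      have h1 := Set.ncard_le_ncard hsub (Set.toFinite _)
      have h2 := Set.ncard_union_le (TT hF : Set (Cfsg.Sz F m)) ((fun x => wG hF hm * x) '' (TT hF : Set (Cfsg.Sz F m)))
      have h3 := Set.ncard_image_of_injective (TT hF : Set (Cfsg.Sz F m)) (mul_right_injective (wG hF hm))
      have h4 : ((TT hF : Subgroup (Cfsg.Sz F m)) : Set (Cfsg.Sz F m)).ncard = Nat.card (TT hF) := by
        rw [← Nat.card_coe_set_eq]
        rfl
      have h5 : ((Subgroup.normalizer ((TT hF : Subgroup (Cfsg.Sz F m)) : Set (Cfsg.Sz F m)) : Subgroup (Cfsg.Sz F m)) : Set (Cfsg.Sz F m)).ncard =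
          Nat.card (Subgroup.normalizer ((TT hF : Subgroup (Cfsg.Sz F m)) : Set (Cfsg.Sz F m))) := by
        rw [← Nat.card_coe_set_eq]
        rfl
      omega

/-- The torus normaliser case. -/
theorem no_torus {H : Subgroup (Cfsg.Sz F m)} (hf : FixH H) {τ : Cfsg.Sz F m} (hτ : τ ∈ H) (h2 : τ * τ = 1) (h1 : τ ≠ 1)
    {g : Cfsg.Sz F m} (hg : g ≠ 1) (hodd : ¬ 2 ∣ orderOf g)
    (hN : H ≤ Subgroup.normalizer ((Subgroup.centralizer ({g} : Set (Cfsg.Sz F m)) : Subgroup (Cfsg.Sz F m)) : Set (Cfsg.Sz F m))) :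
    False := by
  classical
  haveI := finite_Sz hF hm
  obtain ⟨k, b, hb, hk⟩ := inv_conj_uG hF hm h2 h1
  set K := Subgroup.centralizer ({τ} : Set (Cfsg.Sz F m)) with hK
  have hcK : Nat.card K = (2 ^ (2 * m + 1)) ^ 2 := by
    obtain ⟨e⟩ := centralizerConj k τ
    rw [hK, ← Nat.card_congr e.toEquiv, hk, centralizer_uG_zero hF hm hb, card_UU hF hm]
  have h3 : Nat.card K ≤ 2 * Nat.card (K ⊓ H : Subgroup (Cfsg.Sz F m)) := by
    apply hf _ h1
    intro x hx
    have hx' : x⁻¹ ∈ K := K.inv_mem hx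
    have e := Subgroup.mem_centralizer_singleton_iff.mp hx'
    rw [e, inv_mul_cancel_right]
    exact hτ
  -- elements of `K` are of two-power order
  have hfour : ∀ x ∈ K, x ^ 4 = 1 := by
    intro x hx
    have hx' : k * x * k⁻¹ ∈ UU hF hm := by
      rw [← centralizer_uG_zero hF hm hb, ← hk, mem_centralizer_conj]
      have e : k⁻¹ * (k * x * k⁻¹) * k = x := by group
      rwa [e]
    obtain ⟨a, b', e⟩ := hx'
    have h4 := uG_pow_four hF hm a b'
    rw [← e, conj_pow] at h4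
    calc x ^ 4 = k⁻¹ * (k * x ^ 4 * k⁻¹) * k := by group
      _ = 1 := by rw [h4]; group
  set C := Subgroup.centralizer ({g} : Set (Cfsg.Sz F m)) with hC
  have hinf : ∀ x ∈ K ⊓ H, x ∈ C → x = 1 := by
    intro x hx hxC
    exact pow_odd_eq_one_of_pow_four (odd_of_mem_centralizer hF hm hg hodd hxC) (hfour x hx.1)
  have hprod : Nat.card (K ⊓ H : Subgroup (Cfsg.Sz F m)) * Nat.card C ≤
      Nat.card (Subgroup.normalizer ((C : Subgroup (Cfsg.Sz F m)) : Set (Cfsg.Sz F m))) := by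
    rw [← Nat.card_prod]
    refine Nat.card_le_card_of_injective (fun p => ⟨(p.1 : Cfsg.Sz F m) * p.2, Subgroup.mul_mem _ (hN p.1.2.2) (Subgroup.le_normalizer p.2.2)⟩) ?_
    rintro ⟨⟨a, ha⟩, ⟨c, hc⟩⟩ ⟨⟨a', ha'⟩, ⟨c', hc'⟩⟩ e
    have e1 : a * c = a' * c' := congrArg Subtype.val e
    have e2 : a'⁻¹ * a = c' * c⁻¹ := by
      calc a'⁻¹ * a = a'⁻¹ * (a * c) * c⁻¹ := by group
        _ = a'⁻¹ * (a' * c') * c⁻¹ := by rw [e1]
        _ = c' * c⁻¹ := by group
    have e3 : a'⁻¹ * a = 1 := by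
      apply hinf _ ((K ⊓ H).mul_mem ((K ⊓ H).inv_mem ha') ha)
      rw [e2]
      exact C.mul_mem hc' (C.inv_mem hc)
    have e4 : a = a' := by
      rw [inv_mul_eq_one] at e3
      exact e3.symm
    subst e4
    have e5 : c = c' := mul_left_cancel e1
    subst e5
    rfl
  have hle := card_normalizer_odd_le hF hm hg hodd
  have hCpos : 0 < Nat.card C := Nat.card_pos
  have h4 : Nat.card (K ⊓ H : Subgroup (Cfsg.Sz F m)) ≤ 4 := by
    have : Nat.card (K ⊓ H : Subgroup (Cfsg.Sz F m)) * Nat.card C ≤ 4 * Nat.card C := hprod.trans hle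
    exact Nat.le_of_mul_le_mul_right this hCpos
  rw [hcK] at h3
  have h5 : (2 ^ (2 * m + 1)) ^ 2 ≤ 8 := by omega
  have h6 : 2 ^ 3 ≤ 2 ^ (2 * m + 1) := Nat.pow_le_pow_right (by omega) (by omega)
  nlinarith

/-- The subfield case. -/
theorem no_subfield {H : Subgroup (Cfsg.Sz F m)} (hf : FixH H) (htop : H ≠ ⊤) {L : Subfield F}
    (hL : SubData hF hm H L) {b₀ b₁ : F} (h0 : b₀ ∈ L) (h1 : b₁ ∈ L) (h00 : b₀ ≠ 0) (h10 : b₁ ≠ 0) (h01 : b₀ ≠ b₁) : False := by
  classical
  haveI := finite_Sz hF hm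
  have hne : uG hF 0 b₀ ≠ 1 := by
    intro e
    rw [← uG_zero hF hm] at e
    exact h00 (uG_inj hF e).2
  have hτ : uG hF 0 b₀ ∈ H := hL.hu _ _ L.zero_mem h0
  have h2 : Nat.card (UU hF hm) ≤ 2 * Nat.card (UU hF hm ⊓ H : Subgroup (Cfsg.Sz F m)) := by
    apply hf _ hne
    intro x hx
    have : x⁻¹ ∈ Subgroup.centralizer ({uG hF 0 b₀} : Set (Cfsg.Sz F m)) := by
      rw [centralizer_uG_zero hF hm h00]
      exact (UU hF hm).inv_mem hx
    have e := Subgroup.mem_centralizer_singleton_iff.mp this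
    rw [e, inv_mul_cancel_right]
    exact hτ
  obtain ⟨k, hk1, hcard, hdvd⟩ := subfield_param hF L h0 h1 h00 h10 h01
  have hsub : Nat.card (UU hF hm ⊓ H : Subgroup (Cfsg.Sz F m)) ≤ Nat.card L * Nat.card L := by
    rw [← Nat.card_prod]
    have hchoice : ∀ g : (UU hF hm ⊓ H : Subgroup (Cfsg.Sz F m)), ∃ p : L × L, (g : Cfsg.Sz F m) = uG hF (p.1 : F) (p.2 : F) := by
      rintro ⟨g, hg1, hg2⟩
      obtain ⟨a, b, rfl⟩ := hg1
      rcases hL.hform _ hg2 with ⟨a', b', t, ha, hb, ht, e⟩ | ⟨x, y, a', b', t, hx, hy, ha, hb, ht, e⟩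
      · have e2 : uG hF a b * tG hF 1 = uG hF a' b' * tG hF t := by
          rw [tG_one, mul_one]
          exact e
        obtain ⟨e3, e4, -⟩ := UT_injG hF hm e2
        exact ⟨(⟨a, e3 ▸ ha⟩, ⟨b, e4 ▸ hb⟩), rfl⟩
      · exfalso
        have h5 : (uG hF a b) • pinf F = pinf F := uG_smul_pinf hF a b
        rw [e, mul_smul, mul_smul, mul_smul, tG_smul_pinf hF, uG_smul_pinf hF, wG_smul_pinf hF hm, uG_smul_pt_zero hF] at h5
        exact pt_ne_pinf _ _ h5
    choose f hfm using hchoice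
    exact Nat.card_le_card_of_injective f (by
      intro g g' e
      apply Subtype.ext
      rw [hfm, hfm, e])
  rw [card_UU hF hm] at h2
  rw [hcard] at hsub
  have h3 : (2 ^ (2 * m + 1)) ^ 2 ≤ 2 * (2 ^ (2 * k + 1) * 2 ^ (2 * k + 1)) := h2.trans (Nat.mul_le_mul_left _ hsub)
  have h4 : 2 ^ (2 * (2 * m + 1)) ≤ 2 ^ (1 + (2 * k + 1) + (2 * k + 1)) := by
    calc 2 ^ (2 * (2 * m + 1)) = (2 ^ (2 * m + 1)) ^ 2 := by rw [← pow_mul, mul_comm]
      _ ≤ _ := h3
      _ = _ := by rw [pow_add, pow_add, pow_one]; ring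
  have h5 := (Nat.pow_le_pow_iff_right (by omega : 1 < 2)).mp h4
  have hle := Nat.le_of_dvd (by omega) hdvd
  have hkm : k = m := by omega
  subst hkm
  apply htop
  have hall : ∀ x : F, x ∈ L := by
    haveI : Fintype L := Fintype.ofFinite _
    have hbij : Function.Bijective (Subtype.val : L → F) := by
      rw [Fintype.bijective_iff_injective_and_card]
      refine ⟨Subtype.val_injective, ?_⟩
      rw [← Nat.card_eq_fintype_card, hcard, hF]
    intro x
    obtain ⟨y, rfl⟩ := hbij.2 x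
    exact y.2
  rw [eq_top_iff]
  intro x _
  rcases bruhatG hF hm x with ⟨a, b, t, rfl⟩ | ⟨x', y, a, b, t, rfl⟩
  · exact H.mul_mem (hL.hu _ _ (hall _) (hall _)) (hL.ht _ (hall _))
  · exact H.mul_mem (H.mul_mem (hL.hu _ _ (hall _) (hall _)) hL.hw)
      (H.mul_mem (hL.hu _ _ (hall _) (hall _)) (hL.ht _ (hall _)))

/-- The core theorem on fixity two. -/
theorem fixity_core {H : Subgroup (Cfsg.Sz F m)} (hf : FixH H) (hbot : H ≠ ⊥) (htop : H ≠ ⊤) :
    (∃ p ∈ Cfsg.suzukiOvoid F m, H = MulAction.stabilizer (Cfsg.Sz F m) p) ∨ Nat.card H = 2 ^ (2 * m + 1) - 1 := by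
  classical
  haveI := finite_Sz hF hm
  by_cases h2 : 2 ∣ Nat.card H
  · obtain ⟨τ, hτ⟩ := exists_prime_orderOf_dvd_card' (G := H) 2 h2
    have h5 : (τ : Cfsg.Sz F m) * τ = 1 := by
      have := pow_orderOf_eq_one τ
      rw [hτ, sq] at this
      exact congrArg Subtype.val this
    have h6 : (τ : Cfsg.Sz F m) ≠ 1 := by
      intro h
      have : τ = 1 := Subtype.ext h
      rw [this, orderOf_one] at hτ
      omega
    rcases subgroup_trichotomy hF hm H with ⟨p, hp, hfix⟩ | ⟨g, hg1, hg2, hg3⟩ | ⟨k, L, b₀, b₁, hL, h0, h1, h00, h10, h01⟩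
    · left
      refine ⟨p, hp, ?_⟩
      obtain ⟨x, hx⟩ := exists_smul_pinf hF hm hp
      have hle : H.map (MulAut.conj x).toMonoidHom ≤ BB F m := by
        intro y hy
        have hy' := (mem_conj_map H x y).mp hy
        rw [MulAction.mem_stabilizer_iff]
        have e1 := hfix _ hy'
        rw [mul_smul, mul_smul, inv_smul_eq_iff] at e1
        rw [← hx]
        exact e1
      have hτ' : x * (τ : Cfsg.Sz F m) * x⁻¹ ∈ H.map (MulAut.conj x).toMonoidHom := ⟨τ, τ.2, rfl⟩
      have e1 : (x * (τ : Cfsg.Sz F m) * x⁻¹) * (x * (τ : Cfsg.Sz F m) * x⁻¹) = 1 := by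
        calc (x * (τ : Cfsg.Sz F m) * x⁻¹) * (x * (τ : Cfsg.Sz F m) * x⁻¹) = x * ((τ : Cfsg.Sz F m) * τ) * x⁻¹ := by group
          _ = 1 := by rw [h5]; group
      have e2 : x * (τ : Cfsg.Sz F m) * x⁻¹ ≠ 1 := by
        intro e
        apply h6
        calc (τ : Cfsg.Sz F m) = x⁻¹ * (x * (τ : Cfsg.Sz F m) * x⁻¹) * x := by group
          _ = 1 := by rw [e]; group
      have e3 : (x * (τ : Cfsg.Sz F m) * x⁻¹) • pinf F = pinf F := hle hτ'
      obtain ⟨b, hb, e⟩ := inv_at_pinf hF hm e1 e2 e3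
      rw [e] at hτ'
      have hH' := borel_lemma hF hm hle (hf.conj x) hb hτ'
      ext y
      have e4 : y ∈ H ↔ x * y * x⁻¹ ∈ H.map (MulAut.conj x).toMonoidHom := by
        rw [mem_conj_map]
        have e : x⁻¹ * (x * y * x⁻¹) * x = y := by group
        rw [e]
      rw [e4, hH', MulAction.mem_stabilizer_iff, MulAction.mem_stabilizer_iff, ← hx, mul_smul, mul_smul, inv_smul_smul]
      constructor
      · intro h
        exact MulAction.injective x h
      · intro h
        rw [h]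
    · exact (no_torus hF hm hf τ.2 h5 h6 hg1 hg2 hg3).elim
    · exfalso
      refine no_subfield hF hm (hf.conj k) ?_ hL h0 h1 h00 h10 h01
      intro e
      apply htop
      rw [eq_top_iff]
      intro x _
      have hx : k * x * k⁻¹ ∈ H.map (MulAut.conj k).toMonoidHom := by
        rw [e]
        exact Subgroup.mem_top _
      have := (mem_conj_map H k _).mp hx
      have e' : k⁻¹ * (k * x * k⁻¹) * k = x := by group
      rwa [e'] at this
  · right
    obtain ⟨g₀, hg₀, hg₀1⟩ := H.bot_or_exists_ne_one.resolve_left hbot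
    have hoddg : ¬ 2 ∣ orderOf g₀ := fun h => h2 (h.trans (Subgroup.orderOf_dvd_natCard H hg₀))
    have hle := odd_subgroup hF hm H h2 hg₀ hg₀1
    set C := Subgroup.centralizer ({g₀} : Set (Cfsg.Sz F m)) with hC
    have h3 : Nat.card C ≤ 2 * Nat.card (C ⊓ H : Subgroup (Cfsg.Sz F m)) := by
      apply hf _ hg₀1
      intro x hx
      have hx' : x⁻¹ ∈ C := C.inv_mem hx
      have e := Subgroup.mem_centralizer_singleton_iff.mp hx'
      rw [e, inv_mul_cancel_right]
      exact hg₀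
    rw [inf_eq_right.mpr hle] at h3
    obtain ⟨h4, h4'⟩ := odd_block hF hm hg₀1 hoddg
    obtain ⟨-, h5, -⟩ := block_nums (m := m) hm _ h4'
    have hdvd : Nat.card H ∣ Nat.card C := Subgroup.card_dvd_of_le hle
    obtain ⟨c, hc⟩ := hdvd
    have hHpos : 0 < Nat.card H := Nat.card_pos
    have hc2 : c ≤ 2 := by
      rw [hc, mul_comm] at h3
      exact Nat.le_of_mul_le_mul_right h3 hHpos
    have hc1 : c = 1 := by
      have h7 : c ≠ 0 := by
        rintro rfl
        rw [mul_zero] at hc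
        have : 0 < Nat.card C := Nat.card_pos
        omega
      have h8 : c ≠ 2 := by
        rintro rfl
        exact h5 ⟨_, by rw [hc, mul_comm]⟩
      omega
    rw [hc1, mul_one] at hc
    have hHC : H = C := Subgroup.eq_of_le_of_card_ge hle hc.le
    by_cases hder : Der g₀
    · exfalso
      have h6 : Nat.card (Subgroup.normalizer ((C : Subgroup (Cfsg.Sz F m)) : Set (Cfsg.Sz F m))) ≤
          2 * Nat.card (Subgroup.normalizer ((C : Subgroup (Cfsg.Sz F m)) : Set (Cfsg.Sz F m)) ⊓ H : Subgroup (Cfsg.Sz F m)) := by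
        apply hf _ hg₀1
        intro x hx
        rw [hHC]
        have hx' := (Subgroup.normalizer ((C : Subgroup (Cfsg.Sz F m)) : Set (Cfsg.Sz F m))).inv_mem hx
        have hg₀C : g₀ ∈ C := Subgroup.mem_centralizer_singleton_iff.mpr rfl
        have := (Subgroup.mem_normalizer_iff.mp hx' g₀).mp hg₀C
        simpa using this
      have hle2 : H ≤ Subgroup.normalizer ((C : Subgroup (Cfsg.Sz F m)) : Set (Cfsg.Sz F m)) :=
        hle.trans Subgroup.le_normalizer
      rw [inf_eq_right.mpr hle2, der_normalizer_card hF hm hder, ← hC, ← hc] at h6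
      omega
    · rcases not_der_cases hF hm hg₀1 hder with h | ⟨k, s, hs, hk⟩
      · exact absurd (pow_odd_eq_one_of_pow_four hoddg h) hg₀1
      · obtain ⟨e⟩ := centralizerConj k g₀
        rw [hHC, hC, ← Nat.card_congr e.toEquiv, hk, centralizer_tG_eq hF hm hs, card_TT hF hm]

end Cfsg.Agent.Lib.Suzuki
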