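import Mathlib

/-! Counting involutions in subgroups of Zassenhaus-type groups acting on a set. -/

set_option autoImplicit false

namespace Cfsg.Agent.Lib.Suzuki.ZT

open Finset

variable {G Ω : Type*} [Group G] [MulAction G Ω]

variable (G Ω) in
/-- The axioms on the action. -/
structure Ax : Prop where
  three : ∀ {g : G} {a b c : Ω}, a ≠ b → b ≠ c → a ≠ c → g • a = a → g • b = b → g • c = c → g = 1
  inv_uniq : ∀ {t : G}, t * t = 1 → t ≠ 1 → ∀ {a b : Ω}, t • a = a → t • b = b → a = b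
  swap : ∀ {g : G} {a b : Ω}, a ≠ b → g • a = b → g • b = a → g * g = 1

/-- The product of two involutions with distinct fixed points has odd order. -/
theorem odd_product (hA : Ax G Ω) [Finite G] {τ₀ τ₁ : G}
    (h0 : τ₀ * τ₀ = 1) (h1 : τ₁ * τ₁ = 1) (h0' : τ₀ ≠ 1) (h1' : τ₁ ≠ 1) {x y : Ω} (hxy : x ≠ y)
    (hx : τ₀ • x = x) (hy : τ₁ • y = y) : ¬ 2 ∣ orderOf (τ₀ * τ₁) := by
  set r := τ₀ * τ₁ with hr
  have inv0 : τ₀⁻¹ = τ₀ := inv_eq_of_mul_eq_one_left h0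
  have inv1 : τ₁⁻¹ = τ₁ := inv_eq_of_mul_eq_one_left h1
  have hrinv : r⁻¹ = τ₁ * τ₀ := by
    rw [hr, mul_inv_rev, inv0, inv1]
  have c0 : τ₀ * r * τ₀⁻¹ = r⁻¹ := by
    rw [hrinv, inv0, hr, ← mul_assoc, h0, one_mul]
  have c1 : τ₁ * r * τ₁⁻¹ = r⁻¹ := by
    rw [hrinv, inv1, hr]
    calc τ₁ * (τ₀ * τ₁) * τ₁ = τ₁ * τ₀ * (τ₁ * τ₁) := by group
      _ = τ₁ * τ₀ := by rw [h1, mul_one]
  have hd : 0 < orderOf r := orderOf_pos r
  rintro ⟨e, he⟩
  set z := r ^ e with hz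
  have hzne : z ≠ 1 := by
    intro hz1
    have := orderOf_le_of_pow_eq_one (by omega : 0 < e) hz1
    omega
  have hzz : z * z = 1 := by
    rw [hz, ← pow_add, ← two_mul, ← he, pow_orderOf_eq_one]
  have hzinv : z⁻¹ = z := inv_eq_of_mul_eq_one_left hzz
  have cz0 : τ₀ * z = z * τ₀ := by
    have : τ₀ * z * τ₀⁻¹ = z := by
      rw [hz, ← conj_pow, c0, inv_pow, ← hz, hzinv]
    exact mul_inv_eq_iff_eq_mul.mp this
  have cz1 : τ₁ * z = z * τ₁ := by
    have : τ₁ * z * τ₁⁻¹ = z := by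
      rw [hz, ← conj_pow, c1, inv_pow, ← hz, hzinv]
    exact mul_inv_eq_iff_eq_mul.mp this
  have fx : z • x = x := by
    apply hA.inv_uniq h0 h0' (a := z • x) (b := x) _ hx
    rw [← mul_smul, cz0, mul_smul, hx]
  have fy : z • y = y := by
    apply hA.inv_uniq h1 h1' (a := z • y) (b := y) _ hy
    rw [← mul_smul, cz1, mul_smul, hy]
  exact hxy (hA.inv_uniq hzz hzne fx fy)

/-- Two involutions with distinct fixed points are conjugated by an involution in the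
dihedral group which they generate. -/
theorem exists_swapper (hA : Ax G Ω) [Finite G] (M : Subgroup G) {τ₀ τ₁ : G} (hM0 : τ₀ ∈ M) (hM1 : τ₁ ∈ M)
    (h0 : τ₀ * τ₀ = 1) (h1 : τ₁ * τ₁ = 1) (h0' : τ₀ ≠ 1) (h1' : τ₁ ≠ 1) {x y : Ω} (hxy : x ≠ y)
    (hx : τ₀ • x = x) (hy : τ₁ • y = y) : ∃ c ∈ M, c • x = y ∧ c • y = x := by
  set r := τ₀ * τ₁ with hr
  have inv0 : τ₀⁻¹ = τ₀ := inv_eq_of_mul_eq_one_left h0
  have inv1 : τ₁⁻¹ = τ₁ := inv_eq_of_mul_eq_one_left h1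
  have hrinv : r⁻¹ = τ₁ * τ₀ := by
    rw [hr, mul_inv_rev, inv0, inv1]
  have c0 : τ₀ * r * τ₀⁻¹ = r⁻¹ := by
    rw [hrinv, inv0, hr, ← mul_assoc, h0, one_mul]
  have c1 : τ₁ * r * τ₁⁻¹ = r⁻¹ := by
    rw [hrinv, inv1, hr]
    calc τ₁ * (τ₀ * τ₁) * τ₁ = τ₁ * τ₀ * (τ₁ * τ₁) := by group
      _ = τ₁ * τ₀ := by rw [h1, mul_one]
  have hd : 0 < orderOf r := orderOf_pos r
  have hodd : ¬ 2 ∣ orderOf r := by
    rintro ⟨e, he⟩
    set z := r ^ e with hz
    have hzne : z ≠ 1 := by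
      intro hz1
      have := orderOf_le_of_pow_eq_one (by omega : 0 < e) hz1
      omega
    have hzz : z * z = 1 := by
      rw [hz, ← pow_add, ← two_mul, ← he, pow_orderOf_eq_one]
    have hzinv : z⁻¹ = z := inv_eq_of_mul_eq_one_left hzz
    have cz0 : τ₀ * z = z * τ₀ := by
      have : τ₀ * z * τ₀⁻¹ = z := by
        rw [hz, ← conj_pow, c0, inv_pow, ← hz, hzinv]
      exact mul_inv_eq_iff_eq_mul.mp this
    have cz1 : τ₁ * z = z * τ₁ := by
      have : τ₁ * z * τ₁⁻¹ = z := by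
        rw [hz, ← conj_pow, c1, inv_pow, ← hz, hzinv]
      exact mul_inv_eq_iff_eq_mul.mp this
    have fx : z • x = x := by
      apply hA.inv_uniq h0 h0' (a := z • x) (b := x) _ hx
      rw [← mul_smul, cz0, mul_smul, hx]
    have fy : z • y = y := by
      apply hA.inv_uniq h1 h1' (a := z • y) (b := y) _ hy
      rw [← mul_smul, cz1, mul_smul, hy]
    exact hxy (hA.inv_uniq hzz hzne fx fy)
  obtain ⟨e, he⟩ : ∃ e, orderOf r = 2 * e + 1 := by
    refine ⟨orderOf r / 2, ?_⟩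
    omega
  set j := e + 1 with hj
  have hr2j : r ^ j * r ^ j = r := by
    rw [← pow_add]
    have : j + j = orderOf r + 1 := by omega
    rw [this, pow_succ, pow_orderOf_eq_one, one_mul]
  set c := τ₀ * r ^ j with hc
  have hconj : τ₀ * r ^ j * τ₀⁻¹ = (r ^ j)⁻¹ := by
    rw [← conj_pow, c0, inv_pow]
  have hcc : c * c = 1 := by
    have : c * c = (τ₀ * r ^ j * τ₀⁻¹) * (τ₀ * τ₀ * r ^ j) := by
      rw [hc]
      group
    rw [this, hconj, h0, one_mul, inv_mul_cancel]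
  have hcτ : c * τ₀ = τ₁ * c := by
    have e1 : c * τ₀ = (τ₀ * r ^ j * τ₀⁻¹) := by
      rw [hc, inv0]
    have e2 : τ₁ * c = (τ₁ * τ₀) * r ^ j := by
      rw [hc, mul_assoc]
    rw [e1, hconj, e2, ← hrinv]
    calc (r ^ j)⁻¹ = (r ^ j * r ^ j)⁻¹ * r ^ j := by group
      _ = r⁻¹ * r ^ j := by rw [hr2j]
  have hcM : c ∈ M := M.mul_mem hM0 (M.pow_mem (M.mul_mem hM0 hM1) j)
  have hcx : c • x = y := by
    apply hA.inv_uniq h1 h1' (a := c • x) (b := y) _ hy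
    rw [← mul_smul, ← hcτ, mul_smul, hx]
  refine ⟨c, hcM, hcx, ?_⟩
  rw [← hcx, ← mul_smul, hcc, one_smul]

open Classical in
/-- The main count: all two-point stabilisers have as many elements as there are involutions at a point. -/
theorem stab_card (hA : Ax G Ω) [Fintype G] (M : Subgroup G) (x₀ : Ω)
    (hΔ : ∀ τ ∈ M, τ * τ = 1 → τ ≠ 1 → ∃ m ∈ M, τ • (m • x₀) = m • x₀)
    {τ₀ : G} (hτM : τ₀ ∈ M) (hτ : τ₀ * τ₀ = 1) (hτ1 : τ₀ ≠ 1) (hτx : τ₀ • x₀ = x₀)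
    {m₁ : G} (hm₁ : m₁ ∈ M) (hne : m₁ • x₀ ≠ x₀) :
    (univ.filter (fun g : G => g ∈ M ∧ g • x₀ = x₀ ∧ g • (m₁ • x₀) = m₁ • x₀)).card =
      (univ.filter (fun g : G => g ∈ M ∧ g * g = 1 ∧ g ≠ 1 ∧ g • x₀ = x₀)).card := by
  set Inv0 := univ.filter (fun g : G => g ∈ M ∧ g * g = 1 ∧ g ≠ 1 ∧ g • x₀ = x₀) with hInv0
  let D : Finset Ω := (univ.filter (fun g : G => g ∈ M)).image (fun m => m • x₀)
  have hD : ∀ x, x ∈ D ↔ ∃ m ∈ M, m • x₀ = x := by
    intro x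
    simp [D]
  let All := univ.filter (fun g : G => g ∈ M ∧ g * g = 1 ∧ g ≠ 1)
  let St : Ω → Finset G := fun x => univ.filter (fun g : G => g ∈ M ∧ g • x₀ = x₀ ∧ g • x = x)
  have a1 : ∀ x ∈ D, (All.filter (fun τ => τ • x = x)).card = Inv0.card := by
    intro x hx
    obtain ⟨m, hm, rfl⟩ := (hD x).mp hx
    apply Finset.card_equiv (MulAut.conj m⁻¹).toEquiv
    intro g
    simp only [All, hInv0, mem_filter, mem_univ, true_and]
    show _ ↔ (m⁻¹ * g * m⁻¹⁻¹ ∈ M ∧ (m⁻¹ * g * m⁻¹⁻¹) * (m⁻¹ * g * m⁻¹⁻¹) = 1 ∧ m⁻¹ * g * m⁻¹⁻¹ ≠ 1 ∧ (m⁻¹ * g * m⁻¹⁻¹) • x₀ = x₀)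
    rw [inv_inv]
    have e1 : m⁻¹ * g * m ∈ M ↔ g ∈ M := by
      constructor
      · intro h
        have := M.mul_mem (M.mul_mem hm h) (M.inv_mem hm)
        have e : m * (m⁻¹ * g * m) * m⁻¹ = g := by group
        rwa [e] at this
      · intro h
        exact M.mul_mem (M.mul_mem (M.inv_mem hm) h) hm
    have e2 : (m⁻¹ * g * m) * (m⁻¹ * g * m) = m⁻¹ * (g * g) * m := by group
    have e3 : m⁻¹ * g * m ≠ 1 ↔ g ≠ 1 := by
      constructor
      · rintro h rfl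
        apply h
        group
      · intro h h'
        apply h
        have : g = m * (m⁻¹ * g * m) * m⁻¹ := by group
        rw [this, h']
        group
    have e4 : (m⁻¹ * g * m) • x₀ = x₀ ↔ g • (m • x₀) = m • x₀ := by
      rw [mul_smul, mul_smul, inv_smul_eq_iff]
    have e5 : m⁻¹ * (g * g) * m = 1 ↔ g * g = 1 := by
      constructor
      · intro h
        have : g * g = m * (m⁻¹ * (g * g) * m) * m⁻¹ := by group
        rw [this, h]
        group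
      · intro h
        rw [h]
        group
    rw [e1, e2, e3, e4, e5]
    tauto
  have b1 : ∀ τ ∈ All, (D.filter (fun x => τ • x = x)).card = 1 := by
    intro τ hτ'
    obtain ⟨h1, h2, h3⟩ := (mem_filter.mp hτ').2
    obtain ⟨m, hm, hf⟩ := hΔ τ h1 h2 h3
    rw [Finset.card_eq_one]
    refine ⟨m • x₀, ?_⟩
    ext x
    simp only [mem_filter, mem_singleton]
    constructor
    · rintro ⟨-, h⟩
      exact hA.inv_uniq h2 h3 h hf
    · rintro rfl
      exact ⟨(hD _).mpr ⟨m, hm, rfl⟩, hf⟩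
  have hAll : All.card = D.card * Inv0.card := by
    have h1 := Finset.sum_card_bipartiteAbove_eq_sum_card_bipartiteBelow (s := D) (t := All)
      (fun (x : Ω) (τ : G) => τ • x = x)
    simp only [Finset.bipartiteAbove, Finset.bipartiteBelow] at h1
    rw [Finset.sum_congr rfl a1, Finset.sum_congr rfl b1] at h1
    simp only [sum_const, smul_eq_mul, mul_one] at h1
    exact h1.symm
  -- the fibres of `τ ↦ τ • x₀`
  have hInv0': All.filter (fun τ => τ • x₀ = x₀) = Inv0 := by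
    ext g
    simp only [All, hInv0, mem_filter, mem_univ, true_and]
    tauto
  have hx₀D : x₀ ∈ D := (hD _).mpr ⟨1, M.one_mem, one_smul _ _⟩
  set D' := D.erase x₀ with hD'
  have hfiber : (All.filter (fun τ => τ • x₀ ≠ x₀)).card =
      ∑ x ∈ D', ((All.filter (fun τ => τ • x₀ ≠ x₀)).filter (fun τ => τ • x₀ = x)).card := by
    apply Finset.card_eq_sum_card_fiberwise
    intro τ hτ'
    have h1 := (mem_filter.mp hτ')
    have h2 := (mem_filter.mp h1.1).2.1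
    exact Finset.mem_coe.mpr (mem_erase.mpr ⟨h1.2, (hD _).mpr ⟨τ, h2, rfl⟩⟩)
  have hsplit : (All.filter (fun τ => τ • x₀ ≠ x₀)).card + Inv0.card = All.card := by
    rw [← hInv0', add_comm]
    exact Finset.card_filter_add_card_filter_not _
  have hswap : ∀ x ∈ D', ((All.filter (fun τ => τ • x₀ ≠ x₀)).filter (fun τ => τ • x₀ = x)).card = (St x).card := by
    intro x hx
    obtain ⟨hxne, hxD⟩ := mem_erase.mp hx
    obtain ⟨m, hm, rfl⟩ := (hD _).mp hxD
    have hτ₁ : (m * τ₀ * m⁻¹) • (m • x₀) = m • x₀ := by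
      simp only [mul_smul, inv_smul_smul, hτx]
    have hτ₁1 : m * τ₀ * m⁻¹ ≠ 1 := by
      simpa [conj_eq_one_iff] using hτ1
    have hτ₁2 : (m * τ₀ * m⁻¹) * (m * τ₀ * m⁻¹) = 1 := by
      have : (m * τ₀ * m⁻¹) * (m * τ₀ * m⁻¹) = m * (τ₀ * τ₀) * m⁻¹ := by group
      rw [this, hτ]
      group
    obtain ⟨c, hcM, hc1, hc2⟩ := exists_swapper hA M hτM (M.mul_mem (M.mul_mem hm hτM) (M.inv_mem hm)) hτ hτ₁2 hτ1 hτ₁1
      (Ne.symm hxne) hτx hτ₁
    symm
    apply Finset.card_bij (fun h _ => c * h)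
    · intro h hh
      obtain ⟨h1, h2, h3⟩ := (mem_filter.mp hh).2
      have e1 : (c * h) • x₀ = m • x₀ := by rw [mul_smul, h2, hc1]
      have e2 : (c * h) • (m • x₀) = x₀ := by rw [mul_smul, h3, hc2]
      have hsq := hA.swap (Ne.symm hxne) e1 e2
      simp only [mem_filter, All, mem_univ, true_and]
      refine ⟨⟨⟨M.mul_mem hcM h1, hsq, ?_⟩, ?_⟩, e1⟩
      · intro h1'
        rw [h1', one_smul] at e1
        exact hxne e1.symm
      · rw [e1]
        exact hxne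
    · intro a _ b _ hab
      exact mul_left_cancel hab
    · intro τ hτ'
      obtain ⟨h1, h2⟩ := mem_filter.mp hτ'
      obtain ⟨h3, h4⟩ := mem_filter.mp h1
      obtain ⟨h5, h6, h7⟩ := (mem_filter.mp h3).2
      have hcc := hA.swap (Ne.symm hxne) hc1 hc2
      have hcinv : c⁻¹ = c := inv_eq_of_mul_eq_one_left hcc
      refine ⟨c * τ, ?_, ?_⟩
      · have e1 : (c * τ) • x₀ = x₀ := by rw [mul_smul, h2, hc2]
        have e0 : τ • (m • x₀) = x₀ := by
          rw [← h2, ← mul_smul, h6, one_smul]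
        have e2 : (c * τ) • (m • x₀) = m • x₀ := by
          rw [mul_smul, e0, hc1]
        exact mem_filter.mpr ⟨mem_univ _, M.mul_mem hcM h5, e1, e2⟩
      · rw [← mul_assoc, hcc, one_mul]
  have hbound : ∀ x ∈ D', (St x).card ≤ Inv0.card := by
    intro x hx
    obtain ⟨hxne, -⟩ := mem_erase.mp hx
    apply Finset.card_le_card_of_injOn (fun h => h * τ₀ * h⁻¹)
    · intro h hh
      obtain ⟨h1, h2, h3⟩ := (mem_filter.mp (Finset.mem_coe.mp hh)).2
      refine Finset.mem_coe.mpr (mem_filter.mpr ⟨mem_univ _, M.mul_mem (M.mul_mem h1 hτM) (M.inv_mem h1), ?_, ?_, ?_⟩)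
      · have : (h * τ₀ * h⁻¹) * (h * τ₀ * h⁻¹) = h * (τ₀ * τ₀) * h⁻¹ := by group
        rw [this, hτ]
        group
      · simpa [conj_eq_one_iff] using hτ1
      · rw [mul_smul, mul_smul, inv_smul_eq_iff.mpr h2.symm, hτx, h2]
    · intro h hh h' hh' he
      obtain ⟨h1, h2, h3⟩ := (mem_filter.mp (Finset.mem_coe.mp hh)).2
      obtain ⟨h1', h2', h3'⟩ := (mem_filter.mp (Finset.mem_coe.mp hh')).2
      simp only at he
      set g := h'⁻¹ * h with hg
      have hcomm : g * τ₀ = τ₀ * g := by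
        have e : h * τ₀ = (h * τ₀ * h⁻¹) * h := by group
        have e' : τ₀ * h' ⁻¹ = h'⁻¹ * (h' * τ₀ * h'⁻¹) := by group
        rw [hg, mul_assoc, e, he, ← mul_assoc τ₀, e']
        group
      have gx₀ : g • x₀ = x₀ := by
        rw [hg, mul_smul, h2, inv_smul_eq_iff, h2']
      have gx : g • x = x := by
        rw [hg, mul_smul, h3, inv_smul_eq_iff, h3']
      have hτxne : τ₀ • x ≠ x := fun e => hxne (hA.inv_uniq hτ hτ1 e hτx)
      have hτx₀ne : τ₀ • x ≠ x₀ := by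
        intro e
        apply hxne
        have := congrArg (fun y => τ₀ • y) e
        simp only [hτx, ← mul_smul, hτ, one_smul] at this
        exact this
      have gτ : g • (τ₀ • x) = τ₀ • x := by
        rw [← mul_smul, hcomm, mul_smul, gx]
      have g1 := hA.three (Ne.symm hxne) (Ne.symm hτxne) (Ne.symm hτx₀ne) gx₀ gx gτ
      rw [hg, inv_mul_eq_one] at g1
      exact g1.symm
  have hsum : ∑ x ∈ D', (St x).card = ∑ _x ∈ D', Inv0.card := by
    rw [← Finset.sum_congr rfl hswap, ← hfiber, Finset.sum_const, hD', Finset.card_erase_of_mem hx₀D,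
      smul_eq_mul]
    have hpos : 0 < D.card := Finset.card_pos.mpr ⟨x₀, hx₀D⟩
    have e2 : (All.filter (fun τ => τ • x₀ ≠ x₀)).card + Inv0.card = D.card * Inv0.card := by rw [hsplit, hAll]
    have e3 : D.card * Inv0.card = (D.card - 1) * Inv0.card + Inv0.card := by
      obtain ⟨n, hn⟩ : ∃ n, D.card = n + 1 := ⟨D.card - 1, by omega⟩
      rw [hn]
      simp only [Nat.add_sub_cancel]
      ring
    omega
  have hmem : m₁ • x₀ ∈ D' := mem_erase.mpr ⟨hne, (hD _).mpr ⟨m₁, hm₁, rfl⟩⟩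
  exact (Finset.sum_eq_sum_iff_of_le hbound).mp hsum _ hmem

/-- The count, without decidability. -/
theorem stab_card' (hA : Ax G Ω) [Finite G] (M : Subgroup G) (x₀ : Ω)
    (hΔ : ∀ τ ∈ M, τ * τ = 1 → τ ≠ 1 → ∃ m ∈ M, τ • (m • x₀) = m • x₀)
    {τ₀ : G} (hτM : τ₀ ∈ M) (hτ : τ₀ * τ₀ = 1) (hτ1 : τ₀ ≠ 1) (hτx : τ₀ • x₀ = x₀)
    {m₁ : G} (hm₁ : m₁ ∈ M) (hne : m₁ • x₀ ≠ x₀) :
    Nat.card {g : G // g ∈ M ∧ g • x₀ = x₀ ∧ g • (m₁ • x₀) = m₁ • x₀} =
      Nat.card {g : G // g ∈ M ∧ g * g = 1 ∧ g ≠ 1 ∧ g • x₀ = x₀} := by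
  classical
  haveI : Fintype G := Fintype.ofFinite G
  have h := stab_card hA M x₀ hΔ hτM hτ hτ1 hτx hm₁ hne
  rw [Nat.card_eq_fintype_card, Nat.card_eq_fintype_card, Fintype.card_subtype, Fintype.card_subtype]
  convert h

end Cfsg.Agent.Lib.Suzuki.ZT
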