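import Cfsg.Agent.Lib.Suzuki.Part
import Cfsg.Agent.Lib.Suzuki.ZT

/-! Centralisers of elements of odd order; subgroups of odd order. -/

set_option autoImplicit false

namespace Cfsg.Agent.Lib.Suzuki

open Finset

section general

variable {G : Type*} [Group G]

omit [Group G] in
theorem pow_odd_eq_one_of_pow_four {G : Type*} [Group G] {g : G} (hodd : ¬ 2 ∣ orderOf g) (h : g ^ 4 = 1) : g = 1 := by
  have h1 : orderOf g ∣ 2 ^ 2 := orderOf_dvd_of_pow_eq_one (by simpa using h)
  have hco : Nat.Coprime (orderOf g) (2 ^ 2) :=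
    Nat.Coprime.pow_right 2 ((Nat.Prime.coprime_iff_not_dvd Nat.prime_two).mpr hodd).symm
  exact orderOf_eq_one_iff.mp (Nat.Coprime.eq_one_of_dvd hco h1)

/-- The abstract odd-order argument: a subgroup `M` in which the centralisers of non-trivial elements
behave like a partition into abelian self-normalising subgroups lies in each of these centralisers. -/
theorem odd_subgroup_aux [Fintype G] [DecidableEq G] (M : Subgroup G) (hodd : ¬ 2 ∣ Nat.card M)
    (hC : ∀ g ∈ M, g ≠ 1 → ∀ y ∈ Subgroup.centralizer ({g} : Set G), y ≠ 1 →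
      Subgroup.centralizer ({y} : Set G) = Subgroup.centralizer ({g} : Set G))
    (hab : ∀ g ∈ M, g ≠ 1 → ∀ a ∈ Subgroup.centralizer ({g} : Set G), ∀ b ∈ Subgroup.centralizer ({g} : Set G), a * b = b * a)
    (hN : ∀ g ∈ M, g ≠ 1 → ∀ n ∈ M, n * g * n⁻¹ ∈ Subgroup.centralizer ({g} : Set G) → n ∈ Subgroup.centralizer ({g} : Set G))
    {g : G} (hg : g ∈ M) (hg1 : g ≠ 1) : M ≤ Subgroup.centralizer ({g} : Set G) := by
  classical
  let MF : Finset G := univ.filter (· ∈ M)
  have hMF : MF.card = Nat.card M := by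
    rw [Nat.card_eq_fintype_card, Fintype.card_subtype]
  let Aa : G → Finset G := fun g => univ.filter (fun y => y ∈ M ∧ y ∈ Subgroup.centralizer ({g} : Set G))
  let SS : G → Finset (G × G) := fun g => MF ×ˢ (Aa g).erase 1
  let XX : G → Finset G := fun g => (SS g).image (fun p => p.1 * p.2 * p.1⁻¹)
  have hAmem : ∀ g y, y ∈ Aa g ↔ y ∈ M ∧ y ∈ Subgroup.centralizer ({g} : Set G) := by
    intro g y
    simp [Aa]
  have hA1 : ∀ g, (1 : G) ∈ Aa g := fun g => (hAmem g 1).mpr ⟨M.one_mem, Subgroup.one_mem _⟩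
  -- exact count
  have hcount : ∀ g ∈ M, g ≠ 1 → (XX g).card * (Aa g).card = MF.card * ((Aa g).card - 1) := by
    intro g hgM hg1
    have h1 : (SS g).card = MF.card * ((Aa g).card - 1) := by
      rw [Finset.card_product, Finset.card_erase_of_mem (hA1 g)]
    have hfib : ∀ z ∈ XX g, ((SS g).filter (fun p => p.1 * p.2 * p.1⁻¹ = z)).card = (Aa g).card := ?_
    · rw [← h1, Finset.card_eq_sum_card_image (fun p : G × G => p.1 * p.2 * p.1⁻¹) (SS g), Finset.sum_congr rfl hfib,
        Finset.sum_const, smul_eq_mul]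
    intro z hz
    obtain ⟨⟨k₀, y₀⟩, h0, rfl⟩ := Finset.mem_image.mp hz
    simp only [SS, mem_product, mem_erase, hAmem] at h0
    obtain ⟨hk₀, hy₀1, hy₀M, hy₀C⟩ := h0
    have hk₀M : k₀ ∈ M := (mem_filter.mp hk₀).2
    symm
    apply Finset.card_bij' (fun c _ => (k₀ * c, y₀)) (fun p _ => k₀⁻¹ * p.1)
    · intro c hc
      obtain ⟨hcM, hcC⟩ := (hAmem g c).mp hc
      simp only [mem_filter, SS, mem_product, mem_erase, hAmem]
      refine ⟨⟨mem_filter.mpr ⟨mem_univ _, M.mul_mem hk₀M hcM⟩, hy₀1, hy₀M, hy₀C⟩, ?_⟩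
      have e : c * y₀ = y₀ * c := hab g hgM hg1 c hcC y₀ hy₀C
      have : k₀ * c * y₀ * (k₀ * c)⁻¹ = k₀ * (c * y₀ * c⁻¹) * k₀⁻¹ := by group
      rw [this, e, mul_inv_cancel_right]
    · rintro ⟨k, y⟩ hp
      simp only [mem_filter, SS, mem_product, mem_erase, hAmem] at hp
      obtain ⟨⟨hkM, hy1, hyM, hyC⟩, he⟩ := hp
      have hkM' : k ∈ M := (mem_filter.mp hkM).2
      simp only [hAmem]
      have hnM : k₀⁻¹ * k ∈ M := M.mul_mem (M.inv_mem hk₀M) hkM'
      refine ⟨hnM, ?_⟩
      -- the centraliser of `y` is that of `g`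
      have hCy := hC g hgM hg1 y hyC hy1
      have hCy0 := hC g hgM hg1 y₀ hy₀C hy₀1
      have e2 : (k₀⁻¹ * k) * y * (k₀⁻¹ * k)⁻¹ = y₀ := by
        have : (k₀⁻¹ * k) * y * (k₀⁻¹ * k)⁻¹ = k₀⁻¹ * (k * y * k⁻¹) * k₀ := by group
        rw [this, he]
        group
      have h7 := hN y hyM hy1 _ hnM (by rw [e2, hCy]; exact hy₀C)
      rw [hCy] at h7
      exact h7
    · intro c hc
      simp
    · rintro ⟨k, y⟩ hp
      simp only [mem_filter, SS, mem_product, mem_erase, hAmem] at hp
      obtain ⟨⟨hkM, hy1, hyM, hyC⟩, he⟩ := hp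
      have hkM' : k ∈ M := (mem_filter.mp hkM).2
      have hCy := hC g hgM hg1 y hyC hy1
      have e2 : (k₀⁻¹ * k) * y * (k₀⁻¹ * k)⁻¹ = y₀ := by
        have : (k₀⁻¹ * k) * y * (k₀⁻¹ * k)⁻¹ = k₀⁻¹ * (k * y * k⁻¹) * k₀ := by group
        rw [this, he]
        group
      have hnM : k₀⁻¹ * k ∈ M := M.mul_mem (M.inv_mem hk₀M) hkM'
      have h7 := hN y hyM hy1 _ hnM (by rw [e2, hCy]; exact hy₀C)
      rw [hCy] at h7
      have e3 : (k₀⁻¹ * k) * y = y * (k₀⁻¹ * k) := hab g hgM hg1 _ h7 y hyC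
      have e4 : y = y₀ := by
        rw [← e2, e3]
        group
      simp only [Prod.mk.injEq]
      exact ⟨by group, e4.symm⟩
  have hsub : ∀ g ∈ M, g ≠ 1 → XX g ⊆ MF.erase 1 := by
    intro g hgM hg1 z hz
    obtain ⟨⟨k, y⟩, h0, rfl⟩ := Finset.mem_image.mp hz
    simp only [SS, mem_product, mem_erase, hAmem] at h0
    obtain ⟨hk, hy1, hyM, -⟩ := h0
    have hkM : k ∈ M := (mem_filter.mp hk).2
    refine mem_erase.mpr ⟨?_, mem_filter.mpr ⟨mem_univ _, M.mul_mem (M.mul_mem hkM hyM) (M.inv_mem hkM)⟩⟩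
    simpa [conj_eq_one_iff] using hy1
  have hoddA : ∀ g ∈ M, g ≠ 1 → 3 ≤ (Aa g).card := by
    intro g hgM hg1
    have hsubM : Aa g ⊆ MF := fun y hy => mem_filter.mpr ⟨mem_univ _, ((hAmem g y).mp hy).1⟩
    -- the order of the subgroup `M ⊓ C(g)` is odd and not one
    have hcard : (Aa g).card = Nat.card ↥(M ⊓ Subgroup.centralizer ({g} : Set G)) := by
      rw [Nat.card_eq_fintype_card, Fintype.card_subtype]
      congr 1
      ext y
      simp [hAmem, Subgroup.mem_inf]
    have hdvd : Nat.card ↥(M ⊓ Subgroup.centralizer ({g} : Set G)) ∣ Nat.card M := by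
      apply Subgroup.card_dvd_of_le
      exact inf_le_left
    have hodd' : ¬ 2 ∣ (Aa g).card := by
      rw [hcard]
      exact fun h => hodd (h.trans hdvd)
    have h2 : 1 < (Aa g).card := by
      apply Finset.one_lt_card.mpr
      exact ⟨1, hA1 g, g, (hAmem g g).mpr ⟨hgM, Subgroup.mem_centralizer_singleton_iff.mpr rfl⟩, hg1.symm⟩
    omega
  have hlow : ∀ g ∈ M, g ≠ 1 → 2 * MF.card ≤ 3 * (XX g).card := by
    intro g hgM hg1
    have h3 := hoddA g hgM hg1
    have h4 := hcount g hgM hg1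
    obtain ⟨a, ha⟩ : ∃ a, (Aa g).card = a + 3 := ⟨(Aa g).card - 3, by omega⟩
    rw [ha] at h4
    simp only [Nat.add_succ_sub_one] at h4
    have h6 : (a + 3) * (2 * MF.card) ≤ (a + 3) * (3 * (XX g).card) := by
      have e1 : (a + 3) * (3 * (XX g).card) = 3 * ((XX g).card * (a + 3)) := by ring
      rw [e1, h4]
      have e2 : (a + 3) * (2 * MF.card) = (2 * a + 6) * MF.card := by ring
      have e3 : 3 * (MF.card * (a + 2)) = (3 * a + 6) * MF.card := by ring
      rw [e2, e3]
      exact Nat.mul_le_mul_right _ (by omega)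
    exact Nat.le_of_mul_le_mul_left h6 (by omega)
  have hMpos : 0 < MF.card := Finset.card_pos.mpr ⟨1, mem_filter.mpr ⟨mem_univ _, M.one_mem⟩⟩
  have hall : XX g = MF.erase 1 := by
    by_contra hne
    have hss := hsub g hg hg1
    obtain ⟨h, hh1, hh2⟩ : ∃ h ∈ MF.erase 1, h ∉ XX g := by
      by_contra hcon
      push Not at hcon
      exact hne (Finset.Subset.antisymm hss hcon)
    obtain ⟨hne1, hhM'⟩ := mem_erase.mp hh1
    have hhM : h ∈ M := (mem_filter.mp hhM').2
    have hdisj : Disjoint (XX g) (XX h) := by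
      rw [Finset.disjoint_left]
      intro z hz hz'
      obtain ⟨⟨k, y⟩, h0, rfl⟩ := Finset.mem_image.mp hz
      obtain ⟨⟨k', y'⟩, h0', he⟩ := Finset.mem_image.mp hz'
      simp only [SS, mem_product, mem_erase, hAmem] at h0 h0'
      obtain ⟨hk, hy1, hyM, hyC⟩ := h0
      obtain ⟨hk', hy1', hyM', hyC'⟩ := h0'
      simp only at he
      have hkM : k ∈ M := (mem_filter.mp hk).2
      have hkM' : k' ∈ M := (mem_filter.mp hk').2
      apply hh2
      -- `n = k⁻¹ * k'` conjugates `y'` to `y`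
      set n := k⁻¹ * k' with hn
      have e1 : n * y' * n⁻¹ = y := by
        have : n * y' * n⁻¹ = k⁻¹ * (k' * y' * k'⁻¹) * k := by
          rw [hn]
          group
        rw [this, he]
        group
      have hC1 := hC g hg hg1 y hyC hy1
      have hC2 := hC h hhM hne1 y' hyC' hy1'
      have h3 : n * h * n⁻¹ ∈ Subgroup.centralizer ({g} : Set G) := by
        rw [← hC1, Subgroup.mem_centralizer_singleton_iff, ← e1]
        have hh : h ∈ Subgroup.centralizer ({y'} : Set G) := by
          rw [hC2]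
          exact Subgroup.mem_centralizer_singleton_iff.mpr rfl
        have hh' : h * y' = y' * h := Subgroup.mem_centralizer_singleton_iff.mp hh
        have e5 : n * h * n⁻¹ * (n * y' * n⁻¹) = n * (h * y') * n⁻¹ := by group
        have e6 : n * y' * n⁻¹ * (n * h * n⁻¹) = n * (y' * h) * n⁻¹ := by group
        rw [e5, e6, hh']
      have hnM : n ∈ M := M.mul_mem (M.inv_mem hkM) hkM'
      have h4 : n * h * n⁻¹ ≠ 1 := by
        simpa [conj_eq_one_iff] using hne1
      have h5 : n * h * n⁻¹ ∈ M := M.mul_mem (M.mul_mem hnM hhM) (M.inv_mem hnM)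
      refine Finset.mem_image.mpr ⟨(n⁻¹, n * h * n⁻¹), ?_, ?_⟩
      · simp only [SS, mem_product, mem_erase, hAmem]
        exact ⟨mem_filter.mpr ⟨mem_univ _, M.inv_mem hnM⟩, h4, h5, h3⟩
      · simp only
        group
    have h1 := hlow g hg hg1
    have h3 := hlow h hhM hne1
    have h4 : (XX g).card + (XX h).card ≤ MF.card - 1 := by
      rw [← Finset.card_union_of_disjoint hdisj, ← Finset.card_erase_of_mem (mem_filter.mpr ⟨mem_univ _, M.one_mem⟩)]
      exact Finset.card_le_card (Finset.union_subset hss (hsub h hhM hne1))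
    omega
  have hc := hcount g hg hg1
  rw [hall, Finset.card_erase_of_mem (mem_filter.mpr ⟨mem_univ _, M.one_mem⟩)] at hc
  have hAle : 1 ≤ (Aa g).card := Finset.card_pos.mpr ⟨1, hA1 g⟩
  have heq : (Aa g).card = MF.card := by
    obtain ⟨n, hn⟩ : ∃ n, MF.card = n + 1 := ⟨MF.card - 1, by omega⟩
    obtain ⟨a, ha⟩ : ∃ a, (Aa g).card = a + 1 := ⟨(Aa g).card - 1, by omega⟩
    have hc' : (MF.card - 1) * (Aa g).card = MF.card * ((Aa g).card - 1) := hc
    rw [hn, ha] at hc'
    simp only [Nat.add_sub_cancel] at hc'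
    rw [hn, ha]
    ring_nf at hc'
    omega
  have hsubA : Aa g ⊆ MF := fun y hy => mem_filter.mpr ⟨mem_univ _, ((hAmem g y).mp hy).1⟩
  have heq2 := Finset.eq_of_subset_of_card_le hsubA (le_of_eq heq.symm)
  intro y hy
  have hyMF : y ∈ MF := mem_filter.mpr ⟨mem_univ _, hy⟩
  rw [← heq2] at hyMF
  exact ((hAmem g y).mp hyMF).2

end general

variable {F : Type*} [Field F] [Fintype F] {m : ℕ}
variable (hF : Fintype.card F = 2 ^ (2 * m + 1)) (hm : 1 ≤ m)
include hF hm

/-- The action on the ovoid satisfies the axioms. -/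
theorem ax_Sz : ZT.Ax (Cfsg.Sz F m) (Cfsg.suzukiOvoid F m) where
  three := by
    intro g a b c hab hbc hac h1 h2 h3
    exact fix_three hF hm a.2 b.2 c.2 (fun e => hab (Subtype.ext e)) (fun e => hbc (Subtype.ext e))
      (fun e => hac (Subtype.ext e)) (congrArg Subtype.val h1) (congrArg Subtype.val h2) (congrArg Subtype.val h3)
  inv_uniq := by
    intro t ht ht1 a b h1 h2
    by_contra hab
    have hab' : (a : Projectivization F (Fin 4 → F)) ≠ b := fun e => hab (Subtype.ext e)
    obtain ⟨k, hk1, hk2⟩ := exists_to_base hF hm a.2 b.2 hab'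
    have h1' : t • (a : Projectivization F (Fin 4 → F)) = a := congrArg Subtype.val h1
    have h2' : t • (b : Projectivization F (Fin 4 → F)) = b := congrArg Subtype.val h2
    have e1 : (k * t * k⁻¹) • pinf F = pinf F := by
      rw [← hk1]
      simp only [mul_smul, inv_smul_smul, h1']
    have e2 : (k * t * k⁻¹) • pt m (0 : F) 0 = pt m (0 : F) 0 := by
      rw [← hk2]
      simp only [mul_smul, inv_smul_smul, h2']
    obtain ⟨s, hs⟩ := (fix_two_iff hF hm _).mp ⟨e1, e2⟩
    have e3 : tG hF s * tG hF s = 1 := by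
      rw [← hs]
      have : k * t * k⁻¹ * (k * t * k⁻¹) = k * (t * t) * k⁻¹ := by group
      rw [this, ht]
      group
    rw [tG_mul, ← tG_one hF] at e3
    have e4 := tG_inj hF e3
    have e5 : s = 1 := by
      apply Units.ext
      have := congrArg Units.val e4
      simp only [Units.val_mul, Units.val_one] at this
      exact sq_one_char2 (two_zero hF) (by rw [pow_two]; exact this)
    rw [e5, tG_one, conj_eq_one_iff] at hs
    exact ht1 hs
  swap := by
    intro g a b hab h1 h2
    exact swap_sq hF hm a.2 b.2 (fun e => hab (Subtype.ext e)) (congrArg Subtype.val h1) (congrArg Subtype.val h2)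

/-- An element with a fixed point is a `2`-element or conjugate to a non-trivial torus element. -/
theorem not_der_cases {g : Cfsg.Sz F m} (hg : g ≠ 1) (h : ¬ Der g) :
    g ^ 4 = 1 ∨ ∃ (k : Cfsg.Sz F m) (s : Fˣ), s ≠ 1 ∧ k * g * k⁻¹ = tG hF s := by
  simp only [Der] at h
  push Not at h
  obtain ⟨p, hp, hfix⟩ := h
  obtain ⟨k, hk | hk⟩ := trichotomy hF hm hp hfix
  · obtain ⟨x, y, hxy⟩ := hk
    left
    have e1 : (k * g * k⁻¹) ^ 4 = 1 := by
      rw [hxy]
      exact uG_pow_four hF hm x y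
    rw [conj_pow, mul_inv_eq_one] at e1
    exact mul_left_cancel (e1.trans (mul_one k).symm)
  · obtain ⟨s, hs⟩ := hk
    right
    refine ⟨k, s, ?_, hs⟩
    rintro rfl
    rw [tG_one, conj_eq_one_iff] at hs
    exact hg hs

/-- The centraliser of a non-trivial torus element. -/
theorem centralizer_tG_eq {s : Fˣ} (hs : s ≠ 1) :
    Subgroup.centralizer ({tG hF s} : Set (Cfsg.Sz F m)) = TT hF := by
  apply le_antisymm
  · intro y hy
    exact centralizer_tG hF hm hs (Subgroup.mem_centralizer_singleton_iff.mp hy)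
  · rintro _ ⟨t, rfl⟩
    rw [Subgroup.mem_centralizer_singleton_iff]
    show tG hF t * tG hF s = tG hF s * tG hF t
    rw [tG_mul, tG_mul, mul_comm]

/-- The centraliser of an element of odd order is cyclic, of the right order. -/
theorem odd_block {g : Cfsg.Sz F m} (hg : g ≠ 1) (hodd : ¬ 2 ∣ orderOf g) :
    IsCyclic (Subgroup.centralizer ({g} : Set (Cfsg.Sz F m))) ∧
      Nat.card (Subgroup.centralizer ({g} : Set (Cfsg.Sz F m))) ∈
        ({2 ^ (2 * m + 1) - 1, 2 ^ (2 * m + 1) + 2 ^ (m + 1) + 1, 2 ^ (2 * m + 1) - 2 ^ (m + 1) + 1} : Set ℕ) := by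
  by_cases hder : Der g
  · refine ⟨cyclic_centralizer hF hm hder, ?_⟩
    rcases der_centralizer_card hF hm hder with h | h
    · rw [h]
      exact Or.inr (Or.inl rfl)
    · rw [h]
      exact Or.inr (Or.inr rfl)
  · rcases not_der_cases hF hm hg hder with h | ⟨k, s, hs, hk⟩
    · exact absurd (pow_odd_eq_one_of_pow_four hodd h) hg
    · obtain ⟨e⟩ := centralizerConj k g
      rw [hk, centralizer_tG_eq hF hm hs] at e
      haveI := cyclic_TT hF
      refine ⟨isCyclic_of_surjective e e.surjective, ?_⟩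
      rw [← Nat.card_congr e.toEquiv, card_TT hF hm]
      exact Or.inl rfl

/-- Odd order elements of the centraliser of an odd order element. -/
theorem odd_of_mem_centralizer {g y : Cfsg.Sz F m} (hg : g ≠ 1) (hodd : ¬ 2 ∣ orderOf g)
    (hy : y ∈ Subgroup.centralizer ({g} : Set (Cfsg.Sz F m))) : ¬ 2 ∣ orderOf y := by
  have h1 : orderOf y ∣ Nat.card (Subgroup.centralizer ({g} : Set (Cfsg.Sz F m))) :=
    Subgroup.orderOf_dvd_natCard _ hy
  obtain ⟨-, h2, -⟩ := block_nums (m := m) hm _ (odd_block hF hm hg hodd).2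
  exact fun h => h2 (h.trans h1)

/-- Centralisers of elements of odd order agree on non-trivial elements. -/
theorem centralizer_eq_of_odd {g y : Cfsg.Sz F m} (hg : g ≠ 1) (hodd : ¬ 2 ∣ orderOf g)
    (hy : y ∈ Subgroup.centralizer ({g} : Set (Cfsg.Sz F m))) (hy1 : y ≠ 1) :
    Subgroup.centralizer ({y} : Set (Cfsg.Sz F m)) = Subgroup.centralizer ({g} : Set (Cfsg.Sz F m)) := by
  have hoy := odd_of_mem_centralizer hF hm hg hodd hy
  haveI cg := (odd_block hF hm hg hodd).1
  haveI cy := (odd_block hF hm hy1 hoy).1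
  have hc : y * g = g * y := Subgroup.mem_centralizer_singleton_iff.mp hy
  have hgy : g ∈ Subgroup.centralizer ({y} : Set (Cfsg.Sz F m)) :=
    Subgroup.mem_centralizer_singleton_iff.mpr hc.symm
  apply le_antisymm
  · intro z hz
    exact Subgroup.mem_centralizer_singleton_iff.mpr (cyc_comm hz hgy)
  · intro z hz
    exact Subgroup.mem_centralizer_singleton_iff.mpr (cyc_comm hz hy)

omit hm in
theorem mem_TT_of_fix {n : Cfsg.Sz F m} (hm : 1 ≤ m) (h1 : n • pinf F = pinf F) (h2 : n • pt m (0 : F) 0 = pt m (0 : F) 0) :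
    n ∈ TT hF := by
  obtain ⟨t, rfl⟩ := (fix_two_iff hF hm n).mp ⟨h1, h2⟩
  exact ⟨t, rfl⟩

/-- The normaliser of a torus of the second kind. -/
theorem der_normalizer_card {g : Cfsg.Sz F m} (hg : Der g) :
    Nat.card (Subgroup.normalizer ((Subgroup.centralizer ({g} : Set (Cfsg.Sz F m)) : Subgroup (Cfsg.Sz F m)) : Set (Cfsg.Sz F m))) =
      4 * Nat.card (Subgroup.centralizer ({g} : Set (Cfsg.Sz F m))) := by
  obtain ⟨xp, hxp, hp⟩ := exists_order_plus hF hm
  obtain ⟨xm, hxm, hm'⟩ := exists_order_minus hF hm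
  obtain ⟨h1, h2, h⟩ := main_count hF hm hxp hp hxm hm'
  obtain ⟨k, y, hy1, hy, rfl⟩ := h g hg
  obtain ⟨e⟩ := centralizerConj k y
  rw [Nat.card_congr e.toEquiv]
  have hconj : ∀ z, z ∈ Subgroup.centralizer ({k * y * k⁻¹} : Set (Cfsg.Sz F m)) ↔
      k⁻¹ * z * k ∈ Subgroup.centralizer ({y} : Set (Cfsg.Sz F m)) := by
    intro z
    rw [Subgroup.mem_centralizer_singleton_iff, Subgroup.mem_centralizer_singleton_iff]
    constructor
    · intro h
      have e1 : k⁻¹ * z * k * y = k⁻¹ * (z * (k * y * k⁻¹)) * k := by group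
      have e2 : y * (k⁻¹ * z * k) = k⁻¹ * ((k * y * k⁻¹) * z) * k := by group
      rw [e1, e2, h]
    · intro h
      have e1 : z * (k * y * k⁻¹) = k * ((k⁻¹ * z * k) * y) * k⁻¹ := by group
      have e2 : k * y * k⁻¹ * z = k * (y * (k⁻¹ * z * k)) * k⁻¹ := by group
      rw [e1, e2, h]
  have hN : ∀ x, x ∈ Subgroup.normalizer ((Subgroup.centralizer ({k * y * k⁻¹} : Set (Cfsg.Sz F m)) : Subgroup (Cfsg.Sz F m)) : Set (Cfsg.Sz F m)) ↔
      k⁻¹ * x * k ∈ Subgroup.normalizer ((Subgroup.centralizer ({y} : Set (Cfsg.Sz F m)) : Subgroup (Cfsg.Sz F m)) : Set (Cfsg.Sz F m)) := by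
    intro x
    rw [Subgroup.mem_normalizer_iff, Subgroup.mem_normalizer_iff]
    constructor
    · intro h z
      have := h (k * z * k⁻¹)
      rw [hconj, hconj] at this
      have e1 : k⁻¹ * (k * z * k⁻¹) * k = z := by group
      have e2 : k⁻¹ * (x * (k * z * k⁻¹) * x⁻¹) * k = k⁻¹ * x * k * z * (k⁻¹ * x * k)⁻¹ := by group
      rwa [e1, e2] at this
    · intro h z
      rw [hconj, hconj, h (k⁻¹ * z * k)]
      have e2 : k⁻¹ * (x * z * x⁻¹) * k = k⁻¹ * x * k * (k⁻¹ * z * k) * (k⁻¹ * x * k)⁻¹ := by group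
      rw [e2]
  rw [Nat.card_congr (conjEquiv k hN).toEquiv]
  rcases hy with hy | hy
  · rw [centralizer_eq_of_mem hF hm hxp hy hy1, h1, card_centralizer_plus hF hm hxp hp]
  · rw [centralizer_eq_of_mem hF hm hxm hy hy1, h2, card_centralizer_minus hF hm hxm hm']

/-- An element of odd order normalising the centraliser of an element of odd order centralises that element. -/
theorem odd_self_normalizing {g n : Cfsg.Sz F m} (hg : g ≠ 1) (hodd : ¬ 2 ∣ orderOf g) (hn : ¬ 2 ∣ orderOf n)
    (h : n * g * n⁻¹ ∈ Subgroup.centralizer ({g} : Set (Cfsg.Sz F m))) :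
    n ∈ Subgroup.centralizer ({g} : Set (Cfsg.Sz F m)) := by
  haveI := finite_Sz hF hm
  have hne : n * g * n⁻¹ ≠ 1 := by simpa [conj_eq_one_iff] using hg
  have hCn := centralizer_eq_of_odd hF hm hg hodd h hne
  have hconj : ∀ z, z ∈ Subgroup.centralizer ({n * g * n⁻¹} : Set (Cfsg.Sz F m)) ↔
      n⁻¹ * z * n ∈ Subgroup.centralizer ({g} : Set (Cfsg.Sz F m)) := by
    intro z
    rw [Subgroup.mem_centralizer_singleton_iff, Subgroup.mem_centralizer_singleton_iff]
    constructor
    · intro h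
      have e1 : n⁻¹ * z * n * g = n⁻¹ * (z * (n * g * n⁻¹)) * n := by group
      have e2 : g * (n⁻¹ * z * n) = n⁻¹ * ((n * g * n⁻¹) * z) * n := by group
      rw [e1, e2, h]
    · intro h
      have e1 : z * (n * g * n⁻¹) = n * ((n⁻¹ * z * n) * g) * n⁻¹ := by group
      have e2 : n * g * n⁻¹ * z = n * (g * (n⁻¹ * z * n)) * n⁻¹ := by group
      rw [e1, e2, h]
  have hNn : n ∈ Subgroup.normalizer ((Subgroup.centralizer ({g} : Set (Cfsg.Sz F m)) : Subgroup (Cfsg.Sz F m)) : Set (Cfsg.Sz F m)) := by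
    rw [Subgroup.mem_normalizer_iff]
    intro z
    have this : n⁻¹ * (n * z * n⁻¹) * n = z := by group
    have e := hconj (n * z * n⁻¹)
    rw [hCn, this] at e
    exact e.symm
  by_cases hder : Der g
  · -- `N/C` has order four
    set C := Subgroup.centralizer ({g} : Set (Cfsg.Sz F m)) with hC
    have hcard := der_normalizer_card hF hm hder
    rw [← hC] at hcard
    set N := Subgroup.normalizer ((C : Subgroup (Cfsg.Sz F m)) : Set (Cfsg.Sz F m)) with hN
    haveI : (C.subgroupOf N).Normal := Subgroup.normal_in_normalizer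
    have hindex : (C.subgroupOf N).index = 4 := by
      have h1 := Subgroup.card_mul_index (C.subgroupOf N)
      have hle : C ≤ N := Subgroup.le_normalizer
      rw [Nat.card_congr (Subgroup.subgroupOfEquivOfLe hle).toEquiv, hcard] at h1
      have hpos : 0 < Nat.card C := Nat.card_pos
      have h2 : Nat.card C * (C.subgroupOf N).index = Nat.card C * 4 := by
        rw [h1]
        ring
      exact Nat.eq_of_mul_eq_mul_left hpos h2
    have h4 : (⟨n, hNn⟩ : N) ^ 4 ∈ C.subgroupOf N := by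
      have := Subgroup.pow_index_mem (C.subgroupOf N) (⟨n, hNn⟩ : N)
      rwa [hindex] at this
    have h5 : n ^ 4 ∈ C := by
      have := Subgroup.mem_subgroupOf.mp h4
      simpa using this
    -- `n` is a power of `n ^ 4`
    by_cases hd : orderOf n = 1
    · rw [orderOf_eq_one_iff.mp hd]
      exact C.one_mem
    have hco : Nat.Coprime 4 (orderOf n) :=
      Nat.Coprime.pow_left 2 ((Nat.Prime.coprime_iff_not_dvd Nat.prime_two).mpr hn)
    have hd1 : 1 < orderOf n := by
      have : 0 < orderOf n := orderOf_pos n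
      omega
    obtain ⟨j, hj⟩ := Nat.exists_mul_mod_eq_one_of_coprime hco hd1
    have h6 : (n ^ 4) ^ j = n := by
      rw [← pow_mul, ← pow_mod_orderOf, hj.2, pow_one]
    rw [← h6]
    exact C.pow_mem h5 j
  · rcases not_der_cases hF hm hg hder with h4 | ⟨k, s, hs, hk⟩
    · exact absurd (pow_odd_eq_one_of_pow_four hodd h4) hg
    · -- conjugate into the torus
      set n' := k * n * k⁻¹ with hn'
      have hon : ¬ 2 ∣ orderOf n' := by
        have e1 : orderOf n' = orderOf n := by
          have := orderOf_conj_general k⁻¹ n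
          rwa [inv_inv] at this
        rwa [e1]
      have hcomm : n' * tG hF s * n'⁻¹ ∈ TT hF := by
        have hb : k * (n * g * n⁻¹) * k⁻¹ ∈ Subgroup.centralizer ({k * g * k⁻¹} : Set (Cfsg.Sz F m)) := by
          rw [Subgroup.mem_centralizer_singleton_iff] at h ⊢
          have e1 : k * (n * g * n⁻¹) * k⁻¹ * (k * g * k⁻¹) = k * (n * g * n⁻¹ * g) * k⁻¹ := by group
          have e2 : k * g * k⁻¹ * (k * (n * g * n⁻¹) * k⁻¹) = k * (g * (n * g * n⁻¹)) * k⁻¹ := by group
          rw [e1, e2, h]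
        rw [hk, centralizer_tG_eq hF hm hs] at hb
        have e3 : n' * tG hF s * n'⁻¹ = k * (n * g * n⁻¹) * k⁻¹ := by
          rw [← hk, hn']
          group
        rwa [e3]
      obtain ⟨s', hs'⟩ := hcomm
      have hs'' : tG hF s' = n' * tG hF s * n'⁻¹ := hs'
      have hs'1 : s' ≠ 1 := by
        rintro rfl
        rw [tG_one] at hs''
        have : n' * tG hF s * n'⁻¹ ≠ 1 := by
          simp only [ne_eq, conj_eq_one_iff]
          intro e
          apply hs
          apply tG_inj hF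
          rw [e, tG_one]
        exact this hs''.symm
      have hmove : ∀ p : Projectivization F (Fin 4 → F), tG hF s • p = p → tG hF s' • (n' • p) = n' • p := by
        intro p hp
        rw [hs'']
        simp only [mul_smul, inv_smul_smul, hp]
      have h0 : pt m (0 : F) 0 ≠ pinf F := pt_ne_pinf _ _
      have hfix : n' • pinf F = pinf F ∧ n' • pt m (0 : F) 0 = pt m (0 : F) 0 := by
        rcases tG_fix_cases hF hm hs'1 (smul_mem_ovoid hF n' (pinf_mem (m := m))) (hmove _ (tG_smul_pinf hF s)) with h1 | h1 <;>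
        rcases tG_fix_cases hF hm hs'1 (smul_mem_ovoid hF n' (pt_mem (m := m) (0 : F) 0)) (hmove _ (tG_smul_pt_zero hF s)) with h2 | h2
        · exact absurd (MulAction.injective n' (h1.trans h2.symm)) h0.symm
        · exact ⟨h1, h2⟩
        · -- a swap
          exfalso
          have hsq := swap_sq hF hm (pinf_mem (m := m)) (pt_mem (m := m) (0 : F) 0) h0.symm h1 h2
          have hn1 : n' = 1 := by
            apply pow_odd_eq_one_of_pow_four hon
            have : n' ^ 4 = (n' * n') * (n' * n') := by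
              simp only [pow_succ, pow_zero, one_mul, mul_assoc]
            rw [this, hsq, one_mul]
          rw [hn1, one_smul] at h1
          exact h0 h1.symm
        · exact absurd (MulAction.injective n' (h1.trans h2.symm)) h0.symm
      have hT := mem_TT_of_fix hF hm hfix.1 hfix.2
      have hb : n' ∈ Subgroup.centralizer ({k * g * k⁻¹} : Set (Cfsg.Sz F m)) := by
        rw [hk, centralizer_tG_eq hF hm hs]
        exact hT
      rw [Subgroup.mem_centralizer_singleton_iff] at hb ⊢
      have e1 : n' * (k * g * k⁻¹) = k * (n * g) * k⁻¹ := by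
        rw [hn']
        group
      have e2 : k * g * k⁻¹ * n' = k * (g * n) * k⁻¹ := by
        rw [hn']
        group
      rw [e1, e2] at hb
      have := mul_right_cancel hb
      exact mul_left_cancel this

/-- Subgroups of odd order lie in the centralisers of their non-trivial elements. -/
theorem odd_subgroup (M : Subgroup (Cfsg.Sz F m)) (hodd : ¬ 2 ∣ Nat.card M) {g : Cfsg.Sz F m} (hg : g ∈ M)
    (hg1 : g ≠ 1) : M ≤ Subgroup.centralizer ({g} : Set (Cfsg.Sz F m)) := by
  classical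
  haveI := finite_Sz hF hm
  haveI : Fintype (Cfsg.Sz F m) := Fintype.ofFinite _
  have hoddM : ∀ x ∈ M, ¬ 2 ∣ orderOf x := by
    intro x hx h
    exact hodd (h.trans (Subgroup.orderOf_dvd_natCard M hx))
  apply odd_subgroup_aux M hodd _ _ _ hg hg1
  · intro g hg hg1 y hy hy1
    exact centralizer_eq_of_odd hF hm hg1 (hoddM g hg) hy hy1
  · intro g hg hg1 a ha b hb
    haveI := (odd_block hF hm hg1 (hoddM g hg)).1
    exact cyc_comm ha hb
  · intro g hg hg1 n hn h
    exact odd_self_normalizing hF hm hg1 (hoddM g hg) (hoddM n hn) h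

end Cfsg.Agent.Lib.Suzuki
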