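import Cfsg.Agent.Lib.Suzuki.CN

/-! The orders of derangements divide `q + σ + 1` or `q - σ + 1`. -/

set_option autoImplicit false

namespace Cfsg.Agent.Lib.Suzuki

open Polynomial

section field
variable {E : Type*} [Field E]

theorem zpow_emod_eq {μ : E} (h0 : μ ≠ 0) {e : ℕ} (he : 0 < e) (h : μ ^ e = 1) (a : ℤ) :
    μ ^ a = μ ^ ((a % e).toNat) := by
  have h1 : (((a % e).toNat : ℕ) : ℤ) = a % e := Int.toNat_of_nonneg (Int.emod_nonneg _ (by omega))
  rw [← zpow_natCast, h1]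
  conv_lhs => rw [← Int.mul_ediv_add_emod a e]
  rw [zpow_add₀ h0, zpow_mul, zpow_natCast, h, _root_.one_zpow, one_mul]

/-- The exponents of the eight-term identity. -/
def exps (q s : ℕ) : Fin 8 → ℤ :=
  ![(s : ℤ), -(s : ℤ), (q : ℤ) * s, -((q : ℤ) * s), (q : ℤ) + 1, 1 - (q : ℤ), (q : ℤ) - 1, -(q : ℤ) - 1]

theorem eight_sum (h2E : (2 : E) = 0) {μ : E} (h0 : μ ≠ 0) {q k : ℕ}
    (hI : ((μ + μ⁻¹) + (μ ^ q + (μ ^ q)⁻¹)) ^ (2 ^ k) = (μ + μ⁻¹) * (μ ^ q + (μ ^ q)⁻¹)) :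
    ∑ i, μ ^ (exps q (2 ^ k) i) = 0 := by
  have hs : ((2 ^ k : ℕ) : ℤ) = ((2 ^ k : ℕ) : ℤ) := rfl
  rw [pw2_add h2E, pw2_add h2E, pw2_add h2E, inv_pow, inv_pow] at hI
  have hq0 : μ ^ q ≠ 0 := pow_ne_zero _ h0
  have e1 : μ ^ ((2 ^ k : ℕ) : ℤ) = μ ^ (2 ^ k) := zpow_natCast _ _
  have e2 : μ ^ (-((2 ^ k : ℕ) : ℤ)) = (μ ^ (2 ^ k))⁻¹ := by rw [zpow_neg, e1]
  have e3 : μ ^ ((q : ℤ) * ((2 ^ k : ℕ) : ℤ)) = (μ ^ q) ^ (2 ^ k) := by
    rw [_root_.zpow_mul, zpow_natCast, zpow_natCast]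
  have e4 : μ ^ (-((q : ℤ) * ((2 ^ k : ℕ) : ℤ))) = ((μ ^ q) ^ (2 ^ k))⁻¹ := by rw [zpow_neg, e3]
  have e5 : μ ^ ((q : ℤ) + 1) = μ ^ q * μ := by
    rw [zpow_add₀ h0, zpow_natCast, zpow_one]
  have e6 : μ ^ (1 - (q : ℤ)) = μ * (μ ^ q)⁻¹ := by
    rw [sub_eq_add_neg, zpow_add₀ h0, zpow_one, zpow_neg, zpow_natCast]
  have e7 : μ ^ ((q : ℤ) - 1) = μ ^ q * μ⁻¹ := by
    rw [sub_eq_add_neg, zpow_add₀ h0, zpow_natCast, zpow_neg, zpow_one]
  have e8 : μ ^ (-(q : ℤ) - 1) = (μ ^ q)⁻¹ * μ⁻¹ := by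
    rw [sub_eq_add_neg, zpow_add₀ h0, zpow_neg, zpow_natCast, zpow_neg, zpow_one]
  simp only [exps, Fin.sum_univ_eight]
  simp only [Matrix.cons_val]
  rw [e1, e2, e3, e4, e5, e6, e7, e8]
  generalize μ ^ (2 ^ k) = A at *
  generalize (μ ^ q) ^ (2 ^ k) = B at *
  generalize hQ : μ ^ q = Q at *
  have hchar : ∀ a b : E, a = b → a + b = 0 := fun a b h => by rw [h]; grind
  have := hchar _ _ hI
  rw [← this]
  ring

/-- The congruences forced by the eight-term identity on all `e`-th roots of unity. -/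
theorem congr_of_identity (h2E : (2 : E) = 0) {e : ℕ} (he : 1 < e) {l : E} (hl : IsPrimitiveRoot l e)
    (q k : ℕ)
    (hI : ∀ μ : E, μ ^ e = 1 → ((μ + μ⁻¹) + (μ ^ q + (μ ^ q)⁻¹)) ^ (2 ^ k) = (μ + μ⁻¹) * (μ ^ q + (μ ^ q)⁻¹)) :
    ∃ i : Fin 8, i ≠ 0 ∧ (e : ℤ) ∣ exps q (2 ^ k) i - exps q (2 ^ k) 0 := by
  classical
  have he0 : 0 < e := by omega
  let n : Fin 8 → ℕ := fun i => ((exps q (2 ^ k) i) % e).toNat
  have hn : ∀ i, n i < e := by
    intro i
    have h1 := Int.emod_lt_of_pos (exps q (2 ^ k) i) (show (0 : ℤ) < e by omega)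
    have h3 := Int.emod_nonneg (exps q (2 ^ k) i) (show (e : ℤ) ≠ 0 by omega)
    show ((exps q (2 ^ k) i) % e).toNat < e
    omega
  let R : E[X] := ∑ i, X ^ n i
  have hR : R = 0 := by
    apply Polynomial.eq_zero_of_natDegree_lt_card_of_eval_eq_zero' R
      ((Finset.range e).image (fun j => l ^ j))
    · intro y hy
      obtain ⟨j, -, rfl⟩ := Finset.mem_image.mp hy
      have hμ : (l ^ j) ^ e = 1 := by
        rw [← pow_mul, mul_comm, pow_mul, hl.pow_eq_one, one_pow]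
      have hμ0 : l ^ j ≠ 0 := by
        intro h
        rw [h, zero_pow (by omega)] at hμ
        exact zero_ne_one hμ
      have h1 := eight_sum h2E hμ0 (hI _ hμ)
      simp only [R, Polynomial.eval_finset_sum, Polynomial.eval_pow, Polynomial.eval_X]
      rw [← h1]
      apply Finset.sum_congr rfl
      intro i _
      exact (zpow_emod_eq hμ0 he0 hμ _).symm
    · rw [Finset.card_image_of_injOn, Finset.card_range]
      · apply lt_of_le_of_lt (Polynomial.natDegree_sum_le_of_forall_le (n := e - 1) _ _ _)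
        · omega
        · intro i _
          rw [Polynomial.natDegree_X_pow]
          have := hn i
          omega
      · intro a ha b hb hab
        exact hl.pow_inj (Finset.mem_range.mp ha) (Finset.mem_range.mp hb) hab
  by_contra hcon
  push Not at hcon
  have hne : ∀ i : Fin 8, i ≠ 0 → n 0 ≠ n i := by
    intro i hi h
    apply hcon i hi
    have h1 : ((exps q (2 ^ k) 0) % e).toNat = ((exps q (2 ^ k) i) % e).toNat := h
    have h3 := Int.toNat_of_nonneg (Int.emod_nonneg (exps q (2 ^ k) 0) (show (e : ℤ) ≠ 0 by omega))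
    have h4 := Int.toNat_of_nonneg (Int.emod_nonneg (exps q (2 ^ k) i) (show (e : ℤ) ≠ 0 by omega))
    rw [h1, h4] at h3
    exact Int.ModEq.dvd h3.symm
  have hcoeff : R.coeff (n 0) = 1 := by
    simp only [R, Polynomial.finset_sum_coeff, Polynomial.coeff_X_pow]
    rw [Finset.sum_eq_single (0 : Fin 8)]
    · simp
    · intro i _ hi
      rw [if_neg (hne i hi)]
    · simp
  rw [hR] at hcoeff
  simp at hcoeff

end field

section arith

/-- The arithmetic conclusion. -/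
theorem order_arith {m e : ℕ} (he : 1 < e) (hdvd : e ∣ (2 ^ (2 * m + 1)) ^ 2 + 1)
    (hi : ∃ i : Fin 8, i ≠ 0 ∧ (e : ℤ) ∣ exps (2 ^ (2 * m + 1)) (2 ^ (m + 1)) i - exps (2 ^ (2 * m + 1)) (2 ^ (m + 1)) 0) :
    e ∣ 2 ^ (2 * m + 1) + 2 ^ (m + 1) + 1 ∨ e ∣ 2 ^ (2 * m + 1) - 2 ^ (m + 1) + 1 := by
  have hodd : ¬ 2 ∣ e := fun h => odd_qq (h.trans hdvd)
  have hco : ∀ j : ℕ, Nat.Coprime e (2 ^ j) := fun j =>
    Nat.Coprime.pow_right j ((Nat.Prime.coprime_iff_not_dvd Nat.prime_two).mpr hodd).symm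
  have hno : ∀ j : ℕ, ¬ (e : ℤ) ∣ ((2 ^ j : ℕ) : ℤ) := by
    intro j h
    have h1 : e ∣ 2 ^ j := Int.natCast_dvd_natCast.mp h
    have h3 := Nat.Coprime.eq_one_of_dvd (hco j) h1
    omega
  have hles : 2 ^ (m + 1) ≤ 2 ^ (2 * m + 1) := Nat.pow_le_pow_right (by norm_num) (by omega)
  have hcast : ((2 ^ (2 * m + 1) - 2 ^ (m + 1) + 1 : ℕ) : ℤ) = ((2 ^ (2 * m + 1) : ℕ) : ℤ) - ((2 ^ (m + 1) : ℕ) : ℤ) + 1 := by
    rw [Nat.cast_add, Nat.cast_sub hles]
    simp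
  have hss : ((2 ^ (m + 1) : ℕ) : ℤ) * ((2 ^ (m + 1) : ℕ) : ℤ) = 2 * ((2 ^ (2 * m + 1) : ℕ) : ℤ) := by
    push_cast
    ring
  have hZ : (e : ℤ) ∣ ((2 ^ (2 * m + 1) : ℕ) : ℤ) ^ 2 + 1 := by
    have := Int.natCast_dvd_natCast.mpr hdvd
    push_cast at this ⊢
    exact this
  have h2pow : ((2 : ℕ) : ℤ) = ((2 ^ 1 : ℕ) : ℤ) := by norm_num
  have h4q : 4 * ((2 ^ (2 * m + 1) : ℕ) : ℤ) = ((2 ^ (2 * m + 3) : ℕ) : ℤ) := by
    push_cast
    ring
  have hcoZ : IsCoprime (e : ℤ) ((2 ^ (m + 1) : ℕ) : ℤ) := Nat.isCoprime_iff_coprime.mpr (hco _)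
  obtain ⟨i, hi0, hi⟩ := hi
  generalize hQ : ((2 ^ (2 * m + 1) : ℕ) : ℤ) = Q at *
  generalize hS : ((2 ^ (m + 1) : ℕ) : ℤ) = S at *
  fin_cases i
  · exact absurd rfl hi0
  · -- `-s`
    exfalso
    simp only [exps] at hi
    simp only [Matrix.cons_val] at hi
    rw [hS] at hi
    apply hno (m + 2)
    have : ((2 ^ (m + 2) : ℕ) : ℤ) = -(-S - S) := by
      rw [← hS]
      push_cast
      ring
    rw [this]
    exact (dvd_neg).mpr hi
  · -- `q s`
    exfalso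
    simp only [exps] at hi
    simp only [Matrix.cons_val] at hi
    rw [hQ, hS] at hi
    have h1 : (e : ℤ) ∣ S * (Q - 1) := by
      have : S * (Q - 1) = Q * S - S := by ring
      rwa [this]
    have h3 : (e : ℤ) ∣ Q - 1 := hcoZ.dvd_of_dvd_mul_left h1
    apply hno 1
    have h4 : ((2 ^ 1 : ℕ) : ℤ) = (Q ^ 2 + 1) - (Q - 1) * (Q + 1) := by
      push_cast
      ring
    rw [h4]
    exact dvd_sub hZ (Dvd.dvd.mul_right h3 _)
  · -- `- q s`
    exfalso
    simp only [exps] at hi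
    simp only [Matrix.cons_val] at hi
    rw [hQ, hS] at hi
    have h1 : (e : ℤ) ∣ S * (Q + 1) := by
      have : S * (Q + 1) = -(-(Q * S) - S) := by ring
      rw [this]
      exact (dvd_neg).mpr hi
    have h3 : (e : ℤ) ∣ Q + 1 := hcoZ.dvd_of_dvd_mul_left h1
    apply hno 1
    have h4 : ((2 ^ 1 : ℕ) : ℤ) = (Q ^ 2 + 1) - (Q + 1) * (Q - 1) := by
      push_cast
      ring
    rw [h4]
    exact dvd_sub hZ (Dvd.dvd.mul_right h3 _)
  · -- `q + 1`
    right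
    simp only [exps] at hi
    simp only [Matrix.cons_val] at hi
    rw [hQ, hS] at hi
    apply Int.natCast_dvd_natCast.mp
    rw [hcast]
    have : Q - S + 1 = Q + 1 - S := by ring
    rw [this]
    exact hi
  · -- `1 - q`
    exfalso
    simp only [exps] at hi
    simp only [Matrix.cons_val] at hi
    rw [hQ, hS] at hi
    apply hno (2 * m + 3)
    rw [← h4q]
    have h4 : 4 * Q = (Q ^ 2 + 1) - (1 - Q - S) * (-(Q - S - 1)) := by
      have : S * S = 2 * Q := hss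
      linear_combination (-1 : ℤ) * this
    rw [h4]
    exact dvd_sub hZ (Dvd.dvd.mul_right hi _)
  · -- `q - 1`
    exfalso
    simp only [exps] at hi
    simp only [Matrix.cons_val] at hi
    rw [hQ, hS] at hi
    apply hno (2 * m + 3)
    rw [← h4q]
    have h4 : 4 * Q = (Q ^ 2 + 1) - (Q - 1 - S) * (Q + S - 1) := by
      have : S * S = 2 * Q := hss
      linear_combination (-1 : ℤ) * this
    rw [h4]
    exact dvd_sub hZ (Dvd.dvd.mul_right hi _)
  · -- `- q - 1`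
    left
    simp only [exps] at hi
    simp only [Matrix.cons_val] at hi
    rw [hQ, hS] at hi
    apply Int.natCast_dvd_natCast.mp
    have h1 : (((2 ^ (2 * m + 1) + 2 ^ (m + 1) + 1 : ℕ) : ℕ) : ℤ) = Q + S + 1 := by
      rw [← hQ, ← hS]
      push_cast
      ring
    rw [h1]
    have : Q + S + 1 = -(-Q - 1 - S) := by ring
    rw [this]
    exact (dvd_neg).mpr hi

end arith

variable {F : Type*} [Field F] [Fintype F] {m : ℕ}
variable (hF : Fintype.card F = 2 ^ (2 * m + 1)) (hm : 1 ≤ m)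
include hF hm

/-- The order of a derangement divides `q + σ + 1` or `q - σ + 1`. -/
theorem der_order_dvd {x : Cfsg.Sz F m} (hx : Der x) :
    orderOf x ∣ 2 ^ (2 * m + 1) + 2 ^ (m + 1) + 1 ∨ orderOf x ∣ 2 ^ (2 * m + 1) - 2 ^ (m + 1) + 1 := by
  haveI := finite_Sz hF hm
  let E := AlgebraicClosure F
  have h2 : (2 : E) = 0 := h2E hF
  obtain ⟨l, v, hv, h⟩ := exists_eigen (E := E) hF hm x
  have hdvd := der_orderOf_dvd hF hm hx
  have hodd : ¬ 2 ∣ orderOf x := der_odd hF hm hx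
  have hx1 : x ≠ 1 := by
    rintro rfl
    exact hx _ (pinf_mem (m := m)) (one_smul _ _)
  have he : 1 < orderOf x := by
    have h1 : 0 < orderOf x := orderOf_pos x
    have h3 : orderOf x ≠ 1 := fun e => hx1 (orderOf_eq_one_iff.mp e)
    omega
  have hprim : IsPrimitiveRoot l (orderOf x) := by
    refine ⟨eig_pow_eq_one hF hm hv h (pow_orderOf_eq_one x), ?_⟩
    intro j hj
    have h1 := mulVec_ME_pow h j
    rw [hj, one_smul] at h1
    have h3 := pow_four_of_eig hF hm hv h1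
    rw [← pow_mul] at h3
    have h4 := orderOf_dvd_of_pow_eq_one h3
    have hco : Nat.Coprime (orderOf x) (2 ^ 2) :=
      Nat.Coprime.pow_right 2 ((Nat.Prime.coprime_iff_not_dvd Nat.prime_two).mpr hodd).symm
    exact hco.dvd_of_dvd_mul_right (by simpa [mul_comm] using h4)
  apply order_arith he hdvd
  apply congr_of_identity h2 he hprim
  intro μ hμ
  by_cases hμ1 : μ = 1
  · subst hμ1
    simp only [one_pow, inv_one]
    have : (1 : E) + 1 = 0 := by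
      rw [one_add_one_eq_two]
      exact h2
    rw [this]
    simp
  haveI : NeZero (orderOf x) := ⟨by omega⟩
  obtain ⟨j, -, rfl⟩ := hprim.eq_pow_of_pow_eq_one hμ
  have h1 := mulVec_ME_pow h j
  have hp := root_of_eigenvector hF hm hv h1
  have hμ3 : (l ^ j) ^ ((2 ^ (2 * m + 1)) ^ 2 + 1) = 1 := by
    obtain ⟨c, hc⟩ := hdvd
    rw [hc, pow_mul, hμ, one_pow]
  obtain ⟨e1, e2⟩ := key_of_eigen hF hm hp hμ1 hμ3
  rw [← e1, e2]

end Cfsg.Agent.Lib.Suzuki
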