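import Cfsg.Agent.Lib.Suzuki.Sylow

/-! Transfer of the properties of the standard Sylow 2-subgroup to all Sylow 2-subgroups. -/

set_option autoImplicit false

namespace Cfsg.Agent.Lib.Suzuki

open Matrix
open scoped Pointwise

/-- A conjugation between subgroups. -/
noncomputable def conjEquiv {G : Type*} [Group G] {A B : Subgroup G} (k : G)
    (h : ∀ x, x ∈ A ↔ k⁻¹ * x * k ∈ B) : A ≃* B where
  toFun x := ⟨k⁻¹ * x * k, (h x).mp x.2⟩
  invFun y := ⟨k * y * k⁻¹, (h _).mpr (by
    have : k⁻¹ * (k * (y : G) * k⁻¹) * k = y := by group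
    rw [this]
    exact y.2)⟩
  left_inv x := by
    apply Subtype.ext
    show k * (k⁻¹ * (x : G) * k) * k⁻¹ = x
    group
  right_inv y := by
    apply Subtype.ext
    show k⁻¹ * (k * (y : G) * k⁻¹) * k = y
    group
  map_mul' x y := by
    apply Subtype.ext
    show k⁻¹ * ((x : G) * y) * k = (k⁻¹ * x * k) * (k⁻¹ * y * k)
    group

theorem orderOf_conj_general {G : Type*} [Group G] (k g : G) : orderOf (k⁻¹ * g * k) = orderOf g := by
  have : k⁻¹ * g * k = (MulAut.conj k⁻¹).toMonoidHom g := by
    show k⁻¹ * g * k = MulAut.conj k⁻¹ g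
    rw [MulAut.conj_apply]
    group
  rw [this]
  exact orderOf_injective (MulAut.conj k⁻¹).toMonoidHom (MulAut.conj k⁻¹).injective g

theorem real_transfer {G : Type*} [Group G] (k g : G)
    (h2 : IsConj (k⁻¹ * g * k) (k⁻¹ * g * k)⁻¹ ↔ orderOf (k⁻¹ * g * k) = 2) :
    IsConj g g⁻¹ ↔ orderOf g = 2 := by
  have e1 : IsConj g (k⁻¹ * g * k) := by
    rw [isConj_iff]
    exact ⟨k⁻¹, by group⟩
  have e2 : IsConj g⁻¹ (k⁻¹ * g * k)⁻¹ := by
    rw [isConj_iff]
    exact ⟨k⁻¹, by group⟩
  rw [← orderOf_conj_general k g, ← h2]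
  constructor
  · intro h
    exact e1.symm.trans (h.trans e2)
  · intro h
    exact e1.trans (h.trans e2.symm)

theorem center_eq_commutator_of_equiv {A B : Type*} [Group A] [Group B] (e : A ≃* B)
    (h : Subgroup.center B = commutator B) : Subgroup.center A = commutator A := by
  apply Subgroup.map_injective (f := (e : A →* B)) e.injective
  have h1 : (Subgroup.center A).map (e : A →* B) = Subgroup.center B := by
    ext y
    constructor
    · rintro ⟨x, hx, rfl⟩
      rw [SetLike.mem_coe, Subgroup.mem_center_iff] at hx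
      rw [Subgroup.mem_center_iff]
      intro z
      obtain ⟨w, rfl⟩ := e.surjective z
      show e w * e x = e x * e w
      rw [← map_mul, ← map_mul, hx]
    · intro hy
      rw [Subgroup.mem_center_iff] at hy
      refine ⟨e.symm y, ?_, by simp⟩
      rw [SetLike.mem_coe, Subgroup.mem_center_iff]
      intro z
      apply e.injective
      rw [map_mul, map_mul, e.apply_symm_apply, hy]
  have h2 : (commutator A).map (e : A →* B) = commutator B := by
    rw [commutator_def, commutator_def, Subgroup.map_commutator]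
    have : (⊤ : Subgroup A).map (e : A →* B) = ⊤ := by
      rw [← MonoidHom.range_eq_map, MonoidHom.range_eq_top]
      exact e.surjective
    rw [this]
  rw [h1, h2, h]

variable {F : Type*} [Field F] [Fintype F] {m : ℕ}
variable (hF : Fintype.card F = 2 ^ (2 * m + 1)) (hm : 1 ≤ m)
include hF hm

/-- The structure of a Sylow 2-subgroup. -/
theorem sylow_struct (P : Sylow 2 (Cfsg.Sz F m)) :
    Nat.card P = (2 ^ (2 * m + 1)) ^ 2 ∧ Monoid.exponent P = 4 ∧
      Subgroup.center P = commutator P ∧ Nat.card (Subgroup.center P) = 2 ^ (2 * m + 1) := by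
  obtain ⟨k, hk⟩ := exists_conj hF hm P
  let e : (P : Subgroup (Cfsg.Sz F m)) ≃* UU hF hm := conjEquiv k hk
  refine ⟨?_, ?_, ?_, ?_⟩
  · exact (Nat.card_congr e.toEquiv).trans (card_UU hF hm)
  · exact (Monoid.exponent_eq_of_mulEquiv e).trans (exponent_UU hF hm)
  · exact center_eq_commutator_of_equiv e ((center_UU hF hm).trans (commutator_UU hF hm).symm)
  · have h1 : Nat.card (Subgroup.center P) = Nat.card (Subgroup.center (UU hF hm)) :=
      Nat.card_congr (Subgroup.centerCongr e).toEquiv
    rw [h1, center_UU hF hm]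
    have h2 : Nat.card ((ZZ hF hm).comap (UU hF hm).subtype) = Nat.card (ZZ hF hm) :=
      Nat.card_congr (Subgroup.subgroupOfEquivOfLe (ZZ_le_UU hF hm)).toEquiv
    rw [h2, card_ZZ hF hm]

/-- Real elements. -/
theorem real_sylow (P : Sylow 2 (Cfsg.Sz F m)) (g : Cfsg.Sz F m)
    (hg : g ∈ (P : Subgroup (Cfsg.Sz F m))) (h1 : g ≠ 1) : IsConj g g⁻¹ ↔ orderOf g = 2 := by
  obtain ⟨k, hk⟩ := exists_conj hF hm P
  have hx := (hk g).mp hg
  have hx1 : k⁻¹ * g * k ≠ 1 := by
    intro h
    apply h1
    have : g = k * (k⁻¹ * g * k) * k⁻¹ := by group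
    rw [this, h]
    group
  exact real_transfer k g (real_UU hF hm hx hx1)

/-- Maximality of the Sylow normalisers. -/
theorem sylow_maximal (P : Sylow 2 (Cfsg.Sz F m)) :
    IsCoatom (Subgroup.normalizer ((P : Subgroup (Cfsg.Sz F m)) : Set (Cfsg.Sz F m))) ∧
    ∀ M : Subgroup (Cfsg.Sz F m), IsCoatom M → (P : Subgroup (Cfsg.Sz F m)) ≤ M →
      M = Subgroup.normalizer ((P : Subgroup (Cfsg.Sz F m)) : Set (Cfsg.Sz F m)) := by
  obtain ⟨k, hk⟩ := exists_conj hF hm P
  let f := (MulAut.conj k).mapSubgroup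
  have hfP : f (UU hF hm) = P := by
    ext x
    rw [hk x]
    constructor
    · rintro ⟨u, hu, rfl⟩
      have : k⁻¹ * ((MulAut.conj k) u) * k = u := by
        rw [MulAut.conj_apply]
        group
      show k⁻¹ * ((MulAut.conj k) u) * k ∈ _
      rw [this]
      exact hu
    · intro hx
      refine ⟨k⁻¹ * x * k, hx, ?_⟩
      show (MulAut.conj k) (k⁻¹ * x * k) = x
      rw [MulAut.conj_apply]
      group
  have hfN : f (BB F m) = Subgroup.normalizer ((P : Subgroup (Cfsg.Sz F m)) : Set (Cfsg.Sz F m)) := by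
    rw [← normalizer_UU hF hm, ← hfP]
    ext x
    constructor
    · rintro ⟨u, hu, rfl⟩
      rw [SetLike.mem_coe, Subgroup.mem_normalizer_iff] at hu
      rw [Subgroup.mem_normalizer_iff]
      intro y
      constructor
      · rintro ⟨v, hv, rfl⟩
        refine ⟨u * v * u⁻¹, (hu v).mp hv, ?_⟩
        show (MulAut.conj k) (u * v * u⁻¹) = _
        simp
        group
      · rintro ⟨v, hv, hv2⟩
        have e1 : y = (MulAut.conj k) (u⁻¹ * v * u) := by
          have h2 : (MulAut.conj k) v = (MulAut.conj k) u * y * ((MulAut.conj k) u)⁻¹ := hv2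
          have h3 : (MulAut.conj k) (u⁻¹ * v * u) = ((MulAut.conj k) u)⁻¹ * (MulAut.conj k) v * (MulAut.conj k) u := by
            simp
            group
          rw [h3, h2]
          group
        refine ⟨u⁻¹ * v * u, ?_, e1.symm⟩
        apply (hu _).mpr
        have : u * (u⁻¹ * v * u) * u⁻¹ = v := by group
        rw [this]
        exact hv
    · intro hx
      rw [Subgroup.mem_normalizer_iff] at hx
      refine ⟨k⁻¹ * x * k, ?_, ?_⟩
      · rw [SetLike.mem_coe, Subgroup.mem_normalizer_iff]
        intro y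
        have h1 := hx ((MulAut.conj k) y)
        have h5 : ∀ z : Cfsg.Sz F m, (MulAut.conj k) z ∈ f (UU hF hm) ↔ z ∈ UU hF hm := by
          intro z
          constructor
          · rintro ⟨u, hu, hu2⟩
            have := (MulAut.conj k).injective hu2
            rwa [← this]
          · intro hz
            exact ⟨z, hz, rfl⟩
        rw [h5] at h1
        rw [h1]
        have h6 : x * (MulAut.conj k) y * x⁻¹ = (MulAut.conj k) (k⁻¹ * x * k * y * (k⁻¹ * x * k)⁻¹) := by
          simp only [MulAut.conj_apply]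
          group
        rw [h6, h5]
      · show (MulAut.conj k) (k⁻¹ * x * k) = x
        rw [MulAut.conj_apply]
        group
  constructor
  · rw [← hfN]
    exact (OrderIso.isCoatom_iff f _).mpr (coatom_BB hF hm)
  · intro M hM hPM
    rw [← hfN]
    have h1 : IsCoatom (f.symm M) := (OrderIso.isCoatom_iff f.symm _).mpr hM
    have h2 : UU hF hm ≤ f.symm M := by
      rw [← f.symm_apply_apply (UU hF hm), hfP]
      exact f.symm.monotone hPM
    have h3 := coatom_unique hF hm h1 h2
    rw [← h3, f.apply_symm_apply]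

end Cfsg.Agent.Lib.Suzuki
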