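import Cfsg.Agent.Lib.Suzuki.Count
import Cfsg.Agent.Lib.Suzuki.SylowT

/-! The tori of the Suzuki group and the partition. -/

set_option autoImplicit false

namespace Cfsg.Agent.Lib.Suzuki

open Finset

/-- The arithmetic of the count. -/
theorem arith_main {K A B np nm dp dm D : ℕ} (hK : 0 < K) (hA1 : 1 < A) (hB1 : 1 < B)
    (h1 : K * A * B * (A - 1) ≤ np * dp) (h2 : K * A * B * (B - 1) ≤ nm * dm)
    (h3 : np ≤ 4 * A) (h4 : nm ≤ 4 * B) (h5 : dp + dm ≤ D)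
    (h6 : 4 * D = K * B * (A - 1) + K * A * (B - 1)) : np = 4 * A ∧ nm = 4 * B ∧ dp + dm = D := by
  have i1 : K * B * (A - 1) ≤ 4 * dp := by
    refine Nat.le_of_mul_le_mul_left ?_ (show 0 < A by omega)
    calc A * (K * B * (A - 1)) = K * A * B * (A - 1) := by ring
      _ ≤ np * dp := h1
      _ ≤ (4 * A) * dp := Nat.mul_le_mul_right _ h3
      _ = A * (4 * dp) := by ring
  have i2 : K * A * (B - 1) ≤ 4 * dm := by
    refine Nat.le_of_mul_le_mul_left ?_ (show 0 < B by omega)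
    calc B * (K * A * (B - 1)) = K * A * B * (B - 1) := by ring
      _ ≤ nm * dm := h2
      _ ≤ (4 * B) * dm := Nat.mul_le_mul_right _ h4
      _ = B * (4 * dm) := by ring
  have e1 : K * B * (A - 1) = 4 * dp := by omega
  have e2 : K * A * (B - 1) = 4 * dm := by omega
  have e3 : dp + dm = D := by omega
  have hp1 : 0 < K * B * (A - 1) := Nat.mul_pos (Nat.mul_pos hK (by omega)) (by omega)
  have hp2 : 0 < K * A * (B - 1) := Nat.mul_pos (Nat.mul_pos hK (by omega)) (by omega)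
  have hdp : 0 < dp := by omega
  have hdm : 0 < dm := by omega
  refine ⟨le_antisymm h3 ?_, le_antisymm h4 ?_, e3⟩
  · refine Nat.le_of_mul_le_mul_right ?_ hdp
    calc 4 * A * dp = A * (4 * dp) := by ring
      _ = A * (K * B * (A - 1)) := by rw [e1]
      _ = K * A * B * (A - 1) := by ring
      _ ≤ np * dp := h1
  · refine Nat.le_of_mul_le_mul_right ?_ hdm
    calc 4 * B * dm = B * (4 * dm) := by ring
      _ = B * (K * A * (B - 1)) := by rw [e2]
      _ = K * A * B * (B - 1) := by ring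
      _ ≤ nm * dm := h2

/-- The numbers of the count. -/
theorem arith_num (m : ℕ) (hm : 1 ≤ m) {D : ℕ}
    (hD : 2 * D = (2 ^ (2 * m + 1)) ^ 3 * (2 ^ (2 * m + 1) - 1) ^ 2) :
    4 * D = ((2 ^ (2 * m + 1)) ^ 2 * (2 ^ (2 * m + 1) - 1)) * (2 ^ (2 * m + 1) - 2 ^ (m + 1) + 1) *
        ((2 ^ (2 * m + 1) + 2 ^ (m + 1) + 1) - 1) +
      ((2 ^ (2 * m + 1)) ^ 2 * (2 ^ (2 * m + 1) - 1)) * (2 ^ (2 * m + 1) + 2 ^ (m + 1) + 1) *
        ((2 ^ (2 * m + 1) - 2 ^ (m + 1) + 1) - 1) := by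
  have hles : 2 ^ (m + 1) ≤ 2 ^ (2 * m + 1) := Nat.pow_le_pow_right (by norm_num) (by omega)
  have hq1 : 1 ≤ 2 ^ (2 * m + 1) := Nat.one_le_two_pow
  rw [Nat.add_sub_cancel, Nat.add_sub_cancel]
  have e : 4 * D = 2 * (2 * D) := by ring
  rw [e, hD]
  zify [hles, hq1]
  have hs : ((2 : ℤ) ^ (m + 1)) * ((2 : ℤ) ^ (m + 1)) = 2 * (2 : ℤ) ^ (2 * m + 1) := by ring
  generalize (2 : ℤ) ^ (2 * m + 1) = Q at *
  generalize (2 : ℤ) ^ (m + 1) = S at *
  linear_combination ((2 : ℤ) * Q ^ 2 * (Q - 1)) * hs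

variable {F : Type*} [Field F] [Fintype F] {m : ℕ}
variable (hF : Fintype.card F = 2 ^ (2 * m + 1)) (hm : 1 ≤ m)
include hF hm

/-- The main count. -/
theorem main_count {xp xm : Cfsg.Sz F m} (hxp : Der xp) (hp : orderOf xp = 2 ^ (2 * m + 1) + 2 ^ (m + 1) + 1)
    (hxm : Der xm) (hm' : orderOf xm = 2 ^ (2 * m + 1) - 2 ^ (m + 1) + 1) :
    Nat.card (Subgroup.normalizer ((Subgroup.centralizer ({xp} : Set (Cfsg.Sz F m)) : Subgroup (Cfsg.Sz F m)) : Set (Cfsg.Sz F m))) =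
        4 * (2 ^ (2 * m + 1) + 2 ^ (m + 1) + 1) ∧
      Nat.card (Subgroup.normalizer ((Subgroup.centralizer ({xm} : Set (Cfsg.Sz F m)) : Subgroup (Cfsg.Sz F m)) : Set (Cfsg.Sz F m))) =
        4 * (2 ^ (2 * m + 1) - 2 ^ (m + 1) + 1) ∧
      ∀ g : Cfsg.Sz F m, Der g → ∃ k y : Cfsg.Sz F m, y ≠ 1 ∧
        (y ∈ Subgroup.centralizer ({xp} : Set (Cfsg.Sz F m)) ∨ y ∈ Subgroup.centralizer ({xm} : Set (Cfsg.Sz F m))) ∧
        g = k * y * k⁻¹ := by
  classical
  haveI := finite_Sz hF hm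
  haveI : Fintype (Cfsg.Sz F m) := Fintype.ofFinite _
  set Ap := Subgroup.centralizer ({xp} : Set (Cfsg.Sz F m)) with hAp
  set Am := Subgroup.centralizer ({xm} : Set (Cfsg.Sz F m)) with hAm
  have hcp : Nat.card Ap = 2 ^ (2 * m + 1) + 2 ^ (m + 1) + 1 := card_centralizer_plus hF hm hxp hp
  have hcm : Nat.card Am = 2 ^ (2 * m + 1) - 2 ^ (m + 1) + 1 := card_centralizer_minus hF hm hxm hm'
  have hTp : ∀ y ∈ Ap, y ≠ 1 → Subgroup.centralizer ({y} : Set (Cfsg.Sz F m)) = Ap :=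
    fun y hy hy1 => centralizer_eq_of_mem hF hm hxp hy hy1
  have hTm : ∀ y ∈ Am, y ≠ 1 → Subgroup.centralizer ({y} : Set (Cfsg.Sz F m)) = Am :=
    fun y hy hy1 => centralizer_eq_of_mem hF hm hxm hy hy1
  have h1 := count_conj Ap hTp
  have h2 := count_conj Am hTm
  set Dp := ((univ : Finset (Cfsg.Sz F m)) ×ˢ (univ.filter (fun y : Cfsg.Sz F m => y ∈ Ap ∧ y ≠ 1))).image
        (fun p : Cfsg.Sz F m × Cfsg.Sz F m => p.1 * p.2 * p.1⁻¹) with hDp
  set Dm := ((univ : Finset (Cfsg.Sz F m)) ×ˢ (univ.filter (fun y : Cfsg.Sz F m => y ∈ Am ∧ y ≠ 1))).image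
        (fun p : Cfsg.Sz F m × Cfsg.Sz F m => p.1 * p.2 * p.1⁻¹) with hDm
  have h3 : Nat.card (Subgroup.normalizer (Ap : Set (Cfsg.Sz F m))) ≤ 4 * (2 ^ (2 * m + 1) + 2 ^ (m + 1) + 1) := by
    rw [← hcp]
    exact card_normalizer_le hF hm hxp
  have h4 : Nat.card (Subgroup.normalizer (Am : Set (Cfsg.Sz F m))) ≤ 4 * (2 ^ (2 * m + 1) - 2 ^ (m + 1) + 1) := by
    rw [← hcm]
    exact card_normalizer_le hF hm hxm
  have hsubp : Dp ⊆ univ.filter (fun g : Cfsg.Sz F m => Der g) := by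
    intro g hg
    obtain ⟨⟨k, y⟩, hy, rfl⟩ := Finset.mem_image.mp hg
    simp only [mem_product, mem_univ, true_and, mem_filter] at hy
    simp only [mem_filter, mem_univ, true_and]
    exact der_conj hF hm (der_of_commute hF hm hxp (Subgroup.mem_centralizer_singleton_iff.mp hy.1) hy.2) k
  have hsubm : Dm ⊆ univ.filter (fun g : Cfsg.Sz F m => Der g) := by
    intro g hg
    obtain ⟨⟨k, y⟩, hy, rfl⟩ := Finset.mem_image.mp hg
    simp only [mem_product, mem_univ, true_and, mem_filter] at hy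
    simp only [mem_filter, mem_univ, true_and]
    exact der_conj hF hm (der_of_commute hF hm hxm (Subgroup.mem_centralizer_singleton_iff.mp hy.1) hy.2) k
  have hdisj : Disjoint Dp Dm := by
    rw [Finset.disjoint_left]
    intro g hg hg'
    obtain ⟨⟨k, y⟩, hy, rfl⟩ := Finset.mem_image.mp hg
    obtain ⟨⟨k', y'⟩, hy', he⟩ := Finset.mem_image.mp hg'
    simp only [mem_product, mem_univ, true_and, mem_filter] at hy hy'
    simp only at he
    have e1 : y ^ (2 ^ (2 * m + 1) + 2 ^ (m + 1) + 1) = 1 := by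
      rw [← hcp]
      have := orderOf_dvd_natCard (G := Ap) ⟨y, hy.1⟩
      have h5 := pow_card_eq_one' (G := Ap) (x := ⟨y, hy.1⟩)
      exact congrArg Subtype.val h5
    have e2 : y' ^ (2 ^ (2 * m + 1) - 2 ^ (m + 1) + 1) = 1 := by
      rw [← hcm]
      have h5 := pow_card_eq_one' (G := Am) (x := ⟨y', hy'.1⟩)
      exact congrArg Subtype.val h5
    have e3 : (k * y * k⁻¹) ^ (2 ^ (2 * m + 1) + 2 ^ (m + 1) + 1) = 1 := by
      rw [conj_pow, e1]
      group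
    have e4 : (k * y * k⁻¹) ^ (2 ^ (2 * m + 1) - 2 ^ (m + 1) + 1) = 1 := by
      rw [← he, conj_pow, e2]
      group
    have e5 := Nat.dvd_gcd (orderOf_dvd_of_pow_eq_one e3) (orderOf_dvd_of_pow_eq_one e4)
    rw [Nat.Coprime.gcd_eq_one (pm_coprime m), Nat.dvd_one, orderOf_eq_one_iff] at e5
    apply hy.2
    have e6 : k * y = k := by
      rw [mul_inv_eq_one] at e5
      exact e5
    exact mul_left_cancel (e6.trans (mul_one k).symm)
  have hder := two_card_der hF hm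
  rw [Nat.card_eq_fintype_card, Fintype.card_subtype] at hder
  have hunion : Dp.card + Dm.card ≤ (univ.filter (fun g : Cfsg.Sz F m => Der g)).card := by
    rw [← Finset.card_union_of_disjoint hdisj]
    exact card_le_card (union_subset hsubp hsubm)
  have hq1 : 1 < 2 ^ (2 * m + 1) := Nat.one_lt_two_pow (by omega)
  have hK : 0 < (2 ^ (2 * m + 1)) ^ 2 * (2 ^ (2 * m + 1) - 1) := Nat.mul_pos (by positivity) (by omega)
  have hcardG : Nat.card (Cfsg.Sz F m) = ((2 ^ (2 * m + 1)) ^ 2 * (2 ^ (2 * m + 1) - 1)) *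
      (2 ^ (2 * m + 1) + 2 ^ (m + 1) + 1) * (2 ^ (2 * m + 1) - 2 ^ (m + 1) + 1) := by
    rw [card_Sz hF hm, mul_assoc _ (2 ^ (2 * m + 1) + 2 ^ (m + 1) + 1), pm_mul]
    ring
  rw [hcardG, hcp] at h1
  rw [hcardG, hcm] at h2
  have hA1 : 1 < 2 ^ (2 * m + 1) + 2 ^ (m + 1) + 1 := by
    have : 0 < 2 ^ (m + 1) := by positivity
    omega
  obtain ⟨r1, r2, r3⟩ := arith_main hK hA1 (am_gt m hm) h1 h2 h3 h4 hunion (arith_num m hm hder)
  refine ⟨r1, r2, ?_⟩
  intro g hg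
  have hall : Dp ∪ Dm = univ.filter (fun g : Cfsg.Sz F m => Der g) :=
    Finset.eq_of_subset_of_card_le (union_subset hsubp hsubm) (by rw [Finset.card_union_of_disjoint hdisj, r3])
  have hgm : g ∈ Dp ∪ Dm := by
    rw [hall]
    simp [hg]
  rcases mem_union.mp hgm with h | h
  · obtain ⟨⟨k, y⟩, hy, rfl⟩ := Finset.mem_image.mp h
    simp only [mem_product, mem_univ, true_and, mem_filter] at hy
    exact ⟨k, y, hy.2, Or.inl hy.1, rfl⟩
  · obtain ⟨⟨k, y⟩, hy, rfl⟩ := Finset.mem_image.mp h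
    simp only [mem_product, mem_univ, true_and, mem_filter] at hy
    exact ⟨k, y, hy.2, Or.inr hy.1, rfl⟩

omit hF hm [Fintype F] in
/-- Conjugation transports centralisers. -/
theorem centralizerConj (k g : Cfsg.Sz F m) :
    Nonempty (Subgroup.centralizer ({k * g * k⁻¹} : Set (Cfsg.Sz F m)) ≃* Subgroup.centralizer ({g} : Set (Cfsg.Sz F m))) := by
  refine ⟨conjEquiv k ?_⟩
  intro x
  rw [Subgroup.mem_centralizer_singleton_iff, Subgroup.mem_centralizer_singleton_iff]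
  constructor
  · intro h
    have e1 : k⁻¹ * x * k * g = k⁻¹ * (x * (k * g * k⁻¹)) * k := by group
    have e2 : g * (k⁻¹ * x * k) = k⁻¹ * ((k * g * k⁻¹) * x) * k := by group
    rw [e1, e2, h]
  · intro h
    have e1 : x * (k * g * k⁻¹) = k * ((k⁻¹ * x * k) * g) * k⁻¹ := by group
    have e2 : k * g * k⁻¹ * x = k * (g * (k⁻¹ * x * k)) * k⁻¹ := by group
    rw [e1, e2, h]

/-- The centraliser of a derangement has order `q ± σ + 1`. -/
theorem der_centralizer_card {g : Cfsg.Sz F m} (hg : Der g) :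
    Nat.card (Subgroup.centralizer ({g} : Set (Cfsg.Sz F m))) = 2 ^ (2 * m + 1) + 2 ^ (m + 1) + 1 ∨
      Nat.card (Subgroup.centralizer ({g} : Set (Cfsg.Sz F m))) = 2 ^ (2 * m + 1) - 2 ^ (m + 1) + 1 := by
  obtain ⟨xp, hxp, hp⟩ := exists_order_plus hF hm
  obtain ⟨xm, hxm, hm'⟩ := exists_order_minus hF hm
  obtain ⟨-, -, h⟩ := main_count hF hm hxp hp hxm hm'
  obtain ⟨k, y, hy1, hy, rfl⟩ := h g hg
  obtain ⟨e⟩ := centralizerConj k y
  rw [Nat.card_congr e.toEquiv]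
  rcases hy with hy | hy
  · left
    rw [centralizer_eq_of_mem hF hm hxp hy hy1]
    exact card_centralizer_plus hF hm hxp hp
  · right
    rw [centralizer_eq_of_mem hF hm hxm hy hy1]
    exact card_centralizer_minus hF hm hxm hm'

/-- The tori. -/
theorem tori_exist : ∀ k ∈ ({2 ^ (2 * m + 1) + 2 ^ (m + 1) + 1, 2 ^ (2 * m + 1) - 2 ^ (m + 1) + 1} : Set ℕ),
      ∃ U : Subgroup (Cfsg.Sz F m), IsCyclic U ∧ Nat.card U = k ∧
        (∀ u ∈ U, u ≠ 1 → Subgroup.centralizer {u} = U) ∧ Nat.card (Subgroup.normalizer (U : Set (Cfsg.Sz F m))) = 4 * k := by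
  obtain ⟨xp, hxp, hp⟩ := exists_order_plus hF hm
  obtain ⟨xm, hxm, hm'⟩ := exists_order_minus hF hm
  obtain ⟨h1, h2, -⟩ := main_count hF hm hxp hp hxm hm'
  rintro k (rfl | rfl)
  · exact ⟨Subgroup.centralizer ({xp} : Set (Cfsg.Sz F m)), cyclic_centralizer hF hm hxp,
      card_centralizer_plus hF hm hxp hp, fun u hu hu1 => centralizer_eq_of_mem hF hm hxp hu hu1, h1⟩
  · exact ⟨Subgroup.centralizer ({xm} : Set (Cfsg.Sz F m)), cyclic_centralizer hF hm hxm,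
      card_centralizer_minus hF hm hxm hm', fun u hu hu1 => centralizer_eq_of_mem hF hm hxm hu hu1, h2⟩

omit hF [Fintype F] in
/-- The numbers of the partition. -/
theorem block_nums : ∀ c ∈ ({2 ^ (2 * m + 1) - 1, 2 ^ (2 * m + 1) + 2 ^ (m + 1) + 1, 2 ^ (2 * m + 1) - 2 ^ (m + 1) + 1} : Set ℕ),
    1 < c ∧ ¬ 2 ∣ c ∧ ∀ c' ∈ ({2 ^ (2 * m + 1) - 1, 2 ^ (2 * m + 1) + 2 ^ (m + 1) + 1, 2 ^ (2 * m + 1) - 2 ^ (m + 1) + 1} : Set ℕ),
      c' ∣ c → c' = c := by
  have hq8 : 2 ^ 3 ≤ 2 ^ (2 * m + 1) := Nat.pow_le_pow_right (by norm_num) (by omega)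
  have hq2 : 2 ∣ 2 ^ (2 * m + 1) := dvd_pow_self 2 (by omega)
  have hap := am_lt_ap m
  have ham := am_gt m hm
  have hs : 0 < 2 ^ (m + 1) := by positivity
  have hdp : 2 ^ (2 * m + 1) + 2 ^ (m + 1) + 1 ∣ (2 ^ (2 * m + 1)) ^ 2 + 1 := Dvd.intro _ (pm_mul m)
  have hdm : 2 ^ (2 * m + 1) - 2 ^ (m + 1) + 1 ∣ (2 ^ (2 * m + 1)) ^ 2 + 1 := Dvd.intro_left _ (pm_mul m)
  have hodd : ∀ c, c ∣ (2 ^ (2 * m + 1)) ^ 2 + 1 → ¬ 2 ∣ c := fun c hc h => odd_qq (m := m) (h.trans hc)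
  have hrel : (2 ^ (2 * m + 1)) ^ 2 + 1 = (2 ^ (2 * m + 1) - 1) * (2 ^ (2 * m + 1) + 1) + 2 := by
    have hq1 : 1 ≤ 2 ^ (2 * m + 1) := Nat.one_le_two_pow
    zify [hq1]
    ring
  -- a common divisor of `q - 1` and `q² + 1` divides two
  have hcommon : ∀ c, c ∣ 2 ^ (2 * m + 1) - 1 → c ∣ (2 ^ (2 * m + 1)) ^ 2 + 1 → c = 1 := by
    intro c h1 h3
    rw [hrel] at h3
    have h4 := (Nat.dvd_add_right (Dvd.dvd.mul_right h1 _)).mp h3
    have h5 := hodd c (by rw [hrel]; exact Dvd.dvd.add (Dvd.dvd.mul_right h1 _) h4)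
    have h6 := Nat.le_of_dvd (by norm_num) h4
    interval_cases c
    · simp at h4
    · rfl
    · exact absurd (dvd_refl 2) h5
  have hq1odd : ¬ 2 ∣ 2 ^ (2 * m + 1) - 1 := by omega
  have hco := pm_coprime m
  rintro c (rfl | rfl | rfl)
  · refine ⟨by omega, hq1odd, ?_⟩
    rintro c' (rfl | rfl | rfl) hd
    · rfl
    · exfalso
      have := Nat.le_of_dvd (by omega) hd
      omega
    · exfalso
      have := hcommon _ hd hdm
      omega
  · refine ⟨by omega, hodd _ hdp, ?_⟩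
    rintro c' (rfl | rfl | rfl) hd
    · exfalso
      have := hcommon _ (dvd_refl _) (hd.trans hdp)
      omega
    · rfl
    · exfalso
      have := Nat.Coprime.eq_one_of_dvd hco.symm hd
      omega
  · refine ⟨by omega, hodd _ hdm, ?_⟩
    rintro c' (rfl | rfl | rfl) hd
    · exfalso
      have := hcommon _ (dvd_refl _) (hd.trans hdm)
      omega
    · exfalso
      have := Nat.le_of_dvd (by omega) hd
      omega
    · rfl

/-- Sylow `2`-subgroups intersect trivially. -/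
theorem sylow_ti {P P' : Sylow 2 (Cfsg.Sz F m)} {g : Cfsg.Sz F m} (hg1 : g ≠ 1)
    (hP : g ∈ (P : Subgroup (Cfsg.Sz F m))) (hP' : g ∈ (P' : Subgroup (Cfsg.Sz F m))) :
    (P : Subgroup (Cfsg.Sz F m)) = (P' : Subgroup (Cfsg.Sz F m)) := by
  obtain ⟨k, hk⟩ := exists_conj hF hm P
  obtain ⟨k', hk'⟩ := exists_conj hF hm P'
  have hu : k⁻¹ * g * k ∈ UU hF hm := (hk g).mp hP
  have hu' : k'⁻¹ * g * k' ∈ UU hF hm := (hk' g).mp hP'
  have hu1 : k⁻¹ * g * k ≠ 1 := by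
    intro e
    apply hg1
    have : g = k * (k⁻¹ * g * k) * k⁻¹ := by group
    rw [this, e]
    group
  have hfix' : (k'⁻¹ * g * k') • pinf F = pinf F := UU_le_BB hF hm hu'
  have hr : (k⁻¹ * k') • pinf F ∈ Cfsg.suzukiOvoid F m := smul_mem_ovoid hF _ pinf_mem
  have hfix : (k⁻¹ * g * k) • ((k⁻¹ * k') • pinf F) = (k⁻¹ * k') • pinf F := by
    have e : k⁻¹ * g * k * (k⁻¹ * k') = (k⁻¹ * k') * (k'⁻¹ * g * k') := by group
    rw [← mul_smul, e, mul_smul, hfix']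
  have hB : k⁻¹ * k' ∈ BB F m := by
    rw [MulAction.mem_stabilizer_iff]
    rcases (mem_ovoid _).mp hr with h | ⟨x, y, h⟩
    · exact h
    · rw [h] at hfix
      exact absurd hfix (uG_fix_pt hF hm hu hu1)
  have hB' : k'⁻¹ * k ∈ BB F m := by
    have := (BB F m).inv_mem hB
    simpa using this
  ext x
  rw [hk, hk']
  constructor
  · intro h
    have := conj_mem_UU hF hm hB' h
    have e : k'⁻¹ * k * (k⁻¹ * x * k) * (k'⁻¹ * k)⁻¹ = k'⁻¹ * x * k' := by group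
    rwa [e] at this
  · intro h
    have := conj_mem_UU hF hm hB h
    have e : k⁻¹ * k' * (k'⁻¹ * x * k') * (k⁻¹ * k')⁻¹ = k⁻¹ * x * k := by group
    rwa [e] at this

theorem card_TT : Nat.card (TT hF) = 2 ^ (2 * m + 1) - 1 := by
  classical
  have hinj : Function.Injective (MonoidHom.mk' (tG hF) (fun s t => (tG_mul hF s t).symm)) :=
    fun s t h => tG_inj hF h
  rw [TT, ← Nat.card_congr (MonoidHom.ofInjective hinj).toEquiv, Nat.card_eq_fintype_card,
    Fintype.card_units, hF]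

/-- The partition. -/
theorem partition (g : Cfsg.Sz F m) (hg : g ≠ 1) :
    ∃! U : Subgroup (Cfsg.Sz F m), ((∃ P : Sylow 2 (Cfsg.Sz F m), U = (P : Subgroup (Cfsg.Sz F m))) ∨
      (IsCyclic U ∧ Nat.card U ∈ ({2 ^ (2 * m + 1) - 1, 2 ^ (2 * m + 1) + 2 ^ (m + 1) + 1, 2 ^ (2 * m + 1) - 2 ^ (m + 1) + 1} : Set ℕ))) ∧
      g ∈ U := by
  haveI := finite_Sz hF hm
  have hnums := block_nums (m := m) hm
  -- Type I
  have type1 : g ^ 4 = 1 → ∃! U : Subgroup (Cfsg.Sz F m), ((∃ P : Sylow 2 (Cfsg.Sz F m), U = (P : Subgroup (Cfsg.Sz F m))) ∨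
      (IsCyclic U ∧ Nat.card U ∈ ({2 ^ (2 * m + 1) - 1, 2 ^ (2 * m + 1) + 2 ^ (m + 1) + 1, 2 ^ (2 * m + 1) - 2 ^ (m + 1) + 1} : Set ℕ))) ∧
      g ∈ U := by
    intro h4
    have hp : IsPGroup 2 (Subgroup.zpowers g) := by
      rintro ⟨x, i, rfl⟩
      refine ⟨2, Subtype.ext ?_⟩
      show (g ^ i) ^ 2 ^ 2 = 1
      rw [← zpow_natCast, ← zpow_mul, mul_comm, zpow_mul, zpow_natCast]
      norm_num [h4]
    obtain ⟨P, hP⟩ := hp.exists_le_sylow
    have hgP : g ∈ (P : Subgroup (Cfsg.Sz F m)) := hP (Subgroup.mem_zpowers g)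
    refine ⟨P, ⟨Or.inl ⟨P, rfl⟩, hgP⟩, ?_⟩
    rintro U ⟨⟨P', rfl⟩ | ⟨hc, hcard⟩, hgU⟩
    · exact sylow_ti hF hm hg hgU hgP
    · exfalso
      obtain ⟨-, hodd, -⟩ := hnums _ hcard
      have h1 : orderOf g ∣ Nat.card U := by
        exact Subgroup.orderOf_dvd_natCard U hgU
      have h2 : orderOf g ∣ 2 ^ 2 := orderOf_dvd_of_pow_eq_one (by simpa using h4)
      have hco : Nat.Coprime (Nat.card U) (2 ^ 2) :=
        Nat.Coprime.pow_right 2 ((Nat.Prime.coprime_iff_not_dvd Nat.prime_two).mpr hodd).symm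
      have h3 := Nat.Coprime.eq_one_of_dvd (Nat.Coprime.coprime_dvd_left h1 hco) h2
      exact hg (orderOf_eq_one_iff.mp h3)
  -- Type II
  have type2 : ¬ 2 ∣ orderOf g → IsCyclic (Subgroup.centralizer ({g} : Set (Cfsg.Sz F m))) →
      Nat.card (Subgroup.centralizer ({g} : Set (Cfsg.Sz F m))) ∈ ({2 ^ (2 * m + 1) - 1, 2 ^ (2 * m + 1) + 2 ^ (m + 1) + 1, 2 ^ (2 * m + 1) - 2 ^ (m + 1) + 1} : Set ℕ) →
      ∃! U : Subgroup (Cfsg.Sz F m), ((∃ P : Sylow 2 (Cfsg.Sz F m), U = (P : Subgroup (Cfsg.Sz F m))) ∨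
      (IsCyclic U ∧ Nat.card U ∈ ({2 ^ (2 * m + 1) - 1, 2 ^ (2 * m + 1) + 2 ^ (m + 1) + 1, 2 ^ (2 * m + 1) - 2 ^ (m + 1) + 1} : Set ℕ))) ∧
      g ∈ U := by
    intro hodd hcyc hcard
    have hgC : g ∈ Subgroup.centralizer ({g} : Set (Cfsg.Sz F m)) := Subgroup.mem_centralizer_singleton_iff.mpr rfl
    refine ⟨_, ⟨Or.inr ⟨hcyc, hcard⟩, hgC⟩, ?_⟩
    rintro U ⟨⟨P', rfl⟩ | ⟨hc, hcard'⟩, hgU⟩
    · exfalso
      obtain ⟨n, hn⟩ := P'.2 ⟨g, hgU⟩
      have h1 : g ^ 2 ^ n = 1 := congrArg Subtype.val hn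
      have h2 := orderOf_dvd_of_pow_eq_one h1
      have hco : Nat.Coprime (orderOf g) (2 ^ n) :=
        Nat.Coprime.pow_right n ((Nat.Prime.coprime_iff_not_dvd Nat.prime_two).mpr hodd).symm
      have h3 := Nat.Coprime.eq_one_of_dvd hco h2
      exact hg (orderOf_eq_one_iff.mp h3)
    · have hle : U ≤ Subgroup.centralizer ({g} : Set (Cfsg.Sz F m)) := fun z hz =>
        Subgroup.mem_centralizer_singleton_iff.mpr (cyc_comm hz hgU)
      have hd := Subgroup.card_dvd_of_le hle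
      obtain ⟨-, -, h⟩ := hnums _ hcard
      have he := h _ hcard' hd
      exact Subgroup.eq_of_le_of_card_ge hle (le_of_eq he.symm)
  by_cases hder : Der g
  · apply type2 (der_odd hF hm hder) (cyclic_centralizer hF hm hder)
    rcases der_centralizer_card hF hm hder with h | h
    · rw [h]
      exact Or.inr (Or.inl rfl)
    · rw [h]
      exact Or.inr (Or.inr rfl)
  · simp only [Der] at hder
    push Not at hder
    obtain ⟨p, hp, hfix⟩ := hder
    obtain ⟨k, hk | hk⟩ := trichotomy hF hm hp hfix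
    · obtain ⟨x, y, hxy⟩ := hk
      apply type1
      have e1 : (k * g * k⁻¹) ^ 4 = 1 := by
        rw [hxy]
        exact uG_pow_four hF hm x y
      rw [conj_pow, mul_inv_eq_one] at e1
      exact mul_left_cancel (e1.trans (mul_one k).symm)
    · obtain ⟨s, hs⟩ := hk
      have hs1 : s ≠ 1 := by
        rintro rfl
        rw [tG_one, conj_eq_one_iff] at hs
        exact hg hs
      have e1 : g ^ (2 ^ (2 * m + 1) - 1) = 1 := by
        have e3 : (k * g * k⁻¹) ^ (2 ^ (2 * m + 1) - 1) = 1 := by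
          rw [hs]
          have e2 : (tG hF s) ^ (2 ^ (2 * m + 1) - 1) = tG hF (s ^ (2 ^ (2 * m + 1) - 1)) := by
            induction (2 ^ (2 * m + 1) - 1) with
            | zero => simp [tG_one]
            | succ n ih => rw [pow_succ, ih, tG_mul, pow_succ]
          rw [e2]
          have e3 : s ^ (2 ^ (2 * m + 1) - 1) = 1 := by
            have := FiniteField.pow_card_sub_one_eq_one (s : F) s.ne_zero
            rw [hF] at this
            exact Units.ext (by simpa using this)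
          rw [e3, tG_one]
        rw [conj_pow, mul_inv_eq_one] at e3
        exact mul_left_cancel (e3.trans (mul_one k).symm)
      obtain ⟨-, hq, -⟩ := hnums (2 ^ (2 * m + 1) - 1) (Or.inl rfl)
      have hd := orderOf_dvd_of_pow_eq_one e1
      obtain ⟨e⟩ := centralizerConj k g
      have hCT : Subgroup.centralizer ({k * g * k⁻¹} : Set (Cfsg.Sz F m)) = TT hF := by
        rw [hs]
        apply le_antisymm
        · intro y hy
          exact centralizer_tG hF hm hs1 (Subgroup.mem_centralizer_singleton_iff.mp hy)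
        · rintro _ ⟨t, rfl⟩
          rw [Subgroup.mem_centralizer_singleton_iff]
          show tG hF t * tG hF s = tG hF s * tG hF t
          rw [tG_mul, tG_mul, mul_comm]
      rw [hCT] at e
      haveI := cyclic_TT hF
      apply type2 (fun h => hq (h.trans hd)) (isCyclic_of_surjective e e.surjective)
      rw [← Nat.card_congr e.toEquiv, card_TT hF hm]
      exact Or.inl rfl

end Cfsg.Agent.Lib.Suzuki
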