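import Cfsg.Agent.Lib.Suzuki.Action

/-! The Suzuki group is perfect and simple. -/

set_option autoImplicit false

namespace Cfsg.Agent.Lib.Suzuki

open Matrix
open scoped Pointwise

variable {F : Type*} [Field F] [Fintype F] {m : ℕ}
variable (hF : Fintype.card F = 2 ^ (2 * m + 1)) (hm : 1 ≤ m)
include hF hm

/-- Elements are determined by their action on the affine ovoid points. -/
theorem ext_smul {g h : Cfsg.Sz F m} (H : ∀ x y : F, g • pt m x y = h • pt m x y) : g = h := by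
  have key : ∀ x y : F, (h⁻¹ * g) • pt m x y = pt m x y := by
    intro x y
    rw [mul_smul, H, inv_smul_smul]
  have h1 : pt m (0 : F) 0 ≠ pt m (1 : F) 0 := fun e => zero_ne_one (pt_inj e).1
  have h2 : pt m (1 : F) 0 ≠ pt m (0 : F) 1 := fun e => one_ne_zero (pt_inj e).1
  have h3 : pt m (0 : F) 0 ≠ pt m (0 : F) 1 := fun e => zero_ne_one (pt_inj e).2
  have : h⁻¹ * g = 1 := fix_three hF hm (pt_mem (0 : F) 0) (pt_mem (1 : F) 0) (pt_mem (0 : F) 1)
    h1 h2 h3 (key _ _) (key _ _) (key _ _)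
  exact (inv_mul_eq_one.mp this).symm

/-- Conjugation of `U` by `T`. -/
theorem tG_uG (t : Fˣ) (a b : F) :
    tG hF t * uG hF a b = uG hF ((t : F) * a) ((t : F) ^ (2 ^ (m + 1) + 1) * b) * tG hF t := by
  apply ext_smul hF hm
  intro x y
  rw [mul_smul, mul_smul, uG_smul_pt hF, tG_smul_pt hF, tG_smul_pt hF, uG_smul_pt hF]
  have e1 : (t : F) * (x + a) = (t : F) * x + (t : F) * a := by ring
  have e2 : (t : F) ^ (2 ^ (m + 1) + 1) * (y + a ^ (2 ^ (m + 1)) * x + b) =
      (t : F) ^ (2 ^ (m + 1) + 1) * y + ((t : F) * a) ^ (2 ^ (m + 1)) * ((t : F) * x) +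
        (t : F) ^ (2 ^ (m + 1) + 1) * b := by
    rw [mul_pow, pow_succ]
    ring
  rw [e1, e2]

theorem exists_unit_ne_one : ∃ t : Fˣ, t ≠ 1 := by
  classical
  have h1 : 1 < Fintype.card Fˣ := by
    rw [Fintype.card_units, hF]
    have : 2 ^ 3 ≤ 2 ^ (2 * m + 1) := Nat.pow_le_pow_right (by norm_num) (by omega)
    omega
  exact Fintype.exists_ne_of_one_lt_card h1 1

/-- The Suzuki group is perfect. -/
theorem perfect : commutator (Cfsg.Sz F m) = ⊤ := by
  set K := commutator (Cfsg.Sz F m) with hK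
  have h2 := two_zero hF
  have hc : ∀ g h : Cfsg.Sz F m, g * h * g⁻¹ * h⁻¹ ∈ K := fun g h =>
    Subgroup.commutator_mem_commutator (Subgroup.mem_top g) (Subgroup.mem_top h)
  -- torus
  have hT : ∀ t : Fˣ, tG hF t ∈ K := by
    intro t
    obtain ⟨x, hx⟩ := sq_surj hF (t : F)
    have hx0 : x ≠ 0 := by
      rintro rfl
      apply t.ne_zero
      rw [← hx]
      ring
    set s : Fˣ := Units.mk0 x hx0 with hs
    have hst : s * s = t := by
      apply Units.ext
      simp [hs, ← hx, sq]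
    have := hc (tG hF s) (wG hF hm)
    have e : tG hF s * wG hF hm * (tG hF s)⁻¹ * (wG hF hm)⁻¹ = tG hF t := by
      rw [wG_inv hF hm, tG_inv hF, mul_assoc, mul_assoc, ← mul_assoc (wG hF hm), wG_tG_wG hF hm,
        inv_inv, tG_mul hF, hst]
    rwa [e] at this
  obtain ⟨t0, ht0⟩ := exists_unit_ne_one hF hm
  -- the centre of `U`
  have hZ : ∀ b : F, uG hF 0 b ∈ K := by
    intro b
    have hne : (t0 : F) ^ (2 ^ (m + 1) + 1) + 1 ≠ 0 := by
      intro h
      have : (t0 : F) ^ (2 ^ (m + 1) + 1) = 1 := by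
        have h3 : (t0 : F) ^ (2 ^ (m + 1) + 1) = (t0 : F) ^ (2 ^ (m + 1) + 1) + 1 + 1 := by
          grind
        rw [h3, h]
        simp
      exact ht0 (Units.ext (sg1_eq_one hF t0.ne_zero this))
    set c := b / ((t0 : F) ^ (2 ^ (m + 1) + 1) + 1) with hcdef
    have := hc (tG hF t0) (uG hF 0 c)
    have e : tG hF t0 * uG hF 0 c * (tG hF t0)⁻¹ * (uG hF 0 c)⁻¹ = uG hF 0 b := by
      rw [tG_uG hF hm, mul_assoc (uG hF _ _), mul_inv_cancel, mul_one, uG_inv hF hm, uG_mul hF]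
      have h0 : (0 : F) ^ (2 ^ (m + 1)) = 0 := sg_zero
      rw [mul_zero, h0]
      congr 1
      · ring
      · rw [hcdef]
        field_simp
        grind
    rwa [e] at this
  have hU : ∀ a b : F, uG hF a b ∈ K := by
    intro a b
    have hne : (t0 : F) + 1 ≠ 0 := by
      intro h
      apply ht0
      apply Units.ext
      have h3 : (t0 : F) = (t0 : F) + 1 + 1 := by grind
      rw [h3, h]
      simp
    set a' := a / ((t0 : F) + 1) with ha'
    have := hc (tG hF t0) (uG hF a' 0)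
    have e : tG hF t0 * uG hF a' 0 * (tG hF t0)⁻¹ * (uG hF a' 0)⁻¹ =
        uG hF a ((t0 : F) ^ (2 ^ (m + 1) + 1) * 0 + (0 + a' ^ (2 ^ (m + 1)) * a') +
          ((t0 : F) * a') ^ (2 ^ (m + 1)) * a') := by
      rw [tG_uG hF hm, mul_assoc (uG hF _ _), mul_inv_cancel, mul_one, uG_inv hF hm, uG_mul hF]
      congr 1
      rw [ha']
      field_simp
    rw [e] at this
    set d := (t0 : F) ^ (2 ^ (m + 1) + 1) * 0 + (0 + a' ^ (2 ^ (m + 1)) * a') +
          ((t0 : F) * a') ^ (2 ^ (m + 1)) * a' with hd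
    have e2 : uG hF a b = uG hF a d * uG hF 0 (d + b) := by
      rw [uG_mul hF, mul_zero]
      congr 1
      · ring
      · grind
    rw [e2]
    exact K.mul_mem this (hZ _)
  -- the Weyl element
  have hW : wG hF hm ∈ K := by
    have hy : wG hF hm * uG hF 1 0 * (wG hF hm)⁻¹ ∈ K :=
      (inferInstance : K.Normal).conj_mem _ (hU 1 0) _
    have hmove : (wG hF hm * uG hF 1 0 * (wG hF hm)⁻¹) • pinf F ≠ pinf F := by
      rw [wG_inv hF hm, mul_smul, mul_smul, wG_smul_pinf hF hm, uG_smul_pt_zero hF,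
        wG_smul_pt hF hm (by simp)]
      exact pt_ne_pinf _ _
    rcases bruhatG hF hm (wG hF hm * uG hF 1 0 * (wG hF hm)⁻¹) with ⟨a, b, t, e⟩ | ⟨x, y, a, b, t, e⟩
    · exact absurd ((fix_pinf_iff hF hm _).mpr ⟨a, b, t, e⟩) hmove
    · have : wG hF hm = (uG hF x y)⁻¹ * (wG hF hm * uG hF 1 0 * (wG hF hm)⁻¹) * (uG hF a b * tG hF t)⁻¹ := by
        rw [e]
        group
      rw [this]
      exact K.mul_mem (K.mul_mem (K.inv_mem (hU _ _)) hy) (K.inv_mem (K.mul_mem (hU _ _) (hT _)))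
  rw [eq_top_iff]
  intro g _
  rcases bruhatG hF hm g with ⟨a, b, t, e⟩ | ⟨x, y, a, b, t, e⟩
  · rw [e]
    exact K.mul_mem (hU _ _) (hT _)
  · rw [e]
    exact K.mul_mem (K.mul_mem (hU _ _) hW) (K.mul_mem (hU _ _) (hT _))

/-- The point stabiliser. -/
abbrev BB (F : Type*) [Field F] (m : ℕ) : Subgroup (Cfsg.Sz F m) :=
  MulAction.stabilizer (Cfsg.Sz F m) (pinf F)

theorem UT_injG {a b a' b' : F} {t t' : Fˣ} (h : uG hF a b * tG hF t = uG hF a' b' * tG hF t') :
    a = a' ∧ b = b' ∧ t = t' :=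
  UT_inj hF hm (congrArg Subtype.val h)

theorem bb_form (g : BB F m) : ∃ (a b : F) (t : Fˣ), (g : Cfsg.Sz F m) = uG hF a b * tG hF t :=
  (fix_pinf_iff hF hm g.1).mp g.2

/-- The torus part of an element of the stabiliser. -/
noncomputable def rhoFun (g : BB F m) : Fˣ :=
  (bb_form hF hm g).choose_spec.choose_spec.choose

theorem rhoFun_eq {g : BB F m} {a b : F} {t : Fˣ} (h : (g : Cfsg.Sz F m) = uG hF a b * tG hF t) :
    rhoFun hF hm g = t := by
  have h1 := (bb_form hF hm g).choose_spec.choose_spec.choose_spec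
  exact (UT_injG hF hm (h1.symm.trans h)).2.2

/-- The torus part as a homomorphism. -/
noncomputable def rho : BB F m →* Fˣ :=
  MonoidHom.mk' (rhoFun hF hm) (by
    intro g g'
    obtain ⟨a, b, t, h⟩ := bb_form hF hm g
    obtain ⟨c, d, s, h'⟩ := bb_form hF hm g'
    rw [rhoFun_eq hF hm h, rhoFun_eq hF hm h']
    have : ((g * g' : BB F m) : Cfsg.Sz F m) = uG hF (a + (t : F) * c)
        (b + (t : F) ^ (2 ^ (m + 1) + 1) * d + a ^ (2 ^ (m + 1)) * ((t : F) * c)) * tG hF (t * s) := by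
      rw [Subgroup.coe_mul, h, h', mul_assoc, ← mul_assoc (tG hF t), tG_uG hF hm, mul_assoc (uG hF _ _),
        tG_mul hF, ← mul_assoc, uG_mul hF]
    exact rhoFun_eq hF hm this)

omit hm in
theorem uG_sq (a b : F) : uG hF a b * uG hF a b = uG hF 0 (a ^ (2 ^ (m + 1)) * a) := by
  have h2 := two_zero hF
  rw [uG_mul hF]
  congr 1 <;> grind

theorem uG_pow_four (a b : F) : uG hF a b ^ 4 = 1 := by
  have h2 := two_zero hF
  have : uG hF a b ^ 4 = (uG hF a b * uG hF a b) * (uG hF a b * uG hF a b) := by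
    simp only [pow_succ, pow_zero, one_mul, mul_assoc]
  rw [this, uG_sq hF, uG_mul hF, ← uG_zero hF hm]
  congr 1
  · ring
  · rw [sg_zero]
    grind

theorem finite_Sz : Finite (Cfsg.Sz F m) := by
  apply Nat.finite_of_card_ne_zero
  rw [card_Sz hF hm]
  have : 2 ^ 3 ≤ 2 ^ (2 * m + 1) := Nat.pow_le_pow_right (by norm_num) (by omega)
  have h1 : 0 < 2 ^ (2 * m + 1) - 1 := by omega
  positivity

theorem solvable_BB : Group.IsSolvable (BB F m) := by
  haveI := finite_Sz hF hm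
  have hp : IsPGroup 2 (rho hF hm).ker := by
    rintro ⟨g, hg⟩
    obtain ⟨a, b, t, h⟩ := bb_form hF hm g
    have ht : t = 1 := by
      have := rhoFun_eq hF hm h
      rw [← this]
      exact hg
    refine ⟨2, ?_⟩
    apply Subtype.ext
    apply Subtype.ext
    have h3 : (g : Cfsg.Sz F m) ^ 4 = 1 := by
      rw [h, ht, tG_one hF, mul_one, uG_pow_four hF hm]
    show (g : Cfsg.Sz F m) ^ (2 ^ 2) = 1
    exact h3
  haveI : Fact (Nat.Prime 2) := ⟨Nat.prime_two⟩
  haveI : Group.IsNilpotent (rho hF hm).ker := hp.isNilpotent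
  exact Group.isSolvable_of_ker_le_range (rho hF hm).ker.subtype (rho hF hm) (by rw [Subgroup.range_subtype])

theorem nontrivial_Sz : Nontrivial (Cfsg.Sz F m) := by
  refine ⟨⟨uG hF 1 0, 1, ?_⟩⟩
  intro h
  rw [← uG_zero hF hm] at h
  exact one_ne_zero (uG_inj hF h).1

/-- `N`-transitivity: a nontrivial normal subgroup is transitive on the ovoid. -/
theorem normal_trans {N : Subgroup (Cfsg.Sz F m)} (hN : N.Normal) (hN1 : N ≠ ⊥)
    {r : Projectivization F (Fin 4 → F)} (hr : r ∈ Cfsg.suzukiOvoid F m) :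
    ∃ n ∈ N, n • pinf F = r := by
  obtain ⟨⟨n, hn⟩, hx⟩ := Subgroup.ne_bot_iff_exists_ne_one.mp hN1
  have hn1 : n ≠ 1 := fun e => hx (Subtype.ext e)
  -- `n` moves a point
  have hmove : ∃ p ∈ Cfsg.suzukiOvoid F m, n • p ≠ p := by
    by_contra hcon
    push Not at hcon
    exact hn1 (faithful hF hm hcon)
  obtain ⟨p, hp, hnp⟩ := hmove
  obtain ⟨k, hk⟩ := exists_smul_pinf hF hm hp
  set n' := k * n * k⁻¹ with hn'
  have hn'N : n' ∈ N := hN.conj_mem _ hn _
  have hn'move : n' • pinf F ≠ pinf F := by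
    rw [hn', ← hk]
    simp only [mul_smul, inv_smul_smul]
    intro e
    exact hnp (MulAction.injective k e)
  rcases (mem_ovoid _).mp hr with rfl | ⟨x', y', rfl⟩
  · exact ⟨1, N.one_mem, one_smul _ _⟩
  have hmem : n' • pinf F ∈ Cfsg.suzukiOvoid F m := smul_mem_ovoid hF n' pinf_mem
  rcases (mem_ovoid _).mp hmem with h4 | ⟨x, y, h4⟩
  · exact absurd h4 hn'move
  · set b := uG hF x' y' * (uG hF x y)⁻¹ with hb
    refine ⟨b * n' * b⁻¹, hN.conj_mem _ hn'N _, ?_⟩
    have hb1 : b⁻¹ • pinf F = pinf F := by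
      rw [inv_smul_eq_iff, hb, mul_smul, inv_smul_eq_iff.mpr (uG_smul_pinf hF x y).symm, uG_smul_pinf hF]
    rw [mul_smul, mul_smul, hb1, h4, hb, mul_smul, inv_smul_eq_iff.mpr (uG_smul_pt_zero hF x y).symm,
      uG_smul_pt_zero hF]

/-- The Suzuki group is simple. -/
theorem simple : IsSimpleGroup (Cfsg.Sz F m) := by
  haveI := nontrivial_Sz hF hm
  refine ⟨?_⟩
  intro N hN
  by_cases hN1 : N = ⊥
  · exact Or.inl hN1
  right
  haveI := solvable_BB hF hm
  have hsurj : Function.Surjective ((QuotientGroup.mk' N).comp (BB F m).subtype) := by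
    intro y
    obtain ⟨g, rfl⟩ := QuotientGroup.mk'_surjective N y
    obtain ⟨n, hn, hng⟩ := normal_trans hF hm hN hN1 (smul_mem_ovoid hF g (pinf_mem (m := m)))
    refine ⟨⟨n⁻¹ * g, ?_⟩, ?_⟩
    · rw [MulAction.mem_stabilizer_iff, mul_smul, inv_smul_eq_iff, hng]
    · simp only [MonoidHom.comp_apply, Subgroup.subtype_apply, QuotientGroup.mk'_apply]
      rw [QuotientGroup.eq]
      have : (n⁻¹ * g)⁻¹ * g = g⁻¹ * n * g := by group
      rw [this]
      have := hN.conj_mem n hn g⁻¹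
      simpa using this
  haveI : Group.IsSolvable (Cfsg.Sz F m ⧸ N) := Group.isSolvable_of_surjective hsurj
  by_contra hne
  have hnt : Nontrivial (Cfsg.Sz F m ⧸ N) := QuotientGroup.nontrivial_iff.mpr hne
  have h1 := Group.IsSolvable.commutator_lt_top_of_nontrivial (Cfsg.Sz F m ⧸ N)
  have h2 : commutator (Cfsg.Sz F m ⧸ N) = ⊤ := by
    have h3 := Subgroup.map_commutator (⊤ : Subgroup (Cfsg.Sz F m)) ⊤ (QuotientGroup.mk' N)
    have h4 : (⊤ : Subgroup (Cfsg.Sz F m)).map (QuotientGroup.mk' N) = ⊤ := by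
      rw [← MonoidHom.range_eq_map, MonoidHom.range_eq_top]
      exact QuotientGroup.mk'_surjective N
    rw [h4] at h3
    rw [commutator_def, ← h3, ← commutator_def, perfect hF hm, h4]
  exact absurd h2 (ne_of_lt h1)

end Cfsg.Agent.Lib.Suzuki
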