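import Cfsg.Agent.Lib.Suzuki.SylowT
import Cfsg.Prelude.Def_Sz

/-! The comparison of the two models of the Suzuki group: the law `g* = g^θ`. -/

set_option autoImplicit false

namespace Cfsg.Agent.Lib.Suzuki

open Matrix Cfsg.Lie
open scoped MatrixGroups

variable {F : Type*} [Field F] {m : ℕ}

/-- The isometry condition for the antidiagonal form. -/
def IsSp (M : Matrix (Fin 4) (Fin 4) F) : Prop := M.transpose * Cfsg.suzukiForm F * M = Cfsg.suzukiForm F

/-- A `2 × 2` minor. -/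
def m2 (M : Matrix (Fin 4) (Fin 4) F) (k l i j : Fin 4) : F := M k i * M l j - M l i * M k j

theorem star4_apply (M : Matrix (Fin 4) (Fin 4) F) (p r : Fin 4) :
    star4 M p r = m2 M (pairOf p).1 (pairOf p).2 (pairOf r).1 (pairOf r).2 := rfl

theorem altForm_eq (u v : Fin 4 → F) : altForm4 u v = u ⬝ᵥ (Cfsg.suzukiForm F *ᵥ v) := by
  simp [altForm4, Cfsg.suzukiForm, dotProduct, mulVec, Fin.sum_univ_four]

theorem altForm_map (M : Matrix (Fin 4) (Fin 4) F) (u v : Fin 4 → F) :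
    altForm4 (M *ᵥ u) (M *ᵥ v) = u ⬝ᵥ ((M.transpose * Cfsg.suzukiForm F * M) *ᵥ v) := by
  rw [altForm_eq, ← Matrix.mulVec_mulVec, ← Matrix.mulVec_mulVec, Matrix.dotProduct_mulVec u M.transpose,
    Matrix.vecMul_transpose]

theorem altForm_of_isSp {M : Matrix (Fin 4) (Fin 4) F} (hM : IsSp M) (u v : Fin 4 → F) :
    altForm4 (M *ᵥ u) (M *ᵥ v) = altForm4 u v := by
  rw [altForm_map, altForm_eq, hM]

theorem mem_Sp4_iff (g : GL (Fin 4) F) : g ∈ Sp4 F ↔ IsSp (g : Matrix (Fin 4) (Fin 4) F) := by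
  constructor
  · intro h
    ext i j
    have h1 : altForm4 ((g : Matrix (Fin 4) (Fin 4) F) *ᵥ (Pi.single i 1)) ((g : Matrix (Fin 4) (Fin 4) F) *ᵥ (Pi.single j 1)) =
        altForm4 (Pi.single i 1) (Pi.single j 1) := h _ _
    rw [altForm_map, altForm_eq] at h1
    simpa using h1
  · intro h u v
    exact altForm_of_isSp h u v

theorem form_sq : Cfsg.suzukiForm F * Cfsg.suzukiForm F = 1 := by
  ext i j
  fin_cases i <;> fin_cases j <;> simp [Cfsg.suzukiForm, Matrix.mul_apply, Fin.sum_univ_four]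

theorem isSp_dual {M : Matrix (Fin 4) (Fin 4) F} (hM : IsSp M) :
    M * Cfsg.suzukiForm F * M.transpose = Cfsg.suzukiForm F := by
  have h1 : (Cfsg.suzukiForm F * M.transpose * Cfsg.suzukiForm F) * M = 1 := by
    have : (Cfsg.suzukiForm F * M.transpose * Cfsg.suzukiForm F) * M =
        Cfsg.suzukiForm F * (M.transpose * Cfsg.suzukiForm F * M) := by
      simp only [Matrix.mul_assoc]
    rw [this, hM, form_sq]
  have h2 : M * (Cfsg.suzukiForm F * M.transpose * Cfsg.suzukiForm F) = 1 := mul_eq_one_comm.mp h1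
  calc M * Cfsg.suzukiForm F * M.transpose
      = (M * (Cfsg.suzukiForm F * M.transpose * Cfsg.suzukiForm F)) * Cfsg.suzukiForm F := by
        simp only [Matrix.mul_assoc, form_sq, Matrix.mul_one]
    _ = _ := by rw [h2, Matrix.one_mul]

/-- Rows: the minors for the pairs `(0,3)` and `(1,2)` agree in rows `pairOf p`. -/
theorem sp_rows (h2 : (2 : F) = 0) {M : Matrix (Fin 4) (Fin 4) F} (hM : IsSp M) (p : Fin 4) :
    m2 M (pairOf p).1 (pairOf p).2 0 3 = m2 M (pairOf p).1 (pairOf p).2 1 2 := by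
  have h := isSp_dual hM
  have h3 := congrFun (congrFun h (pairOf p).1) (pairOf p).2
  simp only [Matrix.mul_apply, Fin.sum_univ_four, Cfsg.suzukiForm, Matrix.transpose_apply] at h3
  fin_cases p <;> simp [pairOf, m2] at h3 ⊢ <;> grind

/-- Columns: the minors for the pairs `(0,3)` and `(1,2)` agree in columns `pairOf r`. -/
theorem sp_cols (h2 : (2 : F) = 0) {M : Matrix (Fin 4) (Fin 4) F} (hM : IsSp M) (r : Fin 4) :
    m2 M 0 3 (pairOf r).1 (pairOf r).2 = m2 M 1 2 (pairOf r).1 (pairOf r).2 := by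
  have h3 := congrFun (congrFun hM (pairOf r).1) (pairOf r).2
  simp only [Matrix.mul_apply, Fin.sum_univ_four, Cfsg.suzukiForm, Matrix.transpose_apply] at h3
  fin_cases r <;> simp [pairOf, m2] at h3 ⊢ <;> grind

/-- Cauchy–Binet for the `2 × 2` minors of a product. -/
theorem cb (M N : Matrix (Fin 4) (Fin 4) F) (k l i j : Fin 4) :
    m2 (M * N) k l i j = m2 M k l 0 1 * m2 N 0 1 i j + m2 M k l 0 2 * m2 N 0 2 i j +
      m2 M k l 0 3 * m2 N 0 3 i j + m2 M k l 1 2 * m2 N 1 2 i j + m2 M k l 1 3 * m2 N 1 3 i j +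
      m2 M k l 2 3 * m2 N 2 3 i j := by
  simp only [m2, Matrix.mul_apply, Fin.sum_univ_four]
  ring

theorem star4_mul (h2 : (2 : F) = 0) {M N : Matrix (Fin 4) (Fin 4) F} (hM : IsSp M) (hN : IsSp N) :
    star4 (M * N) = star4 M * star4 N := by
  ext p r
  rw [Matrix.mul_apply, Fin.sum_univ_four, star4_apply, cb, sp_rows h2 hM p, sp_cols h2 hN r]
  simp only [star4_apply]
  have e0 : pairOf (0 : Fin 4) = (0, 1) := rfl
  have e1 : pairOf (1 : Fin 4) = (0, 2) := rfl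
  have e2 : pairOf (2 : Fin 4) = (1, 3) := rfl
  have e3 : pairOf (3 : Fin 4) = (2, 3) := rfl
  rw [e0, e1, e2, e3]
  simp only
  grind

/-- The Plücker coordinates. -/
def plv (v u : Fin 4 → F) : Fin 4 → F :=
  fun p => v (pairOf p).1 * u (pairOf p).2 - v (pairOf p).2 * u (pairOf p).1

theorem plv_law (h2 : (2 : F) = 0) {M : Matrix (Fin 4) (Fin 4) F} (hM : IsSp M) {v u : Fin 4 → F}
    (hB : altForm4 v u = 0) : plv (M *ᵥ v) (M *ᵥ u) = star4 M *ᵥ plv v u := by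
  ext p
  have hx := sp_rows h2 hM p
  have e0 : pairOf (0 : Fin 4) = (0, 1) := rfl
  have e1 : pairOf (1 : Fin 4) = (0, 2) := rfl
  have e2 : pairOf (2 : Fin 4) = (1, 3) := rfl
  have e3 : pairOf (3 : Fin 4) = (2, 3) := rfl
  generalize hk : (pairOf p).1 = k at *
  generalize hl : (pairOf p).2 = l at *
  have e4 : plv (M *ᵥ v) (M *ᵥ u) p = (M *ᵥ v) k * (M *ᵥ u) l - (M *ᵥ v) l * (M *ᵥ u) k := by
    simp only [plv, hk, hl]
  have e5 : (M *ᵥ v) k * (M *ᵥ u) l - (M *ᵥ v) l * (M *ᵥ u) k =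
      m2 M k l 0 1 * (v 0 * u 1 - v 1 * u 0) + m2 M k l 0 2 * (v 0 * u 2 - v 2 * u 0) +
      m2 M k l 0 3 * (v 0 * u 3 - v 3 * u 0) + m2 M k l 1 2 * (v 1 * u 2 - v 2 * u 1) +
      m2 M k l 1 3 * (v 1 * u 3 - v 3 * u 1) + m2 M k l 2 3 * (v 2 * u 3 - v 3 * u 2) := by
    simp only [m2, Matrix.mulVec, dotProduct, Fin.sum_univ_four]
    ring
  rw [e4, e5]
  have e6 : (star4 M *ᵥ plv v u) p = m2 M k l 0 1 * (v 0 * u 1 - v 1 * u 0) + m2 M k l 0 2 * (v 0 * u 2 - v 2 * u 0) +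
      m2 M k l 1 3 * (v 1 * u 3 - v 3 * u 1) + m2 M k l 2 3 * (v 2 * u 3 - v 3 * u 2) := by
    simp only [Matrix.mulVec, dotProduct, Fin.sum_univ_four, star4_apply, plv, e0, e1, e2, e3, hk, hl]
  rw [e6, hx]
  have hB' : v 0 * u 3 + v 1 * u 2 + v 2 * u 1 + v 3 * u 0 = 0 := hB
  have : (v 0 * u 3 - v 3 * u 0) = (v 1 * u 2 - v 2 * u 1) := by grind
  rw [this]
  grind

/-- The absolute points: the vectors `v` for which there is `u` with `v ∧ u` the image of `v`. -/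
def Abs (m : ℕ) (v : Fin 4 → F) : Prop :=
  ∃ u : Fin 4 → F, altForm4 v u = 0 ∧ plv v u = fun p => v p ^ (2 ^ (m + 1))

/-- The entrywise Frobenius twist of a matrix. -/
def theta (m : ℕ) (M : Matrix (Fin 4) (Fin 4) F) : Matrix (Fin 4) (Fin 4) F :=
  M.map (fun x => x ^ (2 ^ (m + 1)))

section
variable [Fintype F] (hF : Fintype.card F = 2 ^ (2 * m + 1))
include hF

theorem theta_mulVec (M : Matrix (Fin 4) (Fin 4) F) (v : Fin 4 → F) :
    theta m M *ᵥ (fun p => v p ^ (2 ^ (m + 1))) = fun p => (M *ᵥ v) p ^ (2 ^ (m + 1)) := by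
  ext p
  simp only [Matrix.mulVec, dotProduct, Fin.sum_univ_four, theta, Matrix.map_apply]
  rw [sg_add hF, sg_add hF, sg_add hF, sg_mul, sg_mul, sg_mul, sg_mul]

theorem theta_mul (M N : Matrix (Fin 4) (Fin 4) F) : theta m (M * N) = theta m M * theta m N := by
  ext p r
  simp only [Matrix.mul_apply, Fin.sum_univ_four, theta, Matrix.map_apply]
  rw [sg_add hF, sg_add hF, sg_add hF, sg_mul, sg_mul, sg_mul, sg_mul]

theorem abs_map {M : Matrix (Fin 4) (Fin 4) F} (hM : IsSp M) (hlaw : star4 M = theta m M)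
    {v : Fin 4 → F} (hv : Abs m v) : Abs m (M *ᵥ v) := by
  obtain ⟨u, h1, h3⟩ := hv
  refine ⟨M *ᵥ u, ?_, ?_⟩
  · rw [altForm_of_isSp hM, h1]
  · rw [plv_law (two_zero hF) hM h1, h3, hlaw, theta_mulVec hF]

theorem abs_ptv (x y : F) : Abs m (ptv m x y) := by
  have h2 := two_zero hF
  have hs1 : (x * y) ^ (2 ^ (m + 1)) = x ^ (2 ^ (m + 1)) * y ^ (2 ^ (m + 1)) := mul_pow _ _ _
  have hs2 : (x ^ (2 ^ (m + 1)) * x ^ 2) ^ (2 ^ (m + 1)) = x ^ 2 * (x ^ (2 ^ (m + 1))) ^ 2 := by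
    rw [mul_pow, sg_sg hF]
    congr 1
    rw [← pow_mul, ← pow_mul, mul_comm]
  have hs3 : (y ^ (2 ^ (m + 1))) ^ (2 ^ (m + 1)) = y ^ 2 := sg_sg hF y
  refine ⟨![y + x ^ (2 ^ (m + 1)) * x, x ^ (2 ^ (m + 1)), 1, 0], ?_, ?_⟩
  · simp only [altForm4, ptv, ovf]
    simp
    grind
  · ext p
    fin_cases p
    · simp [plv, pairOf, ptv, ovf]
      rw [sg_add hF, sg_add hF, hs1, hs2, hs3]
      generalize x ^ (2 ^ (m + 1)) = X at *
      grind
    · simp [plv, pairOf, ptv, ovf]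
      grind
    · simp [plv, pairOf, ptv]
      grind
    · simp [plv, pairOf, ptv]
      grind

theorem abs_e0 : Abs m (![1, 0, 0, 0] : Fin 4 → F) := by
  refine ⟨![0, 1, 0, 0], ?_, ?_⟩
  · simp [altForm4]
  · ext p
    fin_cases p <;> simp [plv, pairOf]

theorem abs_smul {c : F} (hc : c ≠ 0) {v : Fin 4 → F} (hv : Abs m v) : Abs m (c • v) := by
  obtain ⟨u, h1, h3⟩ := hv
  refine ⟨c ^ (2 ^ (m + 1) - 1) • u, ?_, ?_⟩
  · have : altForm4 (c • v) (c ^ (2 ^ (m + 1) - 1) • u) = c * c ^ (2 ^ (m + 1) - 1) * altForm4 v u := by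
      simp only [altForm4, Pi.smul_apply, smul_eq_mul]
      ring
    rw [this, h1, mul_zero]
  · have hcc : c * c ^ (2 ^ (m + 1) - 1) = c ^ (2 ^ (m + 1)) := mul_pow_sub_one (by positivity) c
    ext p
    have h4 := congrFun h3 p
    have : plv (c • v) (c ^ (2 ^ (m + 1) - 1) • u) p = c * c ^ (2 ^ (m + 1) - 1) * plv v u p := by
      simp only [plv, Pi.smul_apply, smul_eq_mul]
      ring
    rw [this, hcc, h4]
    simp only [Pi.smul_apply, smul_eq_mul, mul_pow]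

theorem abs_norm {v : Fin 4 → F} (hv : Abs m v) (h3 : v 3 = 1) : v = ptv m (v 2) (v 1) := by
  have h2 := two_zero hF
  obtain ⟨u, h1, h4⟩ := hv
  have p1 := congrFun h4 1
  have p2 := congrFun h4 2
  have p3 := congrFun h4 3
  simp [plv, pairOf, h3] at p1 p2 p3
  have h1' : v 0 * u 3 + v 1 * u 2 + v 2 * u 1 + v 3 * u 0 = 0 := h1
  rw [h3] at h1'
  ext p
  fin_cases p
  · simp [ptv, ovf]
    generalize v 2 ^ (2 ^ (m + 1)) = X at *
    generalize v 1 ^ (2 ^ (m + 1)) = Y at *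
    grind
  · simp [ptv]
  · simp [ptv]
  · simp [ptv, h3]

theorem abs_zero3 {v : Fin 4 → F} (hv : Abs m v) (h3 : v 3 = 0) : v 1 = 0 ∧ v 2 = 0 := by
  have h2 := two_zero hF
  obtain ⟨u, h1, h4⟩ := hv
  have p1 := congrFun h4 1
  have p2 := congrFun h4 2
  have p3 := congrFun h4 3
  simp [plv, pairOf, h3] at p1 p2 p3
  have h1' : v 0 * u 3 + v 1 * u 2 + v 2 * u 1 + v 3 * u 0 = 0 := h1
  rw [h3] at h1'
  have hv2 : v 2 = 0 := by
    by_contra hne
    have hu3 : u 3 = 0 := by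
      rcases p3 with h | h
      · exact absurd h hne
      · exact h
    rw [hu3, mul_zero] at p2
    have : v 2 ^ (2 ^ (m + 1)) = 0 := p2.symm
    exact hne (pow_eq_zero_iff (by positivity) |>.mp this)
  refine ⟨?_, hv2⟩
  by_contra hne
  rw [hv2] at p1 p2 h1'
  have hu3 : u 3 = 0 := by
    have hz : (0 : F) ^ (2 ^ (m + 1)) = 0 := sg_zero
    rw [hz] at p2
    exact (mul_eq_zero.mp p2).resolve_left hne
  rw [hu3] at h1'
  have hu2 : u 2 = 0 := by
    have : v 1 * u 2 = 0 := by grind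
    exact (mul_eq_zero.mp this).resolve_left hne
  rw [hu2] at p1
  have : v 1 ^ (2 ^ (m + 1)) = 0 := by
    rw [← p1]
    ring
  exact hne (pow_eq_zero_iff (by positivity) |>.mp this)

theorem mk_abs_mem {v : Fin 4 → F} (hv0 : v ≠ 0) (hv : Abs m v) :
    Projectivization.mk F v hv0 ∈ Cfsg.suzukiOvoid F m := by
  rw [mem_ovoid]
  by_cases h3 : v 3 = 0
  · left
    obtain ⟨h4, h5⟩ := abs_zero3 hF hv h3
    have h6 : v 0 ≠ 0 := by
      intro h
      apply hv0
      ext p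
      fin_cases p
      · exact h
      · exact h4
      · exact h5
      · exact h3
    rw [pinf_eq, Projectivization.mk_eq_mk_iff']
    refine ⟨v 0, ?_⟩
    ext p
    fin_cases p
    · simp
    · simp [h4]
    · simp [h5]
    · simp [h3]
  · right
    have h6 : Abs m ((v 3)⁻¹ • v) := abs_smul hF (inv_ne_zero h3) hv
    have h7 := abs_norm hF h6 (by simp [h3])
    refine ⟨((v 3)⁻¹ • v) 2, ((v 3)⁻¹ • v) 1, ?_⟩
    rw [pt, Projectivization.mk_eq_mk_iff']
    refine ⟨v 3, ?_⟩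
    rw [← h7, smul_smul, mul_inv_cancel₀ h3, one_smul]

theorem det_of_isSp {M : Matrix (Fin 4) (Fin 4) F} (hM : IsSp M) : M.det = 1 := by
  have h2 := two_zero hF
  have h1 := congrArg Matrix.det hM
  rw [Matrix.det_mul, Matrix.det_mul, Matrix.det_transpose] at h1
  have hJ : (Cfsg.suzukiForm F).det ≠ 0 := by
    intro h
    have := congrArg Matrix.det (form_sq (F := F))
    rw [Matrix.det_mul, h, Matrix.det_one] at this
    simp at this
  have h3 : M.det * M.det = 1 := by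
    have : (Cfsg.suzukiForm F).det * (M.det * M.det) = (Cfsg.suzukiForm F).det * 1 := by
      rw [mul_one]
      calc _ = M.det * (Cfsg.suzukiForm F).det * M.det := by ring
        _ = _ := h1
    exact mul_left_cancel₀ hJ this
  have h4 : (M.det + 1) * (M.det + 1) = 0 := by grind
  have h5 : M.det + 1 = 0 := mul_self_eq_zero.mp h4
  grind

/-- An isometry satisfying the law lies in the Suzuki group. -/
theorem mem_Sz_of_law {g : Matrix.SpecialLinearGroup (Fin 4) F} (hsp : IsSp g.1)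
    (hlaw : star4 g.1 = theta m g.1) : g ∈ Cfsg.Sz F m := by
  apply mem_Sz_of_subset
  intro p hp
  have key : ∀ (v : Fin 4 → F) (hv0 : v ≠ 0), Abs m v → g • Projectivization.mk F v hv0 ∈ Cfsg.suzukiOvoid F m := by
    intro v hv0 hv
    rw [Projectivization.smul_mk]
    have h1 : Abs m (g.1 *ᵥ v) := abs_map hF hsp hlaw hv
    exact mk_abs_mem hF _ h1
  rw [mem_ovoid] at hp
  rcases hp with rfl | ⟨x, y, rfl⟩
  · exact key _ _ (abs_e0 hF)
  · exact key _ _ (abs_ptv hF x y)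

/-! ### The generators satisfy the law -/

theorem law_U (a b : F) : star4 (Um m a b) = theta m (Um m a b) := by
  have h2 := two_zero hF
  have e1 : (b + a ^ (2 ^ (m + 1)) * a) ^ (2 ^ (m + 1)) = b ^ (2 ^ (m + 1)) + a ^ 2 * a ^ (2 ^ (m + 1)) := by
    rw [sg_add hF, sg_mul, sg_sg hF]
  have e2 : (a * b + a ^ (2 ^ (m + 1)) * a ^ 2 + b ^ (2 ^ (m + 1))) ^ (2 ^ (m + 1)) =
      a ^ (2 ^ (m + 1)) * b ^ (2 ^ (m + 1)) + a ^ 2 * (a ^ (2 ^ (m + 1))) ^ 2 + b ^ 2 := by
    rw [sg_add hF, sg_add hF, sg_mul, sg_mul, sg_sg hF, sg_sg hF]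
    congr 3
    rw [← pow_mul, ← pow_mul, mul_comm]
  have e3 : (a ^ (2 ^ (m + 1))) ^ (2 ^ (m + 1)) = a ^ 2 := sg_sg hF a
  have hs0 : (0 : F) ^ (2 ^ (m + 1)) = 0 := sg_zero
  have hs1 : (1 : F) ^ (2 ^ (m + 1)) = 1 := sg_one
  ext p r
  rw [star4_apply]
  fin_cases p <;> fin_cases r <;>
    simp [theta, m2, pairOf, Um, hs0, e1, e2, e3] <;>
    generalize a ^ (2 ^ (m + 1)) = A at * <;>
    generalize b ^ (2 ^ (m + 1)) = B at * <;>
    grind

theorem law_T (t : Fˣ) : star4 (Tm m (t : F)) = theta m (Tm m (t : F)) := by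
  have h2 := two_zero hF
  have hs0 : (0 : F) ^ (2 ^ (m + 1)) = 0 := sg_zero
  have ht0 : (t : F) ≠ 0 := t.ne_zero
  have hd : ((t : F) ^ (2 ^ m)) ^ (2 ^ (m + 1)) = (t : F) := by
    rw [← pow_mul, ← pow_add, show m + (m + 1) = 2 * m + 1 by ring, ← hF]
    exact FiniteField.pow_card _
  have hsq : ((t : F) ^ (2 ^ m)) ^ 2 = (t : F) ^ (2 ^ (m + 1)) := by
    rw [← pow_mul, pow_succ 2 m]
  have hd0 : (t : F) ^ (2 ^ m) ≠ 0 := pow_ne_zero _ ht0
  have hp : (t : F) ^ (2 ^ m + 1) = (t : F) ^ (2 ^ m) * t := pow_succ _ _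
  have hth : ((t : F) ^ (2 ^ m))⁻¹ ^ (2 ^ (m + 1)) = (t : F)⁻¹ := by
    rw [inv_pow, hd]
  have hth2 : ((t : F) ^ (2 ^ m) * t) ^ (2 ^ (m + 1)) = (t : F) * (t : F) ^ (2 ^ (m + 1)) := by
    rw [mul_pow, hd]
  ext p r
  rw [star4_apply]
  fin_cases p <;> fin_cases r <;>
    simp [theta, m2, pairOf, Tm, hs0, hp, hth, hth2, inv_pow, mul_pow] <;>
    generalize (t : F) ^ (2 ^ (m + 1)) = S at * <;>
    generalize (t : F) ^ (2 ^ m) = d at * <;>
    field_simp <;> grind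

theorem law_W (hm : 1 ≤ m) : star4 (Wm F) = theta m (Wm F) := by
  have h2 := two_zero hF
  have hs0 : (0 : F) ^ (2 ^ (m + 1)) = 0 := sg_zero
  have hs1 : (1 : F) ^ (2 ^ (m + 1)) = 1 := sg_one
  ext p r
  rw [star4_apply]
  fin_cases p <;> fin_cases r <;>
    simp [theta, m2, pairOf, Wm, hs0, hs1] <;> grind

theorem law_mul {M N : Matrix (Fin 4) (Fin 4) F} (hM : IsSp M) (hN : IsSp N)
    (hlM : star4 M = theta m M) (hlN : star4 N = theta m N) :
    star4 (M * N) = theta m (M * N) := by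
  rw [star4_mul (two_zero hF) hM hN, hlM, hlN, theta_mul hF]

theorem isSp_mul {M N : Matrix (Fin 4) (Fin 4) F} (hM : IsSp M) (hN : IsSp N) : IsSp (M * N) :=
  form_mul hF hM hN

/-- The law holds in the whole ovoid model of the Suzuki group. -/
theorem law_Sz (hm : 1 ≤ m) {g : Matrix.SpecialLinearGroup (Fin 4) F} (hg : g ∈ Cfsg.Sz F m) :
    star4 g.1 = theta m g.1 := by
  have hU := fun a b : F => form_U (m := m) hF a b
  have lU := fun a b : F => law_U (m := m) hF a b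
  have hT := fun t : Fˣ => form_T (F := F) (m := m) t
  have lT := law_T (m := m) hF
  have hW := form_W (F := F)
  have lW := law_W (m := m) hF hm
  rcases bruhatG hF hm ⟨g, hg⟩ with ⟨a, b, t, e⟩ | ⟨x, y, a, b, t, e⟩
  · have e1 : g.1 = Um m a b * Tm m (t : F) := by
      have := congrArg (fun z : Cfsg.Sz F m => ((z : Matrix.SpecialLinearGroup (Fin 4) F) : Matrix (Fin 4) (Fin 4) F)) e
      simpa [uG, tG] using this
    rw [e1]
    exact law_mul hF (hU _ _) (hT _) (lU _ _) (lT _)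
  · have e1 : g.1 = Um m x y * Wm F * (Um m a b * Tm m (t : F)) := by
      have := congrArg (fun z : Cfsg.Sz F m => ((z : Matrix.SpecialLinearGroup (Fin 4) F) : Matrix (Fin 4) (Fin 4) F)) e
      simpa [uG, tG, wG] using this
    rw [e1]
    exact law_mul hF (isSp_mul hF (hU _ _) hW) (isSp_mul hF (hU _ _) (hT _))
      (law_mul hF (hU _ _) hW (lU _ _) lW) (law_mul hF (hU _ _) (hT _) (lU _ _) (lT _))

/-- The embedding of the ovoid model into `GL₄`. -/
def szToGL (F : Type*) [Field F] (m : ℕ) : Cfsg.Sz F m →* GL (Fin 4) F :=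
  (Matrix.SpecialLinearGroup.toGL).comp (Cfsg.Sz F m).subtype

omit [Fintype F] hF in
theorem szToGL_inj : Function.Injective (szToGL F m) := by
  intro g h e
  apply Subtype.ext
  apply Subtype.ext
  have := congrArg (fun z : GL (Fin 4) F => (z : Matrix (Fin 4) (Fin 4) F)) e
  exact this

omit [Fintype F] hF in
theorem szToGL_coe (g : Cfsg.Sz F m) :
    ((szToGL F m g : GL (Fin 4) F) : Matrix (Fin 4) (Fin 4) F) = (g : Matrix.SpecialLinearGroup (Fin 4) F).1 := rfl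

theorem range_szToGL (hm : 1 ≤ m) : (szToGL F m).range = Cfsg.Lie.Sz F (2 ^ (m + 1)) := by
  apply le_antisymm
  · rintro _ ⟨g, rfl⟩
    apply Subgroup.subset_closure
    refine ⟨?_, ?_⟩
    · rw [mem_Sp4_iff]
      exact form_Sz hF hm g.2
    · exact law_Sz hF hm g.2
  · apply (Subgroup.closure_le _).mpr
    rintro g ⟨hg1, hg2⟩
    have hsp : IsSp (g : Matrix (Fin 4) (Fin 4) F) := (mem_Sp4_iff g).mp hg1
    have hdet := det_of_isSp hF hsp
    let g' : Matrix.SpecialLinearGroup (Fin 4) F := ⟨g, hdet⟩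
    refine ⟨⟨g', mem_Sz_of_law hF hsp hg2⟩, ?_⟩
    apply Units.ext
    rfl

/-- The two models of the Suzuki group are isomorphic. -/
noncomputable def szEquiv (hm : 1 ≤ m) : Cfsg.Sz F m ≃* Cfsg.Lie.Sz F (2 ^ (m + 1)) :=
  (MonoidHom.ofInjective szToGL_inj).trans (MulEquiv.subgroupCongr (range_szToGL hF hm))

theorem szEquiv_coe (hm : 1 ≤ m) (g : Cfsg.Sz F m) :
    (((szEquiv hF hm g : Cfsg.Lie.Sz F (2 ^ (m + 1))) : GL (Fin 4) F) : Matrix (Fin 4) (Fin 4) F) =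
      (g : Matrix.SpecialLinearGroup (Fin 4) F).1 := rfl

/-- The second model is simple. -/
theorem simple_lie (hm : 1 ≤ m) : IsSimpleGroup (Cfsg.Lie.Sz F (2 ^ (m + 1))) := by
  haveI := simple hF hm
  exact (szEquiv hF hm).symm.isSimpleGroup

end

end Cfsg.Agent.Lib.Suzuki
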