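import Cfsg.Agent.Lib.Suzuki.Coord

/-! The two-point stabiliser of the Suzuki group and the Bruhat decomposition. -/

set_option autoImplicit false

namespace Cfsg.Agent.Lib.Suzuki

open Matrix
open scoped Pointwise

variable {F : Type*} [Field F] [Fintype F] {m : ℕ}

/-- Coefficient comparison for a semilinear symmetry of the ovoid. -/
theorem key_coeffs (hF : Fintype.card F = 2 ^ (2 * m + 1)) (hm : 1 ≤ m) (L P Q A B C D : F)
    (h : ∀ x y : F, L * ovf m x y + P * y + Q * x = ovf m (A * x + B * y) (C * x + D * y)) :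
    P = 0 ∧ Q = 0 ∧ B = 0 ∧ C = 0 ∧ L = A * D ∧ L = A ^ (2 ^ (m + 1)) * A ^ 2 ∧ L = D ^ (2 ^ (m + 1)) := by
  have h2 := two_zero hF
  have hs : (0 : F) ^ (2 ^ (m + 1)) = 0 := zero_pow (by positivity)
  have hpow : ∀ x : F, x ^ (2 ^ (m + 1) + 2) = x ^ (2 ^ (m + 1)) * x ^ 2 := fun x => pow_add _ _ _
  have key : ∀ y x : F, (L * y ^ (2 ^ (m + 1)) + P * y + B * D * y ^ 2 +
        B ^ (2 ^ (m + 1)) * B ^ 2 * y ^ (2 ^ (m + 1)) * y ^ 2 + D ^ (2 ^ (m + 1)) * y ^ (2 ^ (m + 1))) +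
      ((L + A * D + B * C) * y + Q) * x +
      (A * C + B ^ (2 ^ (m + 1)) * A ^ 2 * y ^ (2 ^ (m + 1))) * x ^ 2 +
      (A ^ (2 ^ (m + 1)) * B ^ 2 * y ^ 2 + C ^ (2 ^ (m + 1))) * x ^ (2 ^ (m + 1)) +
      (L + A ^ (2 ^ (m + 1)) * A ^ 2) * x ^ (2 ^ (m + 1) + 2) = 0 := by
    intro y x
    have h0 := h x y
    have e1 : (A * x + B * y) ^ (2 ^ (m + 1)) =
        A ^ (2 ^ (m + 1)) * x ^ (2 ^ (m + 1)) + B ^ (2 ^ (m + 1)) * y ^ (2 ^ (m + 1)) := by
      rw [sg_add hF, sg_mul, sg_mul]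
    have e2 : (C * x + D * y) ^ (2 ^ (m + 1)) =
        C ^ (2 ^ (m + 1)) * x ^ (2 ^ (m + 1)) + D ^ (2 ^ (m + 1)) * y ^ (2 ^ (m + 1)) := by
      rw [sg_add hF, sg_mul, sg_mul]
    unfold ovf at h0
    rw [e1, e2] at h0
    rw [hpow]
    generalize x ^ (2 ^ (m + 1)) = X at *
    generalize y ^ (2 ^ (m + 1)) = Y at *
    generalize A ^ (2 ^ (m + 1)) = A' at *
    generalize B ^ (2 ^ (m + 1)) = B' at *
    generalize C ^ (2 ^ (m + 1)) = C' at *
    generalize D ^ (2 ^ (m + 1)) = D' at *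
    grind
  have c := fun y => five_coeffs hF hm _ _ _ _ _ (key y)
  obtain ⟨-, hQ, hAC, hC, hL⟩ := c 0
  obtain ⟨c0, c1, -, -, -⟩ := c 1
  have hCC : C = 0 := by
    have : C ^ (2 ^ (m + 1)) = 0 := by
      simpa [hs] using hC
    exact pow_eq_zero_iff (by positivity) |>.mp this
  have hQ0 : Q = 0 := by simpa using hQ
  have hy : ∀ y : F, 0 + P * y + (B * D) * y ^ 2 + (L + D ^ (2 ^ (m + 1))) * y ^ (2 ^ (m + 1)) +
      (B ^ (2 ^ (m + 1)) * B ^ 2) * y ^ (2 ^ (m + 1) + 2) = 0 := by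
    intro y
    have := (c y).1
    rw [hpow]
    generalize y ^ (2 ^ (m + 1)) = Y at *
    grind
  obtain ⟨-, hP, hBD, hD, hB⟩ := five_coeffs hF hm _ _ _ _ _ hy
  have hBB : B = 0 := by
    by_contra hne
    exact (mul_ne_zero (pow_ne_zero _ hne) (pow_ne_zero _ hne)) hB
  have hLA : L = A * D := by
    have : (L + A * D + B * C) * 1 + Q = 0 := c1
    rw [hBB, hQ0] at this
    grind
  refine ⟨hP, hQ0, hBB, hCC, hLA, ?_, ?_⟩
  · grind
  · grind

/-- The two-point stabiliser consists of the torus elements. -/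
theorem eq_T_of_fix (hF : Fintype.card F = 2 ^ (2 * m + 1)) (hm : 1 ≤ m)
    {g : Matrix.SpecialLinearGroup (Fin 4) F} (hg : g ∈ Cfsg.Sz F m)
    (h1 : g • pinf F = pinf F) (h2 : g • pt m (0 : F) 0 = pt m (0 : F) 0) :
    ∃ t : Fˣ, g = T m t := by
  have h20 := two_zero hF
  set M : Matrix (Fin 4) (Fin 4) F := g.1 with hM
  have hdet : M.det = 1 := g.2
  have hs : (0 : F) ^ (2 ^ (m + 1)) = 0 := zero_pow (by positivity)
  -- first column
  have hc0 : M 1 0 = 0 ∧ M 2 0 = 0 ∧ M 3 0 = 0 := by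
    rw [pinf_eq, Projectivization.smul_mk, Projectivization.mk_eq_mk_iff'] at h1
    obtain ⟨a, ha⟩ := h1
    have hv : a • ![(1 : F), 0, 0, 0] = M.mulVec ![1, 0, 0, 0] := ha
    have h1' := congrFun hv 1
    have h2' := congrFun hv 2
    have h3' := congrFun hv 3
    simp [Matrix.mulVec, dotProduct, Fin.sum_univ_four] at h1' h2' h3'
    exact ⟨h1'.symm, h2'.symm, h3'.symm⟩
  -- last column
  have hc3 : M 0 3 = 0 ∧ M 1 3 = 0 ∧ M 2 3 = 0 := by
    rw [pt, Projectivization.smul_mk, Projectivization.mk_eq_mk_iff'] at h2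
    obtain ⟨a, ha⟩ := h2
    have hv : a • ptv m (0 : F) 0 = M.mulVec (ptv m (0 : F) 0) := ha
    have h0' := congrFun hv 0
    have h1' := congrFun hv 1
    have h2' := congrFun hv 2
    simp [Matrix.mulVec, dotProduct, Fin.sum_univ_four, ptv, ovf, hs] at h0' h1' h2'
    exact ⟨h0'.symm, h1'.symm, h2'.symm⟩
  obtain ⟨h10, h20', h30⟩ := hc0
  obtain ⟨h03, h13, h23⟩ := hc3
  -- images of the affine points
  have himg : ∀ x y : F, ∃ (c x' y' : F), c ≠ 0 ∧ M.mulVec (ptv m x y) = c • ptv m x' y' := by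
    intro x y
    have hmem : g • pt m x y ∈ Cfsg.suzukiOvoid F m := by
      have : pt m x y ∈ Cfsg.suzukiOvoid F m := (mem_ovoid _).mpr (Or.inr ⟨x, y, rfl⟩)
      have h3 := (mem_Sz_iff g).mp hg
      rw [← h3]
      exact Set.smul_mem_smul_set this
    rcases (mem_ovoid _).mp hmem with h4 | ⟨x', y', h4⟩
    · exfalso
      rw [← h1] at h4
      exact pt_ne_pinf x y (MulAction.injective g h4)
    · rw [pt, Projectivization.smul_mk, pt, Projectivization.mk_eq_mk_iff'] at h4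
      obtain ⟨a, ha⟩ := h4
      have hv : a • ptv m x' y' = M.mulVec (ptv m x y) := ha
      refine ⟨a, x', y', ?_, hv.symm⟩
      rintro rfl
      have h5 : g.1.mulVec (ptv m x y) = 0 := by
        rw [← hM, ← hv, zero_smul]
      have h6 : ptv m x y = 0 := by
        have hu : IsUnit g.1.det := by rw [g.2]; exact isUnit_one
        exact Matrix.eq_zero_of_mulVec_eq_zero (by rw [g.2]; exact one_ne_zero) h5
      exact ptv_ne_zero x y h6
  have hcoord : ∀ x y : F, ∃ (c x' y' : F), c ≠ 0 ∧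
      M 3 1 * y + M 3 2 * x + M 3 3 = c ∧
      M 2 1 * y + M 2 2 * x = c * x' ∧
      M 1 1 * y + M 1 2 * x = c * y' ∧
      M 0 0 * ovf m x y + M 0 1 * y + M 0 2 * x = c * ovf m x' y' := by
    intro x y
    obtain ⟨c, x', y', hc, hv⟩ := himg x y
    refine ⟨c, x', y', hc, ?_, ?_, ?_, ?_⟩
    · have := congrFun hv 3
      simpa [Matrix.mulVec, dotProduct, Fin.sum_univ_four, ptv, h30] using this
    · have := congrFun hv 2
      simpa [Matrix.mulVec, dotProduct, Fin.sum_univ_four, ptv, h20', h23] using this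
    · have := congrFun hv 1
      simpa [Matrix.mulVec, dotProduct, Fin.sum_univ_four, ptv, h10, h13] using this
    · have := congrFun hv 0
      simpa [Matrix.mulVec, dotProduct, Fin.sum_univ_four, ptv, h03] using this
  set μ := M 3 3 with hμ
  have hμ0 : μ ≠ 0 := by
    obtain ⟨c, x', y', hc, h3, -, -, -⟩ := hcoord 0 0
    simp only [mul_zero, zero_add] at h3
    rwa [h3]
  have h31 : M 3 1 = 0 := by
    by_contra hne
    obtain ⟨c, x', y', hc, h3, -, -, -⟩ := hcoord 0 (μ / M 3 1)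
    apply hc
    rw [← h3]
    field_simp
    grind
  have h32 : M 3 2 = 0 := by
    by_contra hne
    obtain ⟨c, x', y', hc, h3, -, -, -⟩ := hcoord (μ / M 3 2) 0
    apply hc
    rw [← h3]
    field_simp
    grind
  have heq : ∀ x y : F, (M 0 0 / μ) * ovf m x y + (M 0 1 / μ) * y + (M 0 2 / μ) * x =
      ovf m ((M 2 2 / μ) * x + (M 2 1 / μ) * y) ((M 1 2 / μ) * x + (M 1 1 / μ) * y) := by
    intro x y
    obtain ⟨c, x', y', hc, h3, h4, h5, h6⟩ := hcoord x y
    rw [h31, h32] at h3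
    have hc2 : c = μ := by rw [← h3]; ring
    rw [hc2] at h4 h5 h6
    have e1 : (M 2 2 / μ) * x + (M 2 1 / μ) * y = x' := by
      field_simp
      linear_combination h4
    have e2 : (M 1 2 / μ) * x + (M 1 1 / μ) * y = y' := by
      field_simp
      linear_combination h5
    rw [e1, e2]
    field_simp
    linear_combination h6
  obtain ⟨hP, hQ, hB, hC, hL1, hL2, hL3⟩ := key_coeffs hF hm _ _ _ _ _ _ _ heq
  have h01 : M 0 1 = 0 := by
    rcases div_eq_zero_iff.mp hP with h | h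
    · exact h
    · exact absurd h hμ0
  have h02 : M 0 2 = 0 := by
    rcases div_eq_zero_iff.mp hQ with h | h
    · exact h
    · exact absurd h hμ0
  have h21 : M 2 1 = 0 := by
    rcases div_eq_zero_iff.mp hB with h | h
    · exact h
    · exact absurd h hμ0
  have h12 : M 1 2 = 0 := by
    rcases div_eq_zero_iff.mp hC with h | h
    · exact h
    · exact absurd h hμ0
  -- the determinant of the now diagonal matrix
  have hd : M 0 0 * M 1 1 * M 2 2 * μ = 1 := by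
    rw [← hdet, det_upper]
    intro i j hij
    fin_cases i <;> fin_cases j <;> first
      | (exact absurd hij (by decide))
      | simp [h10, h20', h30, h21, h31, h32]
  have hA0 : M 2 2 ≠ 0 := by
    intro h
    rw [h] at hd
    simp at hd
  have hD0 : M 1 1 ≠ 0 := by
    intro h
    rw [h] at hd
    simp at hd
  set t : F := M 2 2 / μ with ht
  have ht0 : t ≠ 0 := div_ne_zero hA0 hμ0
  set D : F := M 1 1 / μ with hDdef
  set L : F := M 0 0 / μ with hLdef
  have hDt : D = t ^ (2 ^ (m + 1)) * t := by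
    have : t * D = t * (t ^ (2 ^ (m + 1)) * t) := by
      rw [← hL1, hL2]; ring
    exact mul_left_cancel₀ ht0 this
  have hLt : L = t ^ (2 ^ (m + 1)) * t ^ 2 := hL2
  have e22 : M 2 2 = μ * t := by rw [ht]; field_simp
  have e11 : M 1 1 = μ * D := by rw [hDdef]; field_simp
  have e00 : M 0 0 = μ * L := by rw [hLdef]; field_simp
  have hsig : (2 : ℕ) ^ (m + 1) = 2 * 2 ^ m := by ring
  set r := 2 ^ m with hr
  have hfour : (μ * t ^ (r + 1)) ^ 4 = 1 := by
    have hd2 := hd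
    rw [e00, e11, e22, hLt, hDt, hsig] at hd2
    rw [← hd2]
    ring
  have hroot := four_root hF hfour
  have hμt : μ = (t ^ (r + 1))⁻¹ := eq_inv_of_mul_eq_one_left hroot
  have htr : t ^ r ≠ 0 := pow_ne_zero _ ht0
  have htr1 : t ^ (r + 1) ≠ 0 := pow_ne_zero _ ht0
  refine ⟨Units.mk0 t ht0, ?_⟩
  apply Subtype.ext
  show M = Tm m t
  have hT00 : M 0 0 = t ^ (r + 1) := by
    rw [e00, hLt, hμt, hsig]
    field_simp
    ring
  have hT11 : M 1 1 = t ^ r := by
    rw [e11, hDt, hμt, hsig]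
    field_simp
    ring
  have hT22 : M 2 2 = (t ^ r)⁻¹ := by
    rw [e22, hμt]
    field_simp
    ring
  ext i j
  fin_cases i <;> fin_cases j <;>
    simp [Tm, ← hr, h10, h20', h30, h01, h02, h03, h13, h21, h23, h31, h32, h12, hT00, hT11, hT22, ← hμ, hμt]

/-- A point of the ovoid distinct from infinity is affine. -/
theorem ovoid_smul_ne (hF : Fintype.card F = 2 ^ (2 * m + 1)) {g : Matrix.SpecialLinearGroup (Fin 4) F}
    (hg : g ∈ Cfsg.Sz F m) {p : Projectivization F (Fin 4 → F)} (hp : p ∈ Cfsg.suzukiOvoid F m) :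
    g • p ∈ Cfsg.suzukiOvoid F m := by
  have h3 := (mem_Sz_iff g).mp hg
  rw [← h3]
  exact Set.smul_mem_smul_set hp

omit [Fintype F] in
theorem pt_mem (x y : F) : pt m x y ∈ Cfsg.suzukiOvoid F m := (mem_ovoid _).mpr (Or.inr ⟨x, y, rfl⟩)

omit [Fintype F] in
theorem pinf_mem : pinf F ∈ Cfsg.suzukiOvoid F m := (mem_ovoid _).mpr (Or.inl rfl)

theorem U_smul_pt_zero (hF : Fintype.card F = 2 ^ (2 * m + 1)) (a b : F) :
    U m a b • pt m (0 : F) 0 = pt m a b := by
  rw [U_smul_pt hF]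
  simp

/-- Elements fixing infinity factor as `U T`. -/
theorem exists_U_T (hF : Fintype.card F = 2 ^ (2 * m + 1)) (hm : 1 ≤ m)
    {g : Matrix.SpecialLinearGroup (Fin 4) F} (hg : g ∈ Cfsg.Sz F m) (h1 : g • pinf F = pinf F) :
    ∃ (a b : F) (t : Fˣ), g = U m a b * T m t := by
  have hmem := ovoid_smul_ne hF hg (pt_mem (m := m) (0 : F) 0)
  rcases (mem_ovoid _).mp hmem with h4 | ⟨x, y, h4⟩
  · exfalso
    rw [← h1] at h4
    exact pt_ne_pinf _ _ (MulAction.injective g h4)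
  · have hU := U_mem hF x y
    have hg' : (U m x y)⁻¹ * g ∈ Cfsg.Sz F m := mul_mem (inv_mem hU) hg
    obtain ⟨t, ht⟩ := eq_T_of_fix hF hm hg'
      (by
        rw [mul_smul, h1, inv_smul_eq_iff, U_smul_pinf])
      (by
        rw [mul_smul, h4, inv_smul_eq_iff, U_smul_pt_zero hF])
    refine ⟨x, y, t, ?_⟩
    rw [← ht]
    group

/-- The Bruhat decomposition. -/
theorem bruhat (hF : Fintype.card F = 2 ^ (2 * m + 1)) (hm : 1 ≤ m)
    {g : Matrix.SpecialLinearGroup (Fin 4) F} (hg : g ∈ Cfsg.Sz F m) :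
    (∃ (a b : F) (t : Fˣ), g = U m a b * T m t) ∨
      ∃ (x y a b : F) (t : Fˣ), g = U m x y * W F * (U m a b * T m t) := by
  have hmem := ovoid_smul_ne hF hg (pinf_mem (m := m) (F := F))
  rcases (mem_ovoid _).mp hmem with h4 | ⟨x, y, h4⟩
  · exact Or.inl (exists_U_T hF hm hg h4)
  · right
    have hU := U_mem hF x y
    have hW := W_mem hF hm
    have hk : U m x y * W F ∈ Cfsg.Sz F m := mul_mem hU hW
    have hg' : (U m x y * W F)⁻¹ * g ∈ Cfsg.Sz F m := mul_mem (inv_mem hk) hg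
    obtain ⟨a, b, t, ht⟩ := exists_U_T hF hm hg'
      (by
        rw [mul_smul, h4, inv_smul_eq_iff, mul_smul, W_smul_pinf hm, U_smul_pt_zero hF])
    refine ⟨x, y, a, b, t, ?_⟩
    rw [← ht]
    group

theorem T_inj (hF : Fintype.card F = 2 ^ (2 * m + 1)) {s t : Fˣ} (h : T m s = T m t) : s = t := by
  have h1 := T_smul_pt hF s (1 : F) 0
  rw [h, T_smul_pt hF t] at h1
  have := (pt_inj h1).1
  apply Units.ext
  simpa using this.symm

/-- Uniqueness of the factorisation `U T`. -/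
theorem UT_inj (hF : Fintype.card F = 2 ^ (2 * m + 1)) (hm : 1 ≤ m) {a b a' b' : F} {s t : Fˣ}
    (h : U m a b * T m s = U m a' b' * T m t) : a = a' ∧ b = b' ∧ s = t := by
  have h1 : (U m a b * T m s) • pt m (0 : F) 0 = (U m a' b' * T m t) • pt m (0 : F) 0 := by rw [h]
  have hT0 : ∀ u : Fˣ, T m u • pt m (0 : F) 0 = pt m (0 : F) 0 := by
    intro u
    rw [T_smul_pt hF]
    simp
  rw [mul_smul, mul_smul, hT0, hT0, U_smul_pt_zero hF, U_smul_pt_zero hF] at h1
  obtain ⟨rfl, rfl⟩ := pt_inj h1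
  refine ⟨rfl, rfl, ?_⟩
  exact T_inj hF (mul_left_cancel h)

theorem U_inj (hF : Fintype.card F = 2 ^ (2 * m + 1)) {a b a' b' : F}
    (h : U m a b = U m a' b') : a = a' ∧ b = b' := by
  have h1 := U_smul_pt_zero hF a b
  rw [h, U_smul_pt_zero hF] at h1
  obtain ⟨h2, h3⟩ := pt_inj h1
  exact ⟨h2.symm, h3.symm⟩

end Cfsg.Agent.Lib.Suzuki
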