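import Cfsg.Agent.Lib.Suzuki.SubTwo

/-! Subgroups of the Suzuki group with several involutions at a point are subfield subgroups. -/

set_option autoImplicit false

namespace Cfsg.Agent.Lib.Suzuki

open Finset

section algebra

variable {F : Type*} [Field F]

/-- Hua's identity in characteristic two. -/
theorem hua_char_two (h2 : (2 : F) = 0) {x y : F} (hx : x ≠ 0) (hy : y ≠ 0) (hxy : x * y ≠ 1) :
    y⁻¹ + x ≠ 0 ∧ x⁻¹ + (y⁻¹ + x)⁻¹ ≠ 0 ∧ (x⁻¹ + (y⁻¹ + x)⁻¹)⁻¹ = x + x ^ 2 * y := by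
  have hc : 1 + x * y ≠ 0 := by
    intro h
    apply hxy
    grind
  have e1 : y⁻¹ + x = (1 + x * y) / y := by
    field_simp
  have e1' : y⁻¹ + x ≠ 0 := by
    rw [e1]
    exact div_ne_zero hc hy
  have e2 : x⁻¹ + (y⁻¹ + x)⁻¹ = 1 / (x * (1 + x * y)) := by
    rw [e1, inv_div]
    field_simp
    grind
  refine ⟨e1', ?_, ?_⟩
  · rw [e2]
    exact div_ne_zero one_ne_zero (mul_ne_zero hx hc)
  · rw [e2, one_div, inv_inv]
    ring

end algebra

variable {F : Type*} [Field F] [Fintype F] {m : ℕ}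
variable (hF : Fintype.card F = 2 ^ (2 * m + 1)) (hm : 1 ≤ m)

/-- The data of a subfield subgroup. -/
structure SubData (hF : Fintype.card F = 2 ^ (2 * m + 1)) (hm : 1 ≤ m) (M : Subgroup (Cfsg.Sz F m)) (L : Subfield F) : Prop where
  hu : ∀ a b : F, a ∈ L → b ∈ L → uG hF a b ∈ M
  ht : ∀ t : Fˣ, (t : F) ∈ L → tG hF t ∈ M
  hw : wG hF hm ∈ M
  hform : ∀ g ∈ M, (∃ (a b : F) (t : Fˣ), a ∈ L ∧ b ∈ L ∧ (t : F) ∈ L ∧ g = uG hF a b * tG hF t) ∨
    (∃ (x y a b : F) (t : Fˣ), x ∈ L ∧ y ∈ L ∧ a ∈ L ∧ b ∈ L ∧ (t : F) ∈ L ∧ g = uG hF x y * wG hF hm * (uG hF a b * tG hF t))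

include hF hm

theorem exists_subfield (M : Subgroup (Cfsg.Sz F m)) (hw : wG hF hm ∈ M)
    (hΔ : ∀ τ ∈ M, τ * τ = 1 → τ ≠ 1 → ∃ k ∈ M, τ • (k • pinf F) = k • pinf F)
    {b₀ b₁ : F} (hb₀ : uG hF 0 b₀ ∈ M) (hb₁ : uG hF 0 b₁ ∈ M) (hb₀0 : b₀ ≠ 0) (hb₁0 : b₁ ≠ 0) (hb₀₁ : b₀ ≠ b₁) :
    ∃ L : Subfield F, SubData hF hm M L ∧ b₀ ∈ L ∧ b₁ ∈ L ∧ (∀ b, uG hF 0 b ∈ M → b ∈ L) := by
  classical
  have h2 := two_zero hF
  have hreg := @regular F _ _ m hF hm M hw hΔ b₀ b₁ hb₀ hb₁ hb₀0 hb₁0 hb₀₁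
  have hsg0 : (0 : F) ^ (2 ^ (m + 1)) = 0 := sg_zero
  -- basic closure of `A`
  have hadd : ∀ x y, uG hF 0 x ∈ M → uG hF 0 y ∈ M → uG hF 0 (x + y) ∈ M := by
    intro x y hx hy
    have := M.mul_mem hx hy
    rw [uG_mul] at this
    simpa [hsg0] using this
  have hzero : uG hF (0 : F) 0 ∈ M := by
    rw [uG_zero hF hm]
    exact M.one_mem
  -- the key move
  have hmove : ∀ b, uG hF 0 b ∈ M → b ≠ 0 → uG hF (b / b ^ (2 ^ (m + 1))) 0 ∈ M := by
    intro b hb hb0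
    have hg : wG hF hm * uG hF 0 b * wG hF hm ∈ M := M.mul_mem (M.mul_mem hw hb) hw
    have hf : ovf m (0 : F) b = b ^ (2 ^ (m + 1)) := by
      simp [ovf, hsg0]
    have hp : (wG hF hm * uG hF 0 b * wG hF hm) • pinf F = pt m (b / b ^ (2 ^ (m + 1))) 0 := by
      simp only [mul_smul]
      rw [wG_smul_pinf hF hm, uG_smul_pt_zero hF, wG_smul_pt hF hm (fun h => hb0 h.2), hf]
      simp
    exact hreg hg hp
  have hinv : ∀ b, uG hF 0 b ∈ M → b ≠ 0 → uG hF 0 b⁻¹ ∈ M := by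
    intro b hb hb0
    have h1 := hmove b hb hb0
    have h3 := M.mul_mem h1 h1
    rw [uG_sq hF] at h3
    have e : (b / b ^ (2 ^ (m + 1))) ^ (2 ^ (m + 1)) * (b / b ^ (2 ^ (m + 1))) = b⁻¹ := by
      rw [div_pow, sg_sg hF]
      have h4 : b ^ (2 ^ (m + 1)) ≠ 0 := pow_ne_zero _ hb0
      field_simp
    rwa [e] at h3
  -- Hua
  have hhua : ∀ x y, uG hF 0 x ∈ M → uG hF 0 y ∈ M → x ≠ 0 → y ≠ 0 → uG hF 0 (x ^ 2 * y) ∈ M := by
    intro x y hx hy hx0 hy0
    by_cases hxy : x * y = 1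
    · have : x ^ 2 * y = x := by
        rw [pow_two, mul_assoc, hxy, mul_one]
      rwa [this]
    · obtain ⟨e1, e2, e3⟩ := hua_char_two h2 hx0 hy0 hxy
      have h3 := hadd _ _ (hinv y hy hy0) hx
      have h4 := hinv _ h3 e1
      have h5 := hadd _ _ (hinv x hx hx0) h4
      have h6 := hinv _ h5 e2
      rw [e3] at h6
      have h7 := hadd _ _ h6 hx
      have e4 : x + x ^ 2 * y + x = x ^ 2 * y := by grind
      rwa [e4] at h7
  have hmul : ∀ x y, uG hF 0 x ∈ M → uG hF 0 y ∈ M → uG hF 0 (x * y) ∈ M := by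
    intro x y hx hy
    by_cases hx0 : x = 0
    · subst hx0
      rwa [zero_mul]
    by_cases hy0 : y = 0
    · subst hy0
      rwa [mul_zero]
    have h3 : ∀ n : ℕ, uG hF 0 ((x ^ 2) ^ n * y) ∈ M := by
      intro n
      induction n with
      | zero => simpa using hy
      | succ n ih =>
        have := hhua x _ hx ih hx0 (mul_ne_zero (pow_ne_zero _ (pow_ne_zero _ hx0)) hy0)
        have e : x ^ 2 * ((x ^ 2) ^ n * y) = (x ^ 2) ^ (n + 1) * y := by ring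
        rwa [e] at this
    have h4 := h3 (2 ^ (2 * m))
    have e : (x ^ 2) ^ (2 ^ (2 * m)) = x := by
      rw [← pow_mul, ← pow_succ']
      have : 2 * m + 1 = 2 * m + 1 := rfl
      rw [show 2 ^ (2 * m + 1) = Fintype.card F from hF.symm, FiniteField.pow_card]
    rwa [e] at h4
  -- the subfield
  have hone : uG hF (0 : F) 1 ∈ M := by
    have := hmul _ _ hb₀ (hinv b₀ hb₀ hb₀0)
    rwa [mul_inv_cancel₀ hb₀0] at this
  let L : Subfield F :=
    { carrier := {b | uG hF 0 b ∈ M}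
      mul_mem' := fun {x y} hx hy => hmul x y hx hy
      one_mem' := hone
      add_mem' := fun {x y} hx hy => hadd x y hx hy
      zero_mem' := hzero
      neg_mem' := fun {x} hx => by
        have : -x = x := by grind
        show uG hF 0 (-x) ∈ M
        rw [this]
        exact hx
      inv_mem' := fun x hx => by
        by_cases hx0 : x = 0
        · subst hx0
          show uG hF 0 (0 : F)⁻¹ ∈ M
          rwa [inv_zero]
        · exact hinv x hx hx0 }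
  have hL : ∀ b, b ∈ L ↔ uG hF 0 b ∈ M := fun b => Iff.rfl
  -- the elements of `L` occur as first coordinates
  have hsgsg : ∀ a : F, (a ^ (2 ^ (m + 1))) ^ (2 ^ (m + 1)) = a ^ 2 := sg_sg hF
  have hfirst : ∀ a ∈ L, uG hF a 0 ∈ M := by
    intro a ha
    by_cases ha0 : a = 0
    · subst ha0
      exact hzero
    set b := (a ^ (2 ^ (m + 1)) * a)⁻¹ with hb
    have hb0 : b ≠ 0 := inv_ne_zero (mul_ne_zero (pow_ne_zero _ ha0) ha0)
    have hbL : b ∈ L := L.inv_mem (L.mul_mem (L.pow_mem ha _) ha)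
    have h3 := hmove b hbL hb0
    have e : b / b ^ (2 ^ (m + 1)) = a := by
      rw [hb, inv_pow, mul_pow, hsgsg]
      have h4 : a ^ (2 ^ (m + 1)) ≠ 0 := pow_ne_zero _ ha0
      field_simp
    rwa [e] at h3
  have hroot : ∀ a : F, a ≠ 0 → a ^ (2 ^ (m + 1)) * a ∈ L → a ∈ L := by
    intro a ha0 hv
    have h3 := L.div_mem (L.pow_mem hv (2 ^ (m + 1))) hv
    have e : (a ^ (2 ^ (m + 1)) * a) ^ (2 ^ (m + 1)) / (a ^ (2 ^ (m + 1)) * a) = a := by
      rw [mul_pow, hsgsg]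
      have h4 : a ^ (2 ^ (m + 1)) ≠ 0 := pow_ne_zero _ ha0
      field_simp
    rwa [e] at h3
  have hcoord : ∀ a b, uG hF a b ∈ M → a ∈ L ∧ b ∈ L := by
    intro a b hab
    have h3 := M.mul_mem hab hab
    rw [uG_sq hF] at h3
    have ha : a ∈ L := by
      by_cases ha0 : a = 0
      · subst ha0
        exact L.zero_mem
      · exact hroot a ha0 h3
    refine ⟨ha, ?_⟩
    have h4 := M.mul_mem (M.inv_mem (hfirst a ha)) hab
    have e : (uG hF a 0)⁻¹ * uG hF a b = uG hF 0 b := by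
      rw [inv_mul_eq_iff_eq_mul, uG_mul]
      congr 1 <;> simp
    rwa [e] at h4
  have htor : ∀ t : Fˣ, tG hF t ∈ M → (t : F) ∈ L := by
    intro t ht
    have h3 := M.mul_mem (M.mul_mem ht hone) (M.inv_mem ht)
    rw [tG_conj hF hm] at h3
    simp only [mul_zero, mul_one] at h3
    -- `t ^ (σ + 1)`
    have h4 : (t : F) ^ (2 ^ (m + 1)) * (t : F) ∈ L := by
      have : (t : F) ^ (2 ^ (m + 1) + 1) = (t : F) ^ (2 ^ (m + 1)) * (t : F) := pow_succ _ _
      rw [← this]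
      exact h3
    exact hroot _ t.ne_zero h4
  -- counting the torus
  haveI := finite_Sz hF hm
  haveI : Fintype (Cfsg.Sz F m) := Fintype.ofFinite _
  have hA := ax_Sz hF hm
  let x₀ : Cfsg.suzukiOvoid F m := ⟨pinf F, pinf_mem⟩
  have hΔ' : ∀ τ ∈ M, τ * τ = 1 → τ ≠ 1 → ∃ k ∈ M, τ • (k • x₀) = k • x₀ := by
    intro τ h1 h3 h4
    obtain ⟨k, hk, hf⟩ := hΔ τ h1 h3 h4
    exact ⟨k, hk, Subtype.ext hf⟩
  have hq1 : uG hF (0 : F) b₀ ≠ 1 := by
    rw [← uG_zero hF hm]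
    intro e
    exact hb₀0 (uG_inj hF e).2
  have hτ : uG hF (0 : F) b₀ * uG hF (0 : F) b₀ = 1 := (sq_one_iff hF hm 0 b₀).mpr rfl
  have hτx : uG hF (0 : F) b₀ • x₀ = x₀ := Subtype.ext (uG_smul_pinf hF 0 b₀)
  have hne : wG hF hm • x₀ ≠ x₀ := by
    intro e
    have h3 : wG hF hm • pinf F = pinf F := congrArg Subtype.val e
    rw [wG_smul_pinf hF hm] at h3
    exact pt_ne_pinf _ _ h3
  have hcard := ZT.stab_card' hA M x₀ hΔ' hb₀ hτ hq1 hτx hw hne
  have hc1 : Nat.card {g : Cfsg.Sz F m // g ∈ M ∧ g * g = 1 ∧ g ≠ 1 ∧ g • x₀ = x₀} =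
      (univ.filter (fun b : F => b ≠ 0 ∧ uG hF 0 b ∈ M)).card := by
    rw [Nat.card_eq_fintype_card, Fintype.card_subtype]
    symm
    apply Finset.card_bij (fun b _ => uG hF 0 b)
    · intro b hb
      obtain ⟨-, h1, h3⟩ := mem_filter.mp hb
      refine mem_filter.mpr ⟨mem_univ _, h3, (sq_one_iff hF hm 0 b).mpr rfl, ?_, Subtype.ext (uG_smul_pinf hF 0 b)⟩
      rw [← uG_zero hF hm]
      intro e
      exact h1 (uG_inj hF e).2
    · intro x _ y _ h
      exact (uG_inj hF h).2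
    · intro g' hg'
      obtain ⟨-, h1, h3, h4, h5⟩ := mem_filter.mp hg'
      obtain ⟨c, hc, rfl⟩ := inv_at_pinf hF hm h3 h4 (congrArg Subtype.val h5)
      exact ⟨c, mem_filter.mpr ⟨mem_univ _, hc, h1⟩, rfl⟩
  have hc2 : Nat.card {g : Cfsg.Sz F m // g ∈ M ∧ g • x₀ = x₀ ∧ g • (wG hF hm • x₀) = wG hF hm • x₀} =
      (univ.filter (fun t : Fˣ => tG hF t ∈ M)).card := by
    rw [Nat.card_eq_fintype_card, Fintype.card_subtype]
    symm
    apply Finset.card_bij (fun t _ => tG hF t)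
    · intro t ht
      obtain ⟨-, h1⟩ := mem_filter.mp ht
      refine mem_filter.mpr ⟨mem_univ _, h1, Subtype.ext (tG_smul_pinf hF t), Subtype.ext ?_⟩
      show tG hF t • (wG hF hm • pinf F) = wG hF hm • pinf F
      rw [wG_smul_pinf hF hm]
      exact tG_smul_pt_zero hF t
    · intro x _ y _ h
      exact tG_inj hF h
    · intro g' hg'
      obtain ⟨-, h1, h3, h4⟩ := mem_filter.mp hg'
      have h5 : g' • pinf F = pinf F := congrArg Subtype.val h3
      have h6 : g' • (wG hF hm • pinf F) = wG hF hm • pinf F := congrArg Subtype.val h4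
      rw [wG_smul_pinf hF hm] at h6
      obtain ⟨t, rfl⟩ := (fix_two_iff hF hm g').mp ⟨h5, h6⟩
      exact ⟨t, mem_filter.mpr ⟨mem_univ _, h1⟩, rfl⟩
  rw [hc1, hc2] at hcard
  have hc3 : (univ.filter (fun t : Fˣ => (t : F) ∈ L)).card = (univ.filter (fun b : F => b ≠ 0 ∧ uG hF 0 b ∈ M)).card := by
    apply Finset.card_bij (fun (t : Fˣ) _ => (t : F))
    · intro t ht
      exact mem_filter.mpr ⟨mem_univ _, t.ne_zero, (mem_filter.mp ht).2⟩
    · intro x _ y _ h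
      exact Units.ext h
    · intro b hb
      obtain ⟨-, h1, h3⟩ := mem_filter.mp hb
      exact ⟨Units.mk0 b h1, mem_filter.mpr ⟨mem_univ _, h3⟩, rfl⟩
  have hTeq : univ.filter (fun t : Fˣ => tG hF t ∈ M) = univ.filter (fun t : Fˣ => (t : F) ∈ L) := by
    apply Finset.eq_of_subset_of_card_le
    · intro t ht
      exact mem_filter.mpr ⟨mem_univ _, htor t (mem_filter.mp ht).2⟩
    · rw [hc3, hcard]
  have hT' : ∀ t : Fˣ, (t : F) ∈ L → tG hF t ∈ M := by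
    intro t ht
    have : t ∈ univ.filter (fun t : Fˣ => (t : F) ∈ L) := mem_filter.mpr ⟨mem_univ _, ht⟩
    rw [← hTeq] at this
    exact (mem_filter.mp this).2
  have hU' : ∀ a b, a ∈ L → b ∈ L → uG hF a b ∈ M := by
    intro a b ha hb
    have e : uG hF a b = uG hF a 0 * uG hF 0 b := by
      rw [uG_mul]
      congr 1 <;> simp
    rw [e]
    exact M.mul_mem (hfirst a ha) hb
  -- the Borel part
  have hBorel : ∀ g ∈ M, g • pinf F = pinf F → ∃ (a b : F) (t : Fˣ), a ∈ L ∧ b ∈ L ∧ (t : F) ∈ L ∧ g = uG hF a b * tG hF t := by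
    intro g hg hfix
    obtain ⟨a, b, t, rfl⟩ := (fix_pinf_iff hF hm _).mp hfix
    have hg2 : (uG hF a b * tG hF t) * wG hF hm ∈ M := M.mul_mem hg hw
    have hp : ((uG hF a b * tG hF t) * wG hF hm) • pinf F = pt m a b := by
      simp only [mul_smul]
      rw [wG_smul_pinf hF hm, tG_smul_pt_zero hF, uG_smul_pt_zero hF]
    have hu := hreg hg2 hp
    obtain ⟨ha, hb⟩ := hcoord a b hu
    have ht : tG hF t ∈ M := by
      have := M.mul_mem (M.inv_mem hu) hg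
      rwa [inv_mul_cancel_left] at this
    exact ⟨a, b, t, ha, hb, htor t ht, rfl⟩
  refine ⟨L, ⟨hU', hT', hw, ?_⟩, hb₀, hb₁, fun b hb => hb⟩
  intro g hg
  by_cases hfix : g • pinf F = pinf F
  · exact Or.inl (hBorel g hg hfix)
  · right
    rcases (mem_ovoid _).mp (smul_mem_ovoid hF g (pinf_mem (m := m))) with h3 | ⟨x, y, h3⟩
    · exact absurd h3 hfix
    have hu := hreg hg h3
    obtain ⟨hx, hy⟩ := hcoord x y hu
    have hg2 : wG hF hm * ((uG hF x y)⁻¹ * g) ∈ M := M.mul_mem hw (M.mul_mem (M.inv_mem hu) hg)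
    have hp : (wG hF hm * ((uG hF x y)⁻¹ * g)) • pinf F = pinf F := by
      simp only [mul_smul]
      rw [h3, ← uG_smul_pt_zero hF x y, inv_smul_smul, wG_smul_pt_zero hF hm]
    obtain ⟨a, b, t, ha, hb, ht, e⟩ := hBorel _ hg2 hp
    refine ⟨x, y, a, b, t, hx, hy, ha, hb, ht, ?_⟩
    rw [← e]
    have hww : wG hF hm * wG hF hm = 1 := wG_sq hF hm
    calc g = uG hF x y * (wG hF hm * wG hF hm) * ((uG hF x y)⁻¹ * g) := by rw [hww]; group
      _ = _ := by group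

end Cfsg.Agent.Lib.Suzuki
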