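import Cfsg.Agent.Lib.Suzuki.Odd

/-! Subgroups of the Suzuki group in which the involutions at a point are unique. -/

set_option autoImplicit false

namespace Cfsg.Agent.Lib.Suzuki

open Finset

variable {F : Type*} [Field F] [Fintype F] {m : ℕ}
variable (hF : Fintype.card F = 2 ^ (2 * m + 1)) (hm : 1 ≤ m)
include hF hm

/-- If there is a unique involution at a point, the subgroup normalises a torus. -/
theorem case_one (M : Subgroup (Cfsg.Sz F m)) (x₀ : Cfsg.suzukiOvoid F m)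
    (hΔ : ∀ τ ∈ M, τ * τ = 1 → τ ≠ 1 → ∃ m' ∈ M, τ • (m' • x₀) = m' • x₀)
    {τ₀ : Cfsg.Sz F m} (hτM : τ₀ ∈ M) (hτ : τ₀ * τ₀ = 1) (hτ1 : τ₀ ≠ 1) (hτx : τ₀ • x₀ = x₀)
    (huniq : ∀ τ ∈ M, τ * τ = 1 → τ ≠ 1 → τ • x₀ = x₀ → τ = τ₀)
    {m₁ : Cfsg.Sz F m} (hm₁ : m₁ ∈ M) (hne : m₁ • x₀ ≠ x₀) :
    ∃ g : Cfsg.Sz F m, g ≠ 1 ∧ ¬ 2 ∣ orderOf g ∧
      M ≤ Subgroup.normalizer ((Subgroup.centralizer ({g} : Set (Cfsg.Sz F m)) : Subgroup (Cfsg.Sz F m)) : Set (Cfsg.Sz F m)) := by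
  classical
  haveI := finite_Sz hF hm
  haveI : Fintype (Cfsg.Sz F m) := Fintype.ofFinite _
  have hA := ax_Sz hF hm
  have hi : Nat.card {g : Cfsg.Sz F m // g ∈ M ∧ g * g = 1 ∧ g ≠ 1 ∧ g • x₀ = x₀} = 1 := by
    rw [Nat.card_eq_one_iff_unique]
    refine ⟨⟨?_⟩, ⟨⟨τ₀, hτM, hτ, hτ1, hτx⟩⟩⟩
    rintro ⟨a, h1, h2, h3, h4⟩ ⟨b, h5, h6, h7, h8⟩
    exact Subtype.ext ((huniq a h1 h2 h3 h4).trans (huniq b h5 h6 h7 h8).symm)
  -- involutions at arbitrary points
  have hconj_inv : ∀ k : Cfsg.Sz F m, (k * τ₀ * k⁻¹) * (k * τ₀ * k⁻¹) = 1 := by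
    intro k
    have : (k * τ₀ * k⁻¹) * (k * τ₀ * k⁻¹) = k * (τ₀ * τ₀) * k⁻¹ := by group
    rw [this, hτ]
    group
  have hconj_ne : ∀ k : Cfsg.Sz F m, k * τ₀ * k⁻¹ ≠ 1 := by
    intro k
    simpa [conj_eq_one_iff] using hτ1
  have hconj_fix : ∀ k : Cfsg.Sz F m, (k * τ₀ * k⁻¹) • (k • x₀) = k • x₀ := by
    intro k
    simp only [mul_smul, inv_smul_smul, hτx]
  have huniq' : ∀ k ∈ M, ∀ τ ∈ M, τ * τ = 1 → τ ≠ 1 → τ • (k • x₀) = k • x₀ → τ = k * τ₀ * k⁻¹ := by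
    intro k hk τ h1 h2 h3 h4
    have e1 : k⁻¹ * τ * k = τ₀ := by
      apply huniq
      · exact M.mul_mem (M.mul_mem (M.inv_mem hk) h1) hk
      · have : k⁻¹ * τ * k * (k⁻¹ * τ * k) = k⁻¹ * (τ * τ) * k := by group
        rw [this, h2]
        group
      · intro e
        apply h3
        have : τ = k * (k⁻¹ * τ * k) * k⁻¹ := by group
        rw [this, e]
        group
      · rw [mul_smul, mul_smul, h4, inv_smul_smul]
    rw [← e1]
    group
  -- the two point stabilisers are trivial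
  have h2pt : ∀ g ∈ M, ∀ a ∈ M, ∀ b ∈ M, a • x₀ ≠ b • x₀ → g • (a • x₀) = a • x₀ → g • (b • x₀) = b • x₀ → g = 1 := by
    intro g hg a ha b hb hab h1 h2
    have hne' : (a⁻¹ * b) • x₀ ≠ x₀ := by
      intro e
      apply hab
      rw [mul_smul, inv_smul_eq_iff] at e
      exact e.symm
    have hc := ZT.stab_card' hA M x₀ hΔ hτM hτ hτ1 hτx (M.mul_mem (M.inv_mem ha) hb) hne'
    rw [hi] at hc
    obtain ⟨hsub, -⟩ := Nat.card_eq_one_iff_unique.mp hc
    have e1 : a⁻¹ * g * a ∈ M ∧ (a⁻¹ * g * a) • x₀ = x₀ ∧ (a⁻¹ * g * a) • ((a⁻¹ * b) • x₀) = (a⁻¹ * b) • x₀ := by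
      refine ⟨M.mul_mem (M.mul_mem (M.inv_mem ha) hg) ha, ?_, ?_⟩
      · rw [mul_smul, mul_smul, h1, inv_smul_smul]
      · simp only [mul_smul, smul_inv_smul, h2]
    have e3 : a⁻¹ * g * a = 1 := by
      have := hsub.elim (⟨_, e1⟩ : {g' : Cfsg.Sz F m // g' ∈ M ∧ g' • x₀ = x₀ ∧ g' • ((a⁻¹ * b) • x₀) = (a⁻¹ * b) • x₀})
        ⟨1, M.one_mem, one_smul _ _, one_smul _ _⟩
      exact congrArg Subtype.val this
    have : g = a * (a⁻¹ * g * a) * a⁻¹ := by group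
    rw [this, e3]
    group
  -- elements with a fixed point in the orbit are `2`-elements
  have hSa : ∀ g ∈ M, ∀ a ∈ M, g • (a • x₀) = a • x₀ → g ^ 4 = 1 := by
    intro g hg a ha hfix
    by_cases hg1 : g = 1
    · rw [hg1, one_pow]
    have hnd : ¬ Der g := by
      intro hd
      exact hd _ (a • x₀).2 (congrArg Subtype.val hfix)
    rcases not_der_cases hF hm hg1 hnd with h | ⟨k, s, hs, hk⟩
    · exact h
    exfalso
    -- `g` has two fixed points
    have f1 : g • (k⁻¹ • pinf F) = k⁻¹ • pinf F := by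
      have : (k * g * k⁻¹) • pinf F = pinf F := by
        rw [hk]
        exact tG_smul_pinf hF s
      simp only [mul_smul] at this
      rw [eq_inv_smul_iff]
      exact this
    have f2 : g • (k⁻¹ • pt m (0 : F) 0) = k⁻¹ • pt m (0 : F) 0 := by
      have : (k * g * k⁻¹) • pt m (0 : F) 0 = pt m (0 : F) 0 := by
        rw [hk]
        exact tG_smul_pt_zero hF s
      simp only [mul_smul] at this
      rw [eq_inv_smul_iff]
      exact this
    have h0 : pt m (0 : F) 0 ≠ pinf F := pt_ne_pinf _ _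
    obtain ⟨x', hx'mem, hx'ne, hx'fix⟩ : ∃ x' : Projectivization F (Fin 4 → F), x' ∈ Cfsg.suzukiOvoid F m ∧
        x' ≠ ((a • x₀ : Cfsg.suzukiOvoid F m) : Projectivization F (Fin 4 → F)) ∧ g • x' = x' := by
      by_cases h3 : k⁻¹ • pinf F = ((a • x₀ : Cfsg.suzukiOvoid F m) : Projectivization F (Fin 4 → F))
      · refine ⟨k⁻¹ • pt m (0 : F) 0, smul_mem_ovoid hF _ (pt_mem _ _), ?_, f2⟩
        rw [← h3]
        intro e
        exact h0 (MulAction.injective k⁻¹ e)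
      · exact ⟨k⁻¹ • pinf F, smul_mem_ovoid hF _ pinf_mem, h3, f1⟩
    -- the involution at `a • x₀` commutes with `g`
    have hcomm : g * (a * τ₀ * a⁻¹) = (a * τ₀ * a⁻¹) * g := by
      have e1 := huniq' a ha (g * (a * τ₀ * a⁻¹) * g⁻¹)
        (M.mul_mem (M.mul_mem hg (M.mul_mem (M.mul_mem ha hτM) (M.inv_mem ha))) (M.inv_mem hg))
        (by
          have : g * (a * τ₀ * a⁻¹) * g⁻¹ * (g * (a * τ₀ * a⁻¹) * g⁻¹) = g * ((a * τ₀ * a⁻¹) * (a * τ₀ * a⁻¹)) * g⁻¹ := by group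
          rw [this, hconj_inv]
          group)
        (by simpa [conj_eq_one_iff] using hconj_ne a)
        (by
          rw [mul_smul, mul_smul, inv_smul_eq_iff.mpr hfix.symm, hconj_fix, hfix])
      exact mul_inv_eq_iff_eq_mul.mp e1
    set τa := a * τ₀ * a⁻¹ with hτa
    set xa : Projectivization F (Fin 4 → F) := ((a • x₀ : Cfsg.suzukiOvoid F m) : Projectivization F (Fin 4 → F)) with hxa
    have fa : τa • xa = xa := congrArg Subtype.val (hconj_fix a)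
    have hgxa : g • xa = xa := congrArg Subtype.val hfix
    have h4 : τa • x' ≠ x' := by
      intro e
      have := hA.inv_uniq (a := (⟨x', hx'mem⟩ : Cfsg.suzukiOvoid F m)) (b := a • x₀) (hconj_inv a) (hconj_ne a)
        (Subtype.ext e) (hconj_fix a)
      exact hx'ne (congrArg Subtype.val this)
    have h5 : τa • x' ≠ xa := by
      intro e
      apply hx'ne
      have := congrArg (fun y => τa • y) e
      have hτa2 : τa * τa = 1 := hconj_inv a
      simp only [fa, ← mul_smul, hτa2, one_smul] at this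
      exact this
    have h6 : g • (τa • x') = τa • x' := by
      rw [← mul_smul, hcomm, mul_smul, hx'fix]
    have h7 := fix_three hF hm (a • x₀).2 hx'mem (smul_mem_ovoid hF τa hx'mem) hx'ne.symm h4.symm h5.symm hgxa hx'fix h6
    exact hg1 h7
  -- the count
  let MF : Finset (Cfsg.Sz F m) := univ.filter (· ∈ M)
  let D : Finset (Cfsg.suzukiOvoid F m) := MF.image (fun k => k • x₀)
  have hD : ∀ x, x ∈ D ↔ ∃ k ∈ M, k • x₀ = x := by
    intro x
    simp [D, MF]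
  let Stb : Cfsg.suzukiOvoid F m → Finset (Cfsg.Sz F m) := fun x => univ.filter (fun g => g ∈ M ∧ g • x = x)
  have hStb : ∀ x ∈ D, (Stb x).card = (Stb x₀).card := by
    intro x hx
    obtain ⟨k, hk, rfl⟩ := (hD x).mp hx
    apply Finset.card_equiv (MulAut.conj k⁻¹).toEquiv
    intro g
    simp only [Stb, mem_filter, mem_univ, true_and]
    show _ ↔ (k⁻¹ * g * k⁻¹⁻¹ ∈ M ∧ (k⁻¹ * g * k⁻¹⁻¹) • x₀ = x₀)
    rw [inv_inv]
    constructor
    · rintro ⟨h1, h2⟩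
      refine ⟨M.mul_mem (M.mul_mem (M.inv_mem hk) h1) hk, ?_⟩
      rw [mul_smul, mul_smul, h2, inv_smul_smul]
    · rintro ⟨h1, h2⟩
      constructor
      · have := M.mul_mem (M.mul_mem hk h1) (M.inv_mem hk)
        have e : k * (k⁻¹ * g * k) * k⁻¹ = g := by group
        rwa [e] at this
      · rw [mul_smul, mul_smul, inv_smul_eq_iff] at h2
        exact h2
  have hMF : MF.card = D.card * (Stb x₀).card := by
    have h1 := Finset.card_eq_sum_card_image (fun k : Cfsg.Sz F m => k • x₀) MF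
    rw [h1, Finset.sum_congr rfl (g := fun _ => (Stb x₀).card), Finset.sum_const, smul_eq_mul]
    intro x hx
    obtain ⟨k, hk, rfl⟩ := (hD x).mp hx
    apply Finset.card_bij' (fun g _ => k⁻¹ * g) (fun g _ => k * g)
    · intro g hg
      obtain ⟨h1, h2⟩ := mem_filter.mp hg
      refine mem_filter.mpr ⟨mem_univ _, M.mul_mem (M.inv_mem hk) (mem_filter.mp h1).2, ?_⟩
      rw [mul_smul, h2, inv_smul_smul]
    · intro g hg
      obtain ⟨-, h1, h2⟩ := mem_filter.mp hg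
      refine mem_filter.mpr ⟨mem_filter.mpr ⟨mem_univ _, M.mul_mem hk h1⟩, ?_⟩
      rw [mul_smul, h2]
    · intro g _
      group
    · intro g _
      group
  let UU' : Finset (Cfsg.Sz F m) := D.biUnion (fun x => (Stb x).erase 1)
  have hUcard : UU'.card = D.card * ((Stb x₀).card - 1) := by
    rw [Finset.card_biUnion]
    · rw [Finset.sum_congr rfl (g := fun _ => (Stb x₀).card - 1), Finset.sum_const, smul_eq_mul]
      intro x hx
      rw [Finset.card_erase_of_mem (mem_filter.mpr ⟨mem_univ _, M.one_mem, one_smul _ _⟩), hStb x hx]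
    · intro x hx x' hx' hne'
      show Disjoint _ _
      rw [Finset.disjoint_left]
      intro g hg hg'
      obtain ⟨h1, -, h2, h3⟩ := mem_erase.mp hg |>.imp id (fun h => mem_filter.mp h)
      obtain ⟨-, -, h4, h5⟩ := mem_erase.mp hg' |>.imp id (fun h => mem_filter.mp h)
      obtain ⟨a, ha, rfl⟩ := (hD x).mp hx
      obtain ⟨b, hb, rfl⟩ := (hD x').mp hx'
      exact h1 (h2pt g h2 a ha b hb hne' h3 h5)
  have hUsub : UU' ⊆ MF := by
    intro g hg
    obtain ⟨x, -, h⟩ := Finset.mem_biUnion.mp hg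
    exact mem_filter.mpr ⟨mem_univ _, (mem_filter.mp (mem_erase.mp h).2).2.1⟩
  let Y : Finset (Cfsg.Sz F m) := MF \ UU'
  have hs₁ : 1 ≤ (Stb x₀).card := Finset.card_pos.mpr ⟨1, mem_filter.mpr ⟨mem_univ _, M.one_mem, one_smul _ _⟩⟩
  have hYcard : Y.card = D.card := by
    rw [Finset.card_sdiff_of_subset hUsub, hMF, hUcard]
    obtain ⟨n, hn⟩ : ∃ n, (Stb x₀).card = n + 1 := ⟨(Stb x₀).card - 1, by omega⟩
    rw [hn]
    simp only [Nat.add_sub_cancel]
    rw [mul_add, mul_one, Nat.add_sub_cancel_left]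
  have hYmem : ∀ y, y ∈ Y ↔ y ∈ M ∧ (y = 1 ∨ ∀ a ∈ M, y • (a • x₀) ≠ a • x₀) := by
    intro y
    simp only [Y, mem_sdiff, MF, mem_filter, mem_univ, true_and, UU', mem_biUnion, mem_erase, Stb]
    constructor
    · rintro ⟨h1, h2⟩
      refine ⟨h1, ?_⟩
      by_cases hy : y = 1
      · exact Or.inl hy
      · right
        intro a ha hfix
        exact h2 ⟨a • x₀, (hD _).mpr ⟨a, ha, rfl⟩, hy, h1, hfix⟩
    · rintro ⟨h1, h2⟩
      refine ⟨h1, ?_⟩
      rintro ⟨x, hx, hy, -, hfix⟩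
      rcases h2 with h2 | h2
      · exact hy h2
      · obtain ⟨a, ha, rfl⟩ := (hD x).mp hx
        exact h2 a ha hfix
  -- choose a representative for the points of the orbit
  have hrep : ∀ x : Cfsg.suzukiOvoid F m, ∃ k : Cfsg.Sz F m, x ∈ D → k ∈ M ∧ k • x₀ = x := by
    intro x
    by_cases hx : x ∈ D
    · obtain ⟨k, hk, he⟩ := (hD x).mp hx
      exact ⟨k, fun _ => ⟨hk, he⟩⟩
    · exact ⟨1, fun h => absurd h hx⟩
  choose rep hrep' using hrep
  let φ : Cfsg.suzukiOvoid F m → Cfsg.Sz F m := fun x => τ₀ * (rep x * τ₀ * (rep x)⁻¹)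
  have hφodd : ∀ x ∈ D, x ≠ x₀ → ¬ 2 ∣ orderOf (φ x) := by
    intro x hx hne'
    obtain ⟨-, hk2⟩ := hrep' x hx
    have hf : (rep x * τ₀ * (rep x)⁻¹) • x = x := by
      have := hconj_fix (rep x)
      rwa [hk2] at this
    exact ZT.odd_product hA hτ (hconj_inv _) hτ1 (hconj_ne _) (Ne.symm hne') hτx hf
  have hφne : ∀ x ∈ D, x ≠ x₀ → φ x ≠ 1 := by
    intro x hx hne' h1
    obtain ⟨-, hk2⟩ := hrep' x hx
    have hf : (rep x * τ₀ * (rep x)⁻¹) • x = x := by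
      have := hconj_fix (rep x)
      rwa [hk2] at this
    have e : τ₀ = rep x * τ₀ * (rep x)⁻¹ := by
      have h2 := mul_eq_one_iff_eq_inv.mp h1
      rw [inv_eq_of_mul_eq_one_left (hconj_inv _)] at h2
      exact h2
    rw [← e] at hf
    exact hne' (hA.inv_uniq hτ hτ1 hf hτx)
  have hφM : ∀ x ∈ D, φ x ∈ M := by
    intro x hx
    obtain ⟨hk1, -⟩ := hrep' x hx
    exact M.mul_mem hτM (M.mul_mem (M.mul_mem hk1 hτM) (M.inv_mem hk1))
  have hφY : ∀ x ∈ D, φ x ∈ Y := by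
    intro x hx
    rw [hYmem]
    refine ⟨hφM x hx, ?_⟩
    by_cases hx0 : x = x₀
    · left
      subst hx0
      obtain ⟨hk1, hk2⟩ := hrep' x hx
      have e := huniq' 1 M.one_mem (rep x * τ₀ * (rep x)⁻¹) (M.mul_mem (M.mul_mem hk1 hτM) (M.inv_mem hk1))
        (hconj_inv _) (hconj_ne _) (by
          rw [one_smul]
          have := hconj_fix (rep x)
          rwa [hk2] at this)
      simp only [one_mul, inv_one, mul_one] at e
      show τ₀ * _ = 1
      rw [e, hτ]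
    · right
      intro a ha hfix
      have h4 := hSa _ (hφM x hx) a ha hfix
      exact hφne x hx hx0 (pow_odd_eq_one_of_pow_four (hφodd x hx hx0) h4)
  have hφinj : Set.InjOn φ D := by
    intro x hx x' hx' he
    have e : rep x * τ₀ * (rep x)⁻¹ = rep x' * τ₀ * (rep x')⁻¹ := mul_left_cancel he
    obtain ⟨-, hk2⟩ := hrep' x hx
    obtain ⟨-, hk2'⟩ := hrep' x' hx'
    have hf : (rep x * τ₀ * (rep x)⁻¹) • x = x := by
      have := hconj_fix (rep x)
      rwa [hk2] at this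
    have hf' : (rep x' * τ₀ * (rep x')⁻¹) • x' = x' := by
      have := hconj_fix (rep x')
      rwa [hk2'] at this
    rw [← e] at hf'
    exact hA.inv_uniq (hconj_inv _) (hconj_ne _) hf hf'
  have hYeq : D.image φ = Y := by
    apply Finset.eq_of_subset_of_card_le
    · intro y hy
      obtain ⟨x, hx, rfl⟩ := Finset.mem_image.mp hy
      exact hφY x hx
    · rw [Finset.card_image_of_injOn hφinj, hYcard]
  -- the involution `τ₀` inverts `Y`
  have hinv0 : ∀ y ∈ Y, τ₀ * y * τ₀⁻¹ = y⁻¹ := by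
    intro y hy
    rw [← hYeq] at hy
    obtain ⟨x, -, rfl⟩ := Finset.mem_image.mp hy
    have h1 := inv_eq_of_mul_eq_one_left hτ
    have h2 := inv_eq_of_mul_eq_one_left (hconj_inv (rep x))
    show τ₀ * (τ₀ * (rep x * τ₀ * (rep x)⁻¹)) * τ₀⁻¹ = (τ₀ * (rep x * τ₀ * (rep x)⁻¹))⁻¹
    rw [mul_inv_rev, h2, ← mul_assoc, hτ, one_mul]
  have hYconj : ∀ y ∈ Y, ∀ k ∈ M, k * y * k⁻¹ ∈ Y := by
    intro y hy k hk
    rw [hYmem] at hy ⊢
    obtain ⟨h1, h2⟩ := hy
    refine ⟨M.mul_mem (M.mul_mem hk h1) (M.inv_mem hk), ?_⟩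
    rcases h2 with h2 | h2
    · left
      rw [h2]
      group
    · right
      intro a ha hfix
      apply h2 (k⁻¹ * a) (M.mul_mem (M.inv_mem hk) ha)
      simp only [mul_smul] at hfix ⊢
      rw [eq_inv_smul_iff]
      exact hfix
  -- every conjugate of `τ₀` inverts `Y`
  have hinv : ∀ k ∈ M, ∀ y ∈ Y, (k * τ₀ * k⁻¹) * y * (k * τ₀ * k⁻¹)⁻¹ = y⁻¹ := by
    intro k hk y hy
    have h1 := hinv0 (k⁻¹ * y * k⁻¹⁻¹) (hYconj y hy k⁻¹ (M.inv_mem hk))
    have e1 : (k * τ₀ * k⁻¹) * y * (k * τ₀ * k⁻¹)⁻¹ = k * (τ₀ * (k⁻¹ * y * k⁻¹⁻¹) * τ₀⁻¹) * k⁻¹ := by group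
    rw [e1, h1]
    group
  -- `Y` is commutative
  have hcomm : ∀ y ∈ Y, ∀ y' ∈ Y, y * y' = y' * y := by
    intro y hy y' hy'
    have hyy := hy
    rw [← hYeq] at hy
    obtain ⟨x, hx, rfl⟩ := Finset.mem_image.mp hy
    obtain ⟨hk1, -⟩ := hrep' x hx
    have h1 := hinv (rep x) hk1 y' hy'
    have h2 := hinv0 (y'⁻¹) (by
      rw [hYmem] at hy' ⊢
      obtain ⟨h3, h4⟩ := hy'
      refine ⟨M.inv_mem h3, ?_⟩
      rcases h4 with h4 | h4
      · left
        rw [h4, inv_one]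
      · right
        intro a ha hfix
        apply h4 a ha
        rw [inv_smul_eq_iff] at hfix
        exact hfix.symm)
    have h5 : φ x * y' * (φ x)⁻¹ = y' := by
      have e1 : φ x * y' * (φ x)⁻¹ = τ₀ * ((rep x * τ₀ * (rep x)⁻¹) * y' * (rep x * τ₀ * (rep x)⁻¹)⁻¹) * τ₀⁻¹ := by
        show (τ₀ * (rep x * τ₀ * (rep x)⁻¹)) * y' * (τ₀ * (rep x * τ₀ * (rep x)⁻¹))⁻¹ = _
        group
      rw [e1, h1, h2, inv_inv]
    exact mul_inv_eq_iff_eq_mul.mp h5
  -- conclusion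
  have hm₁D : m₁ • x₀ ∈ D := (hD _).mpr ⟨m₁, hm₁, rfl⟩
  refine ⟨φ (m₁ • x₀), hφne _ hm₁D hne, hφodd _ hm₁D hne, ?_⟩
  set g := φ (m₁ • x₀) with hg
  have hgY : g ∈ Y := hφY _ hm₁D
  have hg1 := hφne _ hm₁D hne
  have hodd := hφodd _ hm₁D hne
  intro k hk
  have hkg : k * g * k⁻¹ ∈ Subgroup.centralizer ({g} : Set (Cfsg.Sz F m)) :=
    Subgroup.mem_centralizer_singleton_iff.mpr (hcomm _ (hYconj g hgY k hk) g hgY)
  have hne' : k * g * k⁻¹ ≠ 1 := by simpa [conj_eq_one_iff] using hg1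
  have hCn := centralizer_eq_of_odd hF hm hg1 hodd hkg hne'
  rw [Subgroup.mem_normalizer_iff]
  intro z
  have hz : z ∈ Subgroup.centralizer ({g} : Set (Cfsg.Sz F m)) ↔ k * z * k⁻¹ ∈ Subgroup.centralizer ({k * g * k⁻¹} : Set (Cfsg.Sz F m)) := by
    rw [Subgroup.mem_centralizer_singleton_iff, Subgroup.mem_centralizer_singleton_iff]
    have e1 : k * z * k⁻¹ * (k * g * k⁻¹) = k * (z * g) * k⁻¹ := by group
    have e2 : k * g * k⁻¹ * (k * z * k⁻¹) = k * (g * z) * k⁻¹ := by group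
    rw [e1, e2]
    constructor
    · intro h
      rw [h]
    · intro h
      exact mul_left_cancel (mul_right_cancel h)
  rw [hCn] at hz
  exact hz

end Cfsg.Agent.Lib.Suzuki
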