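import Cfsg.Agent.Lib.Suzuki.SubField
import Cfsg.Agent.Lib.Suzuki.SubOne

/-! The trichotomy for subgroups of the Suzuki group. -/

set_option autoImplicit false

namespace Cfsg.Agent.Lib.Suzuki

open Finset

variable {F : Type*} [Field F] [Fintype F] {m : ℕ}
variable (hF : Fintype.card F = 2 ^ (2 * m + 1)) (hm : 1 ≤ m)

theorem mem_conj_map {G : Type*} [Group G] (M : Subgroup G) (k x : G) :
    x ∈ M.map (MulAut.conj k).toMonoidHom ↔ k⁻¹ * x * k ∈ M := by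
  constructor
  · rintro ⟨y, hy, rfl⟩
    have : k⁻¹ * (MulAut.conj k).toMonoidHom y * k = y := by
      simp [mul_assoc]
    rw [this]
    exact hy
  · intro h
    refine ⟨_, h, ?_⟩
    simp [mul_assoc]

include hF hm in
/-- The normalisation in the case of several involutions at a point. -/
theorem subfield_of_two (M : Subgroup (Cfsg.Sz F m))
    (hΔ : ∀ τ ∈ M, τ * τ = 1 → τ ≠ 1 → ∃ k ∈ M, τ • (k • pinf F) = k • pinf F)
    {τ₀ τ₁ τ₂ : Cfsg.Sz F m} (h0M : τ₀ ∈ M) (h1M : τ₁ ∈ M) (h2M : τ₂ ∈ M)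
    (h0 : τ₀ * τ₀ = 1) (h1 : τ₁ * τ₁ = 1) (h2 : τ₂ * τ₂ = 1)
    (h0' : τ₀ ≠ 1) (h1' : τ₁ ≠ 1) (h2' : τ₂ ≠ 1) (h01 : τ₀ ≠ τ₁)
    (hf0 : τ₀ • pinf F = pinf F) (hf1 : τ₁ • pinf F = pinf F) (hf2 : τ₂ • pt m (0 : F) 0 = pt m (0 : F) 0) :
    ∃ (r : Fˣ) (L : Subfield F) (b₀ b₁ : F), SubData hF hm (M.map (MulAut.conj (tG hF r)).toMonoidHom) L ∧
      b₀ ∈ L ∧ b₁ ∈ L ∧ b₀ ≠ 0 ∧ b₁ ≠ 0 ∧ b₀ ≠ b₁ := by
  classical
  haveI := finite_Sz hF hm
  have hA := ax_Sz hF hm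
  have hne : (⟨pinf F, pinf_mem⟩ : Cfsg.suzukiOvoid F m) ≠ ⟨pt m (0 : F) 0, pt_mem _ _⟩ := by
    intro h
    exact pt_ne_pinf (m := m) (0 : F) 0 (congrArg Subtype.val h).symm
  obtain ⟨c, hcM, hc1, hc2⟩ := ZT.exists_swapper hA M h0M h2M h0 h2 h0' h2' hne (Subtype.ext hf0) (Subtype.ext hf2)
  have hc1' : c • pinf F = pt m (0 : F) 0 := congrArg Subtype.val hc1
  have hc2' : c • pt m (0 : F) 0 = pinf F := congrArg Subtype.val hc2
  have hz1 : (wG hF hm * c) • pinf F = pinf F := by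
    rw [mul_smul, hc1', wG_smul_pt_zero hF hm]
  have hz2 : (wG hF hm * c) • pt m (0 : F) 0 = pt m (0 : F) 0 := by
    rw [mul_smul, hc2', wG_smul_pinf hF hm]
  obtain ⟨s, hs⟩ := (fix_two_iff hF hm _).mp ⟨hz1, hz2⟩
  have hys : c = wG hF hm * tG hF s := by
    rw [← hs, ← mul_assoc, wG_sq, one_mul]
  obtain ⟨r, hr⟩ := sq_surj hF (s : F)
  have hr0 : r ≠ 0 := by
    rintro rfl
    rw [zero_pow two_ne_zero] at hr
    exact s.ne_zero hr.symm
  set R : Fˣ := Units.mk0 r hr0 with hR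
  have hconj : tG hF R * c * (tG hF R)⁻¹ = wG hF hm := by
    have e : tG hF R * (wG hF hm * tG hF s) * (tG hF R)⁻¹ =
        wG hF hm * (tG hF R⁻¹ * tG hF s * tG hF R⁻¹) := by
      rw [tG_inv hF, ← mul_assoc (tG hF R), tG_wG hF hm]
      simp only [mul_assoc]
    rw [hys, e, tG_mul, tG_mul]
    have hunit : R⁻¹ * s * R⁻¹ = 1 := by
      apply Units.ext
      simp only [Units.val_mul, Units.val_inv_eq_inv_val, hR, Units.val_mk0, Units.val_one]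
      rw [← hr]
      field_simp
    rw [hunit, tG_one, mul_one]
  set M' := M.map (MulAut.conj (tG hF R)).toMonoidHom with hM'
  have hw' : wG hF hm ∈ M' := by
    rw [← hconj]
    exact ⟨c, hcM, rfl⟩
  have hRfix : (tG hF R) • pinf F = pinf F := tG_smul_pinf hF R
  have hRinv : (tG hF R)⁻¹ • pinf F = pinf F := by
    rw [inv_smul_eq_iff, hRfix]
  have hΔ' : ∀ τ ∈ M', τ * τ = 1 → τ ≠ 1 → ∃ k ∈ M', τ • (k • pinf F) = k • pinf F := by
    intro τ hτ hτ2 hτ1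
    have hτ' := (mem_conj_map M _ _).mp hτ
    obtain ⟨k, hk, hkf⟩ := hΔ _ hτ' (by
        calc (tG hF R)⁻¹ * τ * tG hF R * ((tG hF R)⁻¹ * τ * tG hF R) = (tG hF R)⁻¹ * (τ * τ) * tG hF R := by group
          _ = 1 := by rw [hτ2]; group) (by
        intro h
        apply hτ1
        calc τ = tG hF R * ((tG hF R)⁻¹ * τ * tG hF R) * (tG hF R)⁻¹ := by group
          _ = 1 := by rw [h]; group)
    refine ⟨tG hF R * k * (tG hF R)⁻¹, ⟨k, hk, rfl⟩, ?_⟩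
    have e : (tG hF R * k * (tG hF R)⁻¹) • pinf F = tG hF R • (k • pinf F) := by
      rw [mul_smul, mul_smul, hRinv]
    have e2 : τ * tG hF R = tG hF R * ((tG hF R)⁻¹ * τ * tG hF R) := by group
    rw [e, ← mul_smul τ, e2, mul_smul, hkf]
  have hi : ∀ τ ∈ M, τ * τ = 1 → τ ≠ 1 → τ • pinf F = pinf F →
      ∃ b : F, b ≠ 0 ∧ uG hF 0 b = tG hF R * τ * (tG hF R)⁻¹ := by
    intro τ hτ hτ2 hτ1 hτf
    have h2c : (tG hF R * τ * (tG hF R)⁻¹) * (tG hF R * τ * (tG hF R)⁻¹) = 1 := by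
      calc (tG hF R * τ * (tG hF R)⁻¹) * (tG hF R * τ * (tG hF R)⁻¹) = tG hF R * (τ * τ) * (tG hF R)⁻¹ := by group
        _ = 1 := by rw [hτ2]; group
    have h1c : tG hF R * τ * (tG hF R)⁻¹ ≠ 1 := by
      intro h
      apply hτ1
      calc τ = (tG hF R)⁻¹ * (tG hF R * τ * (tG hF R)⁻¹) * tG hF R := by group
        _ = 1 := by rw [h]; group
    have hfc : (tG hF R * τ * (tG hF R)⁻¹) • pinf F = pinf F := by
      rw [mul_smul, mul_smul, hRinv, hτf, hRfix]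
    obtain ⟨b, hb, e⟩ := inv_at_pinf hF hm h2c h1c hfc
    exact ⟨b, hb, e.symm⟩
  obtain ⟨b₀, hb₀, e₀⟩ := hi τ₀ h0M h0 h0' hf0
  obtain ⟨b₁, hb₁, e₁⟩ := hi τ₁ h1M h1 h1' hf1
  have hb₀₁ : b₀ ≠ b₁ := by
    rintro rfl
    apply h01
    rw [e₀] at e₁
    exact mul_left_cancel (mul_right_cancel e₁)
  have hmem₀ : uG hF 0 b₀ ∈ M' := by
    rw [e₀]
    exact ⟨τ₀, h0M, rfl⟩
  have hmem₁ : uG hF 0 b₁ ∈ M' := by
    rw [e₁]
    exact ⟨τ₁, h1M, rfl⟩
  obtain ⟨L, hL, hb₀L, hb₁L, -⟩ := exists_subfield hF hm M' hw' hΔ' hmem₀ hmem₁ hb₀ hb₁ hb₀₁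
  exact ⟨R, L, b₀, b₁, hL, hb₀L, hb₁L, hb₀, hb₁, hb₀₁⟩

include hF hm in
/-- A subgroup of even order has a point whose stabiliser contains a Sylow subgroup. -/
theorem exists_sylow_point (M : Subgroup (Cfsg.Sz F m)) (h2 : 2 ∣ Nat.card M) :
    ∃ p : Cfsg.suzukiOvoid F m, (∃ τ ∈ M, τ * τ = 1 ∧ τ ≠ 1 ∧ τ • p = p) ∧
      ∀ τ ∈ M, τ * τ = 1 → τ ≠ 1 → ∃ c ∈ M, τ • (c • p) = c • p := by
  classical
  haveI := finite_Sz hF hm
  haveI : Fact (Nat.Prime 2) := ⟨Nat.prime_two⟩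
  obtain ⟨S⟩ : Nonempty (Sylow 2 M) := inferInstance
  have hS' : IsPGroup 2 (S.toSubgroup.map M.subtype) := S.isPGroup'.map _
  obtain ⟨Q, hQ⟩ := hS'.exists_le_sylow
  obtain ⟨k, hk⟩ := exists_conj hF hm Q
  set p : Cfsg.suzukiOvoid F m := k • ⟨pinf F, pinf_mem⟩ with hp
  have hfix : ∀ x : M, x ∈ S → (x : Cfsg.Sz F m) • p = p := by
    intro x hx
    have h1 : (x : Cfsg.Sz F m) ∈ (Q : Subgroup (Cfsg.Sz F m)) := hQ ⟨x, hx, rfl⟩
    obtain ⟨a, b, e⟩ := (hk _).mp h1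
    apply Subtype.ext
    show (x : Cfsg.Sz F m) • (k • pinf F) = k • pinf F
    have e2 : (x : Cfsg.Sz F m) * k = k * uG hF a b := by
      rw [← e]
      group
    rw [← mul_smul, e2, mul_smul, uG_smul_pinf hF]
  have hconj : ∀ τ ∈ M, τ * τ = 1 → τ ≠ 1 → ∃ c ∈ M, τ • (c • p) = c • p ∧ c⁻¹ * τ * c ∈ M := by
    intro τ hτ hτ2 hτ1
    set τ' : M := ⟨τ, hτ⟩ with hτ'
    have hP : IsPGroup 2 (Subgroup.zpowers τ') := by
      apply IsPGroup.of_card (n := 1)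
      rw [Nat.card_zpowers, pow_one]
      apply orderOf_eq_prime
      · apply Subtype.ext
        show τ ^ 2 = 1
        rw [sq, hτ2]
      · intro h
        exact hτ1 (congrArg Subtype.val h)
    obtain ⟨S₁, hS₁⟩ := hP.exists_le_sylow
    obtain ⟨c, hc⟩ := MulAction.exists_smul_eq M S S₁
    have hmem : τ' ∈ (S₁ : Subgroup M) := hS₁ (Subgroup.mem_zpowers τ')
    rw [← hc, Sylow.coe_subgroup_smul, Subgroup.mem_pointwise_smul_iff_inv_smul_mem] at hmem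
    have hc2 : c⁻¹ * τ' * c ∈ S := by
      have h9 : (MulAut.conj c)⁻¹ τ' ∈ S := hmem
      rwa [MulAut.conj_inv_apply] at h9
    have h3 := hfix _ hc2
    have e : ((c⁻¹ * τ' * c : M) : Cfsg.Sz F m) = (c : Cfsg.Sz F m)⁻¹ * τ * c := rfl
    rw [e] at h3
    refine ⟨c, c.2, ?_, M.mul_mem (M.mul_mem (M.inv_mem c.2) hτ) c.2⟩
    have e2 : τ * (c : Cfsg.Sz F m) = c * ((c : Cfsg.Sz F m)⁻¹ * τ * c) := by group
    rw [← mul_smul τ, e2, mul_smul, h3]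
  refine ⟨p, ?_, ?_⟩
  · obtain ⟨τ, hτ⟩ := exists_prime_orderOf_dvd_card' (G := M) 2 h2
    have h5 : (τ : Cfsg.Sz F m) * τ = 1 := by
      have := pow_orderOf_eq_one τ
      rw [hτ, sq] at this
      exact congrArg Subtype.val this
    have h6 : (τ : Cfsg.Sz F m) ≠ 1 := by
      intro h
      have : τ = 1 := Subtype.ext h
      rw [this, orderOf_one] at hτ
      omega
    obtain ⟨c, hc, h7, h8⟩ := hconj τ τ.2 h5 h6
    refine ⟨c⁻¹ * τ * c, h8, ?_, ?_, ?_⟩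
    · calc c⁻¹ * (τ : Cfsg.Sz F m) * c * (c⁻¹ * τ * c) = c⁻¹ * (τ * τ) * c := by group
        _ = 1 := by rw [h5]; group
    · intro h
      apply h6
      calc (τ : Cfsg.Sz F m) = c * (c⁻¹ * τ * c) * c⁻¹ := by group
        _ = 1 := by rw [h]; group
    · rw [mul_smul, mul_smul, h7, inv_smul_smul]
  · intro τ hτ hτ2 hτ1
    obtain ⟨c, hc, h7, -⟩ := hconj τ hτ hτ2 hτ1
    exact ⟨c, hc, h7⟩

include hF hm in
/-- The trichotomy. -/
theorem subgroup_trichotomy (M : Subgroup (Cfsg.Sz F m)) :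
    (∃ p ∈ Cfsg.suzukiOvoid F m, ∀ g ∈ M, g • p = p) ∨
    (∃ g : Cfsg.Sz F m, g ≠ 1 ∧ ¬ 2 ∣ orderOf g ∧
      M ≤ Subgroup.normalizer ((Subgroup.centralizer ({g} : Set (Cfsg.Sz F m)) : Subgroup (Cfsg.Sz F m)) : Set (Cfsg.Sz F m))) ∨
    (∃ (k : Cfsg.Sz F m) (L : Subfield F) (b₀ b₁ : F), SubData hF hm (M.map (MulAut.conj k).toMonoidHom) L ∧
      b₀ ∈ L ∧ b₁ ∈ L ∧ b₀ ≠ 0 ∧ b₁ ≠ 0 ∧ b₀ ≠ b₁) := by
  classical
  haveI := finite_Sz hF hm
  by_cases h2 : 2 ∣ Nat.card M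
  · obtain ⟨p, ⟨τ₀, h0M, h0, h0', hf0⟩, hΔ⟩ := exists_sylow_point hF hm M h2
    by_cases hfixall : ∀ g ∈ M, g • p = p
    · exact Or.inl ⟨p.1, p.2, fun g hg => congrArg Subtype.val (hfixall g hg)⟩
    · push_neg at hfixall
      obtain ⟨m₁, hm₁, hne⟩ := hfixall
      by_cases hu : ∀ τ ∈ M, τ * τ = 1 → τ ≠ 1 → τ • p = p → τ = τ₀
      · obtain ⟨g, hg1, hg2, hg3⟩ := case_one hF hm M p hΔ h0M h0 h0' hf0 hu hm₁ hne
        exact Or.inr (Or.inl ⟨g, hg1, hg2, hg3⟩)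
      · push_neg at hu
        obtain ⟨τ₁, h1M, h1, h1', hf1, h01⟩ := hu
        have hpr : (p : Projectivization F (Fin 4 → F)) ≠ ((m₁ • p : Cfsg.suzukiOvoid F m) : Projectivization F (Fin 4 → F)) := by
          intro h
          exact hne (Subtype.ext h.symm)
        obtain ⟨h, e1, e2⟩ := exists_to_base hF hm p.2 (m₁ • p).2 hpr
        have e1' : h • (p : Projectivization F (Fin 4 → F)) = pinf F := e1
        have e2' : h • (m₁ • (p : Projectivization F (Fin 4 → F))) = pt m (0 : F) 0 := e2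
        have hf0' : τ₀ • (p : Projectivization F (Fin 4 → F)) = p := congrArg Subtype.val hf0
        have hf1' : τ₁ • (p : Projectivization F (Fin 4 → F)) = p := congrArg Subtype.val hf1
        have hinv : h⁻¹ • pinf F = (p : Projectivization F (Fin 4 → F)) := by
          rw [inv_smul_eq_iff, e1']
        set M' := M.map (MulAut.conj h).toMonoidHom with hM'
        have inv_conj : ∀ (c τ : Cfsg.Sz F m), τ * τ = 1 → τ ≠ 1 → (c * τ * c⁻¹) * (c * τ * c⁻¹) = 1 ∧ c * τ * c⁻¹ ≠ 1 := by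
          intro c τ ht ht'
          constructor
          · calc (c * τ * c⁻¹) * (c * τ * c⁻¹) = c * (τ * τ) * c⁻¹ := by group
              _ = 1 := by rw [ht]; group
          · intro e
            apply ht'
            calc τ = c⁻¹ * (c * τ * c⁻¹) * c := by group
              _ = 1 := by rw [e]; group
        have hΔ' : ∀ τ ∈ M', τ * τ = 1 → τ ≠ 1 → ∃ k ∈ M', τ • (k • pinf F) = k • pinf F := by
          intro τ hτ hτ2 hτ1
          have hτ' := (mem_conj_map M _ _).mp hτ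
          have h9 := inv_conj h⁻¹ τ hτ2 hτ1
          rw [inv_inv] at h9
          obtain ⟨c, hc, hcf⟩ := hΔ _ hτ' h9.1 h9.2
          have hcf' : (h⁻¹ * τ * h) • (c • (p : Projectivization F (Fin 4 → F))) = c • (p : Projectivization F (Fin 4 → F)) :=
            congrArg Subtype.val hcf
          refine ⟨h * c * h⁻¹, ⟨c, hc, rfl⟩, ?_⟩
          have e : (h * c * h⁻¹) • pinf F = h • (c • (p : Projectivization F (Fin 4 → F))) := by
            rw [mul_smul, mul_smul, hinv]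
          have e3 : τ * h = h * (h⁻¹ * τ * h) := by group
          rw [e, ← mul_smul τ, e3, mul_smul, hcf']
        obtain ⟨hi0, hi0'⟩ := inv_conj h τ₀ h0 h0'
        obtain ⟨hi1, hi1'⟩ := inv_conj h τ₁ h1 h1'
        obtain ⟨hi2, hi2'⟩ := inv_conj (h * m₁) τ₀ h0 h0'
        have hne01 : h * τ₀ * h⁻¹ ≠ h * τ₁ * h⁻¹ := by
          intro e
          exact h01 (mul_left_cancel (mul_right_cancel e)).symm
        have hfix0 : (h * τ₀ * h⁻¹) • pinf F = pinf F := by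
          rw [mul_smul, mul_smul, hinv, hf0', e1']
        have hfix1 : (h * τ₁ * h⁻¹) • pinf F = pinf F := by
          rw [mul_smul, mul_smul, hinv, hf1', e1']
        have hfix2 : (h * m₁ * τ₀ * (h * m₁)⁻¹) • pt m (0 : F) 0 = pt m (0 : F) 0 := by
          have e6 : (h * m₁)⁻¹ • pt m (0 : F) 0 = (p : Projectivization F (Fin 4 → F)) := by
            rw [inv_smul_eq_iff, mul_smul, e2']
          rw [mul_smul, mul_smul, e6, hf0', mul_smul, e2']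
        have hmem2 : h * m₁ * τ₀ * (h * m₁)⁻¹ ∈ M' := by
          refine ⟨m₁ * τ₀ * m₁⁻¹, M.mul_mem (M.mul_mem hm₁ h0M) (M.inv_mem hm₁), ?_⟩
          show h * (m₁ * τ₀ * m₁⁻¹) * h⁻¹ = _
          group
        obtain ⟨r, L, b₀, b₁, hL, h3⟩ := subfield_of_two hF hm M' hΔ' (τ₀ := h * τ₀ * h⁻¹) (τ₁ := h * τ₁ * h⁻¹)
          ⟨τ₀, h0M, rfl⟩ ⟨τ₁, h1M, rfl⟩ hmem2 hi0 hi1 hi2 hi0' hi1' hi2' hne01 hfix0 hfix1 hfix2
        refine Or.inr (Or.inr ⟨tG hF r * h, L, b₀, b₁, ?_, h3⟩)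
        have e5 : M.map (MulAut.conj (tG hF r * h)).toMonoidHom =
            M'.map (MulAut.conj (tG hF r)).toMonoidHom := by
          rw [hM', Subgroup.map_map]
          congr 1
          ext g
          simp [mul_assoc]
        rw [e5]
        exact hL
  · by_cases hb : M = ⊥
    · subst hb
      refine Or.inl ⟨pinf F, pinf_mem, ?_⟩
      intro g hg
      rw [Subgroup.mem_bot.mp hg, one_smul]
    · obtain ⟨g, hg, hg1⟩ := (M.bot_or_exists_ne_one).resolve_left hb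
      have hoddg : ¬ 2 ∣ orderOf g := fun h => h2 (h.trans (Subgroup.orderOf_dvd_natCard M hg))
      exact Or.inr (Or.inl ⟨g, hg1, hoddg, (odd_subgroup hF hm M h2 hg hg1).trans Subgroup.le_normalizer⟩)

end Cfsg.Agent.Lib.Suzuki
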