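import Cfsg.Agent.Lib.Suzuki.Emb

/-! Solvable subgroups and subfield subgroups of the Suzuki group. -/

set_option autoImplicit false

namespace Cfsg.Agent.Lib.Suzuki

variable {F : Type*} [Field F] [Fintype F] {m : ℕ}
variable (hF : Fintype.card F = 2 ^ (2 * m + 1)) (hm : 1 ≤ m)

/-- Subgroups of a solvable subgroup are solvable. -/
theorem solvable_of_le {G : Type*} [Group G] {A B : Subgroup G} (h : A ≤ B) (hB : Group.IsSolvable B) :
    Group.IsSolvable A :=
  solvable_of_solvable_injective (f := Subgroup.inclusion h) (Subgroup.inclusion_injective h)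

include hF hm in
theorem not_solvable_Sz : ¬ Group.IsSolvable (Cfsg.Sz F m) := by
  intro hs
  haveI := nontrivial_Sz hF hm
  have h1 := Group.IsSolvable.commutator_lt_top_of_nontrivial (Cfsg.Sz F m)
  rw [perfect hF hm] at h1
  exact lt_irrefl _ h1

include hF hm in
theorem solvable_of_fix (M : Subgroup (Cfsg.Sz F m)) {p : Projectivization F (Fin 4 → F)}
    (hp : p ∈ Cfsg.suzukiOvoid F m) (hfix : ∀ g ∈ M, g • p = p) : Group.IsSolvable M := by
  obtain ⟨g, hg⟩ := exists_smul_pinf hF hm hp
  haveI := solvable_BB hF hm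
  have hmem : ∀ x : M, g * x * g⁻¹ ∈ BB F m := by
    intro x
    rw [MulAction.mem_stabilizer_iff, mul_smul, mul_smul, ← hg, inv_smul_smul, hfix x x.2]
  let f : M →* BB F m :=
    { toFun := fun x => ⟨g * x * g⁻¹, hmem x⟩
      map_one' := by
        apply Subtype.ext
        simp
      map_mul' := by
        intro x y
        apply Subtype.ext
        simp only [Subgroup.coe_mul]
        group }
  refine solvable_of_solvable_injective (f := f) ?_
  intro x y e
  have h2 : g * (x : Cfsg.Sz F m) * g⁻¹ = g * y * g⁻¹ := congrArg Subtype.val e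
  exact Subtype.ext (mul_left_cancel (mul_right_cancel h2))

/-- The normaliser of a self-centralising cyclic group is solvable. -/
theorem solvable_normalizer_cyclic {G : Type*} [Group G] (C : Subgroup G) [hC : IsCyclic C]
    (hself : Subgroup.centralizer (C : Set G) ≤ C) :
    Group.IsSolvable (Subgroup.normalizer (C : Set G)) := by
  letI : CommGroup C := IsCyclic.commGroup
  letI : CommGroup (MulAut C) :=
    (IsCyclic.mulAutMulEquiv (G := C)).toMonoidHom.commGroupOfInjective (IsCyclic.mulAutMulEquiv (G := C)).injective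
  haveI : Group.IsSolvable C := isSolvable_of_comm mul_comm
  haveI : Group.IsSolvable (MulAut C) := isSolvable_of_comm mul_comm
  refine solvable_of_ker_le_range (Subgroup.inclusion (Subgroup.le_normalizer (H := C))) C.normalizerMonoidHom ?_
  rw [Subgroup.normalizerMonoidHom_ker]
  intro x hx
  have h1 : (x : G) ∈ C := hself (Subgroup.mem_subgroupOf.mp hx)
  exact ⟨⟨x, h1⟩, rfl⟩

include hF hm in
theorem solvable_of_odd (M : Subgroup (Cfsg.Sz F m)) {g : Cfsg.Sz F m} (hg1 : g ≠ 1) (hg2 : ¬ 2 ∣ orderOf g)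
    (hg3 : M ≤ Subgroup.normalizer ((Subgroup.centralizer ({g} : Set (Cfsg.Sz F m)) : Subgroup (Cfsg.Sz F m)) : Set (Cfsg.Sz F m))) :
    Group.IsSolvable M := by
  haveI := (odd_block hF hm hg1 hg2).1
  refine solvable_of_le hg3 (solvable_normalizer_cyclic _ ?_)
  intro x hx
  rw [Subgroup.mem_centralizer_singleton_iff]
  have hgg : g ∈ Subgroup.centralizer ({g} : Set (Cfsg.Sz F m)) :=
    Subgroup.mem_centralizer_singleton_iff.mpr rfl
  exact (Subgroup.mem_centralizer_iff.mp hx g hgg).symm

include hF hm in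
/-- Non-solvable subgroups are subfield subgroups. -/
theorem solvable_or_subfield (M : Subgroup (Cfsg.Sz F m)) :
    Group.IsSolvable M ∨
    (∃ (k : Cfsg.Sz F m) (L : Subfield F) (b₀ b₁ : F), SubData hF hm (M.map (MulAut.conj k).toMonoidHom) L ∧
      b₀ ∈ L ∧ b₁ ∈ L ∧ b₀ ≠ 0 ∧ b₁ ≠ 0 ∧ b₀ ≠ b₁) := by
  rcases subgroup_trichotomy hF hm M with ⟨p, hp, hfix⟩ | ⟨g, hg1, hg2, hg3⟩ | h
  · exact Or.inl (solvable_of_fix hF hm M hp hfix)
  · exact Or.inl (solvable_of_odd hF hm M hg1 hg2 hg3)
  · exact Or.inr h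

/-- Subfield data determine the subgroup. -/
theorem data_unique {hF : Fintype.card F = 2 ^ (2 * m + 1)} {hm : 1 ≤ m} {M M' : Subgroup (Cfsg.Sz F m)} {L : Subfield F}
    (h : SubData hF hm M L) (h' : SubData hF hm M' L) : M ≤ M' := by
  intro g hg
  rcases h.hform g hg with ⟨a, b, t, ha, hb, ht, rfl⟩ | ⟨x, y, a, b, t, hx, hy, ha, hb, ht, rfl⟩
  · exact M'.mul_mem (h'.hu _ _ ha hb) (h'.ht _ ht)
  · exact M'.mul_mem (M'.mul_mem (h'.hu _ _ hx hy) h'.hw) (M'.mul_mem (h'.hu _ _ ha hb) (h'.ht _ ht))

/-- A subfield of the right cardinality is the root set. -/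
theorem mem_subfield_iff (L : Subfield F) {q : ℕ} (hq : 1 < q) (hL : Nat.card L = q) (x : F) :
    x ∈ L ↔ x ^ q = x := by
  classical
  haveI : Fintype L := Fintype.ofFinite _
  have hL' : Fintype.card L = q := by rw [← Nat.card_eq_fintype_card, hL]
  have hp : Polynomial.X ^ q - Polynomial.X ≠ (0 : Polynomial F) := FiniteField.X_pow_card_sub_X_ne_zero F hq
  have hdeg : (Polynomial.X ^ q - Polynomial.X : Polynomial F).natDegree = q :=
    FiniteField.X_pow_card_sub_X_natDegree_eq F hq
  have hsub : (Finset.univ.image (Subtype.val : L → F)) ⊆ (Polynomial.X ^ q - Polynomial.X : Polynomial F).roots.toFinset := by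
    intro y hy
    obtain ⟨z, -, rfl⟩ := Finset.mem_image.mp hy
    rw [Multiset.mem_toFinset, Polynomial.mem_roots hp]
    have hz : z ^ q = z := by
      rw [← hL']
      exact FiniteField.pow_card z
    have hz' : (z : F) ^ q = z := congrArg Subtype.val hz
    simp [hz']
  have hcard : (Polynomial.X ^ q - Polynomial.X : Polynomial F).roots.toFinset.card ≤ (Finset.univ.image (Subtype.val : L → F)).card := by
    rw [Finset.card_image_of_injective _ Subtype.val_injective, Finset.card_univ, hL']
    calc _ ≤ Multiset.card (Polynomial.X ^ q - Polynomial.X : Polynomial F).roots := Multiset.toFinset_card_le _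
      _ ≤ _ := Polynomial.card_roots' _
      _ = q := hdeg
  have heq := Finset.eq_of_subset_of_card_le hsub hcard
  constructor
  · intro hx
    have hz : (⟨x, hx⟩ : L) ^ q = ⟨x, hx⟩ := by
      rw [← hL']
      exact FiniteField.pow_card _
    exact congrArg Subtype.val hz
  · intro hx
    have hr : x ∈ (Polynomial.X ^ q - Polynomial.X : Polynomial F).roots.toFinset := by
      rw [Multiset.mem_toFinset, Polynomial.mem_roots hp]
      simp [hx]
    rw [← heq] at hr
    obtain ⟨z, -, rfl⟩ := Finset.mem_image.mp hr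
    exact z.2

/-- Subfields of the same cardinality coincide. -/
theorem subfield_unique {L L' : Subfield F} (h : Nat.card L = Nat.card L') : L = L' := by
  have h1 : 1 < Nat.card L := Finite.one_lt_card
  ext x
  rw [mem_subfield_iff L h1 rfl, mem_subfield_iff L' (by omega) h.symm, h]

/-- Strict monotonicity of the order formula. -/
theorem order_formula_inj {a b : ℕ} (ha : 2 ≤ a) (hb : 2 ≤ b)
    (h : a ^ 2 * (a ^ 2 + 1) * (a - 1) = b ^ 2 * (b ^ 2 + 1) * (b - 1)) : a = b := by
  have mono : ∀ {x y : ℕ}, 2 ≤ x → x < y → x ^ 2 * (x ^ 2 + 1) * (x - 1) < y ^ 2 * (y ^ 2 + 1) * (y - 1) := by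
    intro x y hx hxy
    have h1 : x ^ 2 < y ^ 2 := Nat.pow_lt_pow_left hxy two_ne_zero
    have h2 : x - 1 < y - 1 := by omega
    have h3 : 0 < x - 1 := by omega
    calc x ^ 2 * (x ^ 2 + 1) * (x - 1) < y ^ 2 * (y ^ 2 + 1) * (x - 1) := by
          apply Nat.mul_lt_mul_of_pos_right _ h3
          exact Nat.mul_lt_mul'' h1 (by omega)
      _ ≤ y ^ 2 * (y ^ 2 + 1) * (y - 1) := Nat.mul_le_mul_left _ h2.le
  rcases lt_trichotomy a b with h1 | h1 | h1
  · exact absurd h (mono ha h1).ne
  · exact h1
  · exact absurd h.symm (mono hb h1).ne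

end Cfsg.Agent.Lib.Suzuki
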