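import Cfsg.Agent.Lib.Suzuki.SubOne

/-! Subgroups of the Suzuki group with several involutions at a point: the regularity of the unipotent part. -/

set_option autoImplicit false

namespace Cfsg.Agent.Lib.Suzuki

open Finset

variable {F : Type*} [Field F] [Fintype F] {m : ℕ}
variable (hF : Fintype.card F = 2 ^ (2 * m + 1)) (hm : 1 ≤ m)
include hF hm

/-- Involutions at infinity. -/
theorem inv_at_pinf {g : Cfsg.Sz F m} (h1 : g * g = 1) (h2 : g ≠ 1) (h3 : g • pinf F = pinf F) :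
    ∃ b : F, b ≠ 0 ∧ g = uG hF 0 b := by
  obtain ⟨a, b, t, rfl⟩ := (fix_pinf_iff hF hm _).mp h3
  have ht : t = 1 := by
    have e1 : (uG hF a b * tG hF t) * (uG hF a b * tG hF t) =
        uG hF (a + (t : F) * a) (b + (t : F) ^ (2 ^ (m + 1) + 1) * b + a ^ (2 ^ (m + 1)) * ((t : F) * a)) * tG hF (t * t) := by
      rw [mul_assoc, ← mul_assoc (tG hF t), tG_uG hF hm, mul_assoc, tG_mul, ← mul_assoc, uG_mul]
    rw [e1] at h1
    have e2 : uG hF (a + (t : F) * a) (b + (t : F) ^ (2 ^ (m + 1) + 1) * b + a ^ (2 ^ (m + 1)) * ((t : F) * a)) * tG hF (t * t) =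
        uG hF (0 : F) 0 * tG hF 1 := by
      rw [h1, uG_zero hF hm, tG_one, one_mul]
    have e3 := (UT_injG hF hm e2).2.2
    apply Units.ext
    have := congrArg Units.val e3
    simp only [Units.val_mul, Units.val_one] at this
    exact sq_one_char2 (two_zero hF) (by rw [pow_two]; exact this)
  subst ht
  rw [tG_one, mul_one] at h1 h2 ⊢
  have ha : a = 0 := (sq_one_iff hF hm a b).mp h1
  subst ha
  refine ⟨b, ?_, rfl⟩
  rintro rfl
  exact h2 (uG_zero hF hm)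

/-- The regularity of the unipotent part: the main count. -/
theorem regular (M : Subgroup (Cfsg.Sz F m)) (hw : wG hF hm ∈ M)
    (hΔ : ∀ τ ∈ M, τ * τ = 1 → τ ≠ 1 → ∃ k ∈ M, τ • (k • pinf F) = k • pinf F)
    {b₀ b₁ : F} (hb₀ : uG hF 0 b₀ ∈ M) (hb₁ : uG hF 0 b₁ ∈ M) (hb₀0 : b₀ ≠ 0) (hb₁0 : b₁ ≠ 0) (hb₀₁ : b₀ ≠ b₁)
    {g : Cfsg.Sz F m} (hg : g ∈ M) {a b : F} (hgp : g • pinf F = pt m a b) : uG hF a b ∈ M := by
  classical
  haveI := finite_Sz hF hm
  haveI : Fintype (Cfsg.Sz F m) := Fintype.ofFinite _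
  have hA := ax_Sz hF hm
  let x₀ : Cfsg.suzukiOvoid F m := ⟨pinf F, pinf_mem⟩
  have hΔ' : ∀ τ ∈ M, τ * τ = 1 → τ ≠ 1 → ∃ k ∈ M, τ • (k • x₀) = k • x₀ := by
    intro τ h1 h2 h3
    obtain ⟨k, hk, hf⟩ := hΔ τ h1 h2 h3
    exact ⟨k, hk, Subtype.ext hf⟩
  -- the involution at infinity
  have hq1 : uG hF (0 : F) b₀ ≠ 1 := by
    rw [← uG_zero hF hm]
    intro e
    exact hb₀0 (uG_inj hF e).2
  have hτ : uG hF (0 : F) b₀ * uG hF (0 : F) b₀ = 1 := (sq_one_iff hF hm 0 b₀).mpr rfl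
  have hτx : uG hF (0 : F) b₀ • x₀ = x₀ := Subtype.ext (uG_smul_pinf hF 0 b₀)
  -- sets
  let Inv0 : Finset F := univ.filter (fun b => b ≠ 0 ∧ uG hF 0 b ∈ M)
  have hInv : Nat.card {g : Cfsg.Sz F m // g ∈ M ∧ g * g = 1 ∧ g ≠ 1 ∧ g • x₀ = x₀} = Inv0.card := by
    rw [Nat.card_eq_fintype_card, Fintype.card_subtype]
    symm
    apply Finset.card_bij (fun b _ => uG hF 0 b)
    · intro b hb
      obtain ⟨-, h1, h2⟩ := mem_filter.mp hb
      refine mem_filter.mpr ⟨mem_univ _, h2, (sq_one_iff hF hm 0 b).mpr rfl, ?_, Subtype.ext (uG_smul_pinf hF 0 b)⟩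
      rw [← uG_zero hF hm]
      intro e
      exact h1 (uG_inj hF e).2
    · intro x _ y _ h
      exact (uG_inj hF h).2
    · intro g' hg'
      obtain ⟨-, h1, h2, h3, h4⟩ := mem_filter.mp hg'
      obtain ⟨c, hc, rfl⟩ := inv_at_pinf hF hm h2 h3 (congrArg Subtype.val h4)
      exact ⟨c, mem_filter.mpr ⟨mem_univ _, hc, h1⟩, rfl⟩
  have hi2 : 2 ≤ Inv0.card := by
    apply Finset.one_lt_card.mpr
    exact ⟨b₀, mem_filter.mpr ⟨mem_univ _, hb₀0, hb₀⟩, b₁, mem_filter.mpr ⟨mem_univ _, hb₁0, hb₁⟩, hb₀₁⟩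
  let MF : Finset (Cfsg.Sz F m) := univ.filter (· ∈ M)
  let D : Finset (Cfsg.suzukiOvoid F m) := MF.image (fun k => k • x₀)
  have hD : ∀ x, x ∈ D ↔ ∃ k ∈ M, k • x₀ = x := by
    intro x
    simp [D, MF]
  let E := D.erase x₀
  let St : Cfsg.suzukiOvoid F m → Finset (Cfsg.Sz F m) := fun x => univ.filter (fun g => g ∈ M ∧ g • x₀ = x₀ ∧ g • x = x)
  have hSt : ∀ x ∈ E, (St x).card = Inv0.card := by
    intro x hx
    obtain ⟨hne, hxD⟩ := mem_erase.mp hx
    obtain ⟨k, hk, rfl⟩ := (hD x).mp hxD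
    have h1 := ZT.stab_card' hA M x₀ hΔ' hb₀ hτ hq1 hτx hk hne
    rw [hInv, Nat.card_eq_fintype_card, Fintype.card_subtype] at h1
    convert h1
  let H : Finset (Cfsg.Sz F m) := univ.filter (fun g => g ∈ M ∧ g • pinf F = pinf F)
  let S : Finset (Cfsg.Sz F m) := univ.filter (fun g => g ∈ M ∧ g ∈ UU hF hm)
  have hSH : S ⊆ H := by
    intro u hu
    obtain ⟨-, h1, h2⟩ := mem_filter.mp hu
    exact mem_filter.mpr ⟨mem_univ _, h1, UU_le_BB hF hm h2⟩
  have hSpos : 0 < S.card := Finset.card_pos.mpr ⟨1, mem_filter.mpr ⟨mem_univ _, M.one_mem, Subgroup.one_mem _⟩⟩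
  -- the torus part
  let τf : Cfsg.Sz F m → Fˣ := fun g => if h : g ∈ BB F m then rho hF hm ⟨g, h⟩ else 1
  have hτf : ∀ (a b : F) (t : Fˣ), τf (uG hF a b * tG hF t) = t := by
    intro a b t
    have hmem : uG hF a b * tG hF t ∈ BB F m := (BB F m).mul_mem (uG_mem_BB hF hm a b) (tG_mem_BB hF hm t)
    simp only [τf, dif_pos hmem]
    exact rhoFun_eq hF hm rfl
  -- the fibres of the torus part
  have hfib : ∀ t ∈ H.image τf, (H.filter (fun g => τf g = t)).card ≤ S.card := by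
    intro t ht
    obtain ⟨g₀, hg₀, rfl⟩ := Finset.mem_image.mp ht
    obtain ⟨-, h1, h2⟩ := mem_filter.mp hg₀
    apply Finset.card_le_card_of_injOn (fun g => g₀⁻¹ * g)
    · intro g' hg'
      obtain ⟨h3, h4⟩ := mem_filter.mp (Finset.mem_coe.mp hg')
      obtain ⟨-, h5, h6⟩ := mem_filter.mp h3
      refine Finset.mem_coe.mpr (mem_filter.mpr ⟨mem_univ _, M.mul_mem (M.inv_mem h1) h5, ?_⟩)
      obtain ⟨a₀, b₀', t₀, e₀⟩ := (fix_pinf_iff hF hm _).mp h2
      obtain ⟨a₁, b₁', t₁, e₁⟩ := (fix_pinf_iff hF hm _).mp h6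
      rw [e₀, e₁, hτf, hτf] at h4
      subst h4
      rw [e₀, e₁]
      have e : (uG hF a₀ b₀' * tG hF t₁)⁻¹ * (uG hF a₁ b₁' * tG hF t₁) =
          tG hF t₁⁻¹ * ((uG hF a₀ b₀')⁻¹ * uG hF a₁ b₁') * (tG hF t₁⁻¹)⁻¹ := by
        rw [← tG_inv hF]
        group
      show (uG hF a₀ b₀' * tG hF t₁)⁻¹ * (uG hF a₁ b₁' * tG hF t₁) ∈ UU hF hm
      rw [e]
      apply conj_mem_UU hF hm (tG_mem_BB hF hm t₁⁻¹)
      exact Subgroup.mul_mem _ (Subgroup.inv_mem _ (uG_mem hF hm _ _)) (uG_mem hF hm _ _)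
    · intro x _ y _ he
      exact mul_left_cancel he
  have hH1 := Finset.card_le_mul_card_image H S.card hfib
  -- the torus part acts freely on involutions
  have hKle : (H.image τf).card ≤ Inv0.card := by
    apply Finset.card_le_card_of_injOn (fun t : Fˣ => (t : F) ^ (2 ^ (m + 1) + 1) * b₀)
    · intro t ht
      obtain ⟨g', hg', rfl⟩ := Finset.mem_image.mp (Finset.mem_coe.mp ht)
      obtain ⟨-, h1, h2⟩ := mem_filter.mp hg'
      obtain ⟨e, f, t', e₀⟩ := (fix_pinf_iff hF hm _).mp h2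
      rw [e₀, hτf]
      rw [e₀] at h1
      have hconj := conj_BB hF hm e f t' 0 b₀
      have hmem : uG hF 0 ((t' : F) ^ (2 ^ (m + 1) + 1) * b₀) ∈ M := by
        have := M.mul_mem (M.mul_mem h1 hb₀) (M.inv_mem h1)
        rw [hconj] at this
        have hz : (0 : F) ^ (2 ^ (m + 1)) = 0 := sg_zero
        simpa [hz] using this
      refine Finset.mem_coe.mpr (mem_filter.mpr ⟨mem_univ _, ?_, hmem⟩)
      exact mul_ne_zero (pow_ne_zero _ t'.ne_zero) hb₀0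
    · intro s _ t _ he
      have e1 := mul_right_cancel₀ hb₀0 he
      exact Units.ext (sg1_inj hF s.ne_zero t.ne_zero e1)
  have hHle : H.card ≤ S.card * Inv0.card := hH1.trans (Nat.mul_le_mul_left _ hKle)
  -- the lower bound
  have hx1 : (⟨pt m (0 : F) 0, pt_mem _ _⟩ : Cfsg.suzukiOvoid F m) = wG hF hm • x₀ := Subtype.ext (wG_smul_pinf hF hm).symm
  have hx1E : (⟨pt m (0 : F) 0, pt_mem _ _⟩ : Cfsg.suzukiOvoid F m) ∈ E := by
    refine mem_erase.mpr ⟨?_, (hD _).mpr ⟨wG hF hm, hw, hx1.symm⟩⟩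
    intro e
    exact pt_ne_pinf (m := m) (0 : F) 0 (congrArg Subtype.val e)
  let UE : Finset (Cfsg.Sz F m) := E.biUnion (fun x => (St x).erase 1)
  have h1mem : ∀ x, (1 : Cfsg.Sz F m) ∈ St x := fun x =>
    mem_filter.mpr ⟨mem_univ _, M.one_mem, one_smul _ _, one_smul _ _⟩
  have hUE : UE.card = E.card * (Inv0.card - 1) := by
    rw [Finset.card_biUnion]
    · rw [Finset.sum_congr rfl (g := fun _ => Inv0.card - 1), Finset.sum_const, smul_eq_mul]
      intro x hx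
      rw [Finset.card_erase_of_mem (h1mem x), hSt x hx]
    · intro x hx x' hx' hne
      show Disjoint _ _
      rw [Finset.disjoint_left]
      intro g' hg' hg''
      obtain ⟨h1, h2⟩ := mem_erase.mp hg'
      obtain ⟨-, -, h3, h4⟩ := mem_filter.mp h2
      obtain ⟨-, h5⟩ := mem_erase.mp hg''
      obtain ⟨-, -, -, h6⟩ := mem_filter.mp h5
      exact h1 (hA.three (mem_erase.mp hx).1.symm hne (mem_erase.mp hx').1.symm h3 h4 h6)
  have hUEsub : UE ⊆ H \ S := by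
    intro g' hg'
    obtain ⟨x, hx, h⟩ := Finset.mem_biUnion.mp hg'
    obtain ⟨h1, h2⟩ := mem_erase.mp h
    obtain ⟨-, h3, h4, h5⟩ := mem_filter.mp h2
    refine mem_sdiff.mpr ⟨mem_filter.mpr ⟨mem_univ _, h3, congrArg Subtype.val h4⟩, ?_⟩
    intro hS
    obtain ⟨-, -, h6⟩ := mem_filter.mp hS
    rcases (mem_ovoid _).mp x.2 with h7 | ⟨a', b', h7⟩
    · exact (mem_erase.mp hx).1 (Subtype.ext h7)
    · have h8 : g' • (x : Projectivization F (Fin 4 → F)) = x := congrArg Subtype.val h5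
      rw [h7] at h8
      exact uG_fix_pt hF hm h6 h1 h8
  have hbound : E.card * (Inv0.card - 1) ≤ S.card * (Inv0.card - 1) := by
    rw [← hUE]
    refine (Finset.card_le_card hUEsub).trans ?_
    rw [Finset.card_sdiff_of_subset hSH]
    obtain ⟨n, hn⟩ : ∃ n, Inv0.card = n + 1 := ⟨Inv0.card - 1, by omega⟩
    rw [hn] at hHle ⊢
    simp only [Nat.add_sub_cancel]
    rw [mul_add, mul_one] at hHle
    omega
  have hEle : E.card ≤ S.card := Nat.le_of_mul_le_mul_right hbound (by omega)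
  -- the map from `S` to `E`
  have hSE : S.image (fun u => u • (⟨pt m (0 : F) 0, pt_mem _ _⟩ : Cfsg.suzukiOvoid F m)) = E := by
    apply Finset.eq_of_subset_of_card_le
    · intro x hx
      obtain ⟨u, hu, rfl⟩ := Finset.mem_image.mp hx
      obtain ⟨-, h1, ⟨a', b', rfl⟩⟩ := mem_filter.mp hu
      refine mem_erase.mpr ⟨?_, (hD _).mpr ⟨uG hF a' b' * wG hF hm, M.mul_mem h1 hw, ?_⟩⟩
      · intro e
        have := congrArg Subtype.val e
        have h3 : uG hF a' b' • pt m (0 : F) 0 = pinf F := this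
        rw [uG_smul_pt_zero hF] at h3
        exact pt_ne_pinf _ _ h3
      · rw [mul_smul, ← hx1]
    · rw [Finset.card_image_of_injOn]
      · exact hEle
      · intro u hu u' hu' he
        obtain ⟨-, -, ⟨a', b', rfl⟩⟩ := mem_filter.mp (Finset.mem_coe.mp hu)
        obtain ⟨-, -, ⟨a'', b'', rfl⟩⟩ := mem_filter.mp (Finset.mem_coe.mp hu')
        have h3 := congrArg Subtype.val he
        have h4 : uG hF a' b' • pt m (0 : F) 0 = uG hF a'' b'' • pt m (0 : F) 0 := h3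
        rw [uG_smul_pt_zero hF, uG_smul_pt_zero hF] at h4
        obtain ⟨h5, h6⟩ := pt_inj h4
        rw [h5, h6]
  -- conclusion
  have hxE : (⟨pt m a b, pt_mem _ _⟩ : Cfsg.suzukiOvoid F m) ∈ E := by
    refine mem_erase.mpr ⟨?_, (hD _).mpr ⟨g, hg, Subtype.ext hgp⟩⟩
    intro e
    exact pt_ne_pinf (m := m) a b (congrArg Subtype.val e)
  rw [← hSE] at hxE
  obtain ⟨u, hu, he⟩ := Finset.mem_image.mp hxE
  obtain ⟨-, h1, ⟨a', b', rfl⟩⟩ := mem_filter.mp hu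
  have h3 : uG hF a' b' • pt m (0 : F) 0 = pt m a b := congrArg Subtype.val he
  rw [uG_smul_pt_zero hF] at h3
  obtain ⟨h5, h6⟩ := pt_inj h3
  rw [← h5, ← h6]
  exact h1

end Cfsg.Agent.Lib.Suzuki
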