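import Cfsg.Agent.Lib.Suzuki.Zass

/-! The Sylow 2-subgroups of the Suzuki group. -/

set_option autoImplicit false

namespace Cfsg.Agent.Lib.Suzuki

open Matrix
open scoped Pointwise commutatorElement

variable {F : Type*} [Field F] [Fintype F] {m : ℕ}
variable (hF : Fintype.card F = 2 ^ (2 * m + 1)) (hm : 1 ≤ m)

/-- The unipotent subgroup. -/
def UU : Subgroup (Cfsg.Sz F m) where
  carrier := {g | ∃ a b : F, g = uG hF a b}
  mul_mem' := by
    rintro _ _ ⟨a, b, rfl⟩ ⟨c, d, rfl⟩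
    exact ⟨_, _, uG_mul hF a b c d⟩
  one_mem' := ⟨0, 0, (uG_zero hF hm).symm⟩
  inv_mem' := by
    rintro _ ⟨a, b, rfl⟩
    exact ⟨_, _, uG_inv hF hm a b⟩

omit [Fintype F] in
theorem mem_UU_aux {F : Type*} [Field F] [Fintype F] {m : ℕ} (hF : Fintype.card F = 2 ^ (2 * m + 1)) (hm : 1 ≤ m)
    {g : Cfsg.Sz F m} : g ∈ UU hF hm ↔ ∃ a b : F, g = uG hF a b := Iff.rfl

include hF hm

theorem mem_UU {g : Cfsg.Sz F m} : g ∈ UU hF hm ↔ ∃ a b : F, g = uG hF a b := Iff.rfl

theorem uG_mem (a b : F) : uG hF a b ∈ UU hF hm := ⟨a, b, rfl⟩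

/-- The parametrisation of the unipotent subgroup. -/
noncomputable def uuEquiv : F × F ≃ UU hF hm :=
  Equiv.ofBijective (fun p => ⟨uG hF p.1 p.2, uG_mem hF hm _ _⟩)
    (by
      constructor
      · rintro ⟨a, b⟩ ⟨c, d⟩ h
        obtain ⟨rfl, rfl⟩ := uG_inj hF (congrArg Subtype.val h)
        rfl
      · rintro ⟨_, a, b, rfl⟩
        exact ⟨(a, b), rfl⟩)

theorem card_UU : Nat.card (UU hF hm) = (2 ^ (2 * m + 1)) ^ 2 := by
  rw [← Nat.card_congr (uuEquiv hF hm), Nat.card_prod, Nat.card_eq_fintype_card, hF]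
  ring

theorem isPGroup_UU : IsPGroup 2 (UU hF hm) := by
  rintro ⟨_, a, b, rfl⟩
  refine ⟨2, ?_⟩
  apply Subtype.ext
  show uG hF a b ^ (2 ^ 2) = 1
  exact uG_pow_four hF hm a b

theorem index_UU : (UU hF hm).index = ((2 ^ (2 * m + 1)) ^ 2 + 1) * (2 ^ (2 * m + 1) - 1) := by
  have h1 := Subgroup.card_mul_index (UU hF hm)
  rw [card_UU hF hm, card_Sz hF hm, mul_assoc] at h1
  exact Nat.eq_of_mul_eq_mul_left (by positivity) h1

theorem odd_index_UU : ¬ 2 ∣ (UU hF hm).index := by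
  rw [index_UU hF hm]
  have h3 : 2 ^ 3 ≤ 2 ^ (2 * m + 1) := Nat.pow_le_pow_right (by norm_num) (by omega)
  have h2 : 2 ∣ 2 ^ (2 * m + 1) := dvd_pow_self 2 (by omega)
  obtain ⟨c, hc⟩ := h2
  have h4 : ¬ 2 ∣ (2 ^ (2 * m + 1)) ^ 2 + 1 := by
    rw [hc]
    intro h
    have : (2 * c) ^ 2 + 1 = 2 * (2 * c * c) + 1 := by ring
    omega
  have h5 : ¬ 2 ∣ 2 ^ (2 * m + 1) - 1 := by
    rw [hc]
    omega
  intro h
  rcases (Nat.Prime.dvd_mul Nat.prime_two).mp h with h | h
  · exact h4 h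
  · exact h5 h

instance factTwo : Fact (Nat.Prime 2) := ⟨Nat.prime_two⟩

/-- The standard Sylow 2-subgroup. -/
noncomputable def UUs : Sylow 2 (Cfsg.Sz F m) := (isPGroup_UU hF hm).toSylow (odd_index_UU hF hm)

theorem exists_conj (P : Sylow 2 (Cfsg.Sz F m)) :
    ∃ k : Cfsg.Sz F m, ∀ x, x ∈ (P : Subgroup (Cfsg.Sz F m)) ↔ k⁻¹ * x * k ∈ UU hF hm := by
  haveI := finite_Sz hF hm
  obtain ⟨k, hk⟩ := MulAction.exists_smul_eq (Cfsg.Sz F m) (UUs hF hm) P
  refine ⟨k, fun x => ?_⟩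
  rw [← hk, Sylow.coe_subgroup_smul, Subgroup.mem_pointwise_smul_iff_inv_smul_mem]
  show (MulAut.conj k)⁻¹ x ∈ (UUs hF hm : Subgroup (Cfsg.Sz F m)) ↔ _
  rw [MulAut.conj_inv_apply]
  exact Iff.rfl

/-- Conjugation within the unipotent group. -/
theorem uG_conj (e f a b : F) :
    uG hF e f * uG hF a b * (uG hF e f)⁻¹ =
      uG hF a (b + e ^ (2 ^ (m + 1)) * a + a ^ (2 ^ (m + 1)) * e) := by
  have h2 := two_zero hF
  rw [uG_inv hF hm, uG_mul hF, uG_mul hF, sg_add hF]
  congr 1 <;> grind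

/-- Conjugation by the torus. -/
theorem tG_conj (t : Fˣ) (a b : F) :
    tG hF t * uG hF a b * (tG hF t)⁻¹ = uG hF ((t : F) * a) ((t : F) ^ (2 ^ (m + 1) + 1) * b) := by
  rw [tG_uG hF hm, mul_assoc, mul_inv_cancel, mul_one]

/-- Conjugation by an element of the stabiliser. -/
theorem conj_BB (e f : F) (t : Fˣ) (a b : F) :
    (uG hF e f * tG hF t) * uG hF a b * (uG hF e f * tG hF t)⁻¹ =
      uG hF ((t : F) * a) ((t : F) ^ (2 ^ (m + 1) + 1) * b + e ^ (2 ^ (m + 1)) * ((t : F) * a) +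
        ((t : F) * a) ^ (2 ^ (m + 1)) * e) := by
  have : (uG hF e f * tG hF t) * uG hF a b * (uG hF e f * tG hF t)⁻¹ =
      uG hF e f * (tG hF t * uG hF a b * (tG hF t)⁻¹) * (uG hF e f)⁻¹ := by group
  rw [this, tG_conj hF hm, uG_conj hF hm]

theorem uG_fix {a b x y : F} (h : uG hF a b • pt m x y = pt m x y) : a = 0 ∧ b = 0 := by
  have h2 := two_zero hF
  rw [uG_smul_pt hF] at h
  obtain ⟨h1, h3⟩ := pt_inj h
  have ha : a = 0 := by grind
  subst ha
  refine ⟨rfl, ?_⟩
  rw [sg_zero] at h3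
  grind

theorem uG_fix_pt {g : Cfsg.Sz F m} (hg : g ∈ UU hF hm) (hg1 : g ≠ 1) {x y : F} :
    g • pt m x y ≠ pt m x y := by
  obtain ⟨a, b, rfl⟩ := hg
  intro h
  obtain ⟨rfl, rfl⟩ := uG_fix hF hm h
  exact hg1 (uG_zero hF hm)

theorem UU_le_BB : UU hF hm ≤ BB F m := by
  rintro _ ⟨a, b, rfl⟩
  rw [MulAction.mem_stabilizer_iff]
  exact uG_smul_pinf hF a b

theorem conj_mem_UU {g x : Cfsg.Sz F m} (hg : g ∈ BB F m) (hx : x ∈ UU hF hm) :
    g * x * g⁻¹ ∈ UU hF hm := by
  obtain ⟨e, f, t, rfl⟩ := (fix_pinf_iff hF hm g).mp hg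
  obtain ⟨a, b, rfl⟩ := hx
  rw [conj_BB hF hm]
  exact uG_mem hF hm _ _

/-- The normaliser of the unipotent group is the point stabiliser. -/
theorem normalizer_UU : Subgroup.normalizer (UU hF hm : Set (Cfsg.Sz F m)) = BB F m := by
  apply le_antisymm
  · intro g hg
    rw [Subgroup.mem_normalizer_iff] at hg
    rw [MulAction.mem_stabilizer_iff]
    have hmem := smul_mem_ovoid hF g (pinf_mem (m := m))
    rcases (mem_ovoid _).mp hmem with h4 | ⟨x, y, h4⟩
    · exact h4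
    · exfalso
      have h5 : g⁻¹ * uG hF 1 0 * g ∈ UU hF hm := by
        have h6 := (hg (g⁻¹ * uG hF 1 0 * g)).mpr (by
          have : g * (g⁻¹ * uG hF 1 0 * g) * g⁻¹ = uG hF 1 0 := by group
          rw [this]
          exact uG_mem hF hm _ _)
        exact h6
      have h7 : uG hF 1 0 • (g • pinf F) = g • pinf F := by
        have : uG hF 1 0 • (g • pinf F) = g • ((g⁻¹ * uG hF 1 0 * g) • pinf F) := by
          simp only [mul_smul, smul_inv_smul]
        rw [this, (MulAction.mem_stabilizer_iff.mp (UU_le_BB hF hm h5))]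
      rw [h4] at h7
      exact one_ne_zero (uG_fix hF hm h7).1
  · intro g hg
    rw [Subgroup.mem_normalizer_iff]
    intro x
    constructor
    · exact conj_mem_UU hF hm hg
    · intro h
      have := conj_mem_UU hF hm ((BB F m).inv_mem hg) h
      have e : g⁻¹ * (g * x * g⁻¹) * g⁻¹⁻¹ = x := by group
      rwa [e] at this

theorem wG_not_mem_BB : wG hF hm ∉ BB F m := by
  rw [MulAction.mem_stabilizer_iff, wG_smul_pinf hF hm]
  exact pt_ne_pinf _ _

theorem tG_mem_BB (t : Fˣ) : tG hF t ∈ BB F m := by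
  rw [MulAction.mem_stabilizer_iff]
  exact tG_smul_pinf hF t

theorem uG_mem_BB (a b : F) : uG hF a b ∈ BB F m := UU_le_BB hF hm (uG_mem hF hm a b)

/-- An overgroup of the stabiliser containing the Weyl element is everything. -/
theorem top_of_wG {M : Subgroup (Cfsg.Sz F m)} (h1 : BB F m ≤ M) (h2 : wG hF hm ∈ M) : M = ⊤ := by
  rw [eq_top_iff]
  intro g _
  rcases bruhatG hF hm g with ⟨a, b, t, e⟩ | ⟨x, y, a, b, t, e⟩
  · rw [e]
    exact M.mul_mem (h1 (uG_mem_BB hF hm _ _)) (h1 (tG_mem_BB hF hm _))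
  · rw [e]
    exact M.mul_mem (M.mul_mem (h1 (uG_mem_BB hF hm _ _)) h2)
      (M.mul_mem (h1 (uG_mem_BB hF hm _ _)) (h1 (tG_mem_BB hF hm _)))

/-- The point stabiliser is maximal. -/
theorem coatom_BB : IsCoatom (BB F m) := by
  constructor
  · intro h
    apply wG_not_mem_BB hF hm
    rw [h]
    exact Subgroup.mem_top _
  · intro M hM
    obtain ⟨hle, g, hg, hgn⟩ := SetLike.lt_iff_le_and_exists.mp hM
    apply top_of_wG hF hm hle
    rcases bruhatG hF hm g with ⟨a, b, t, e⟩ | ⟨x, y, a, b, t, e⟩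
    · exact absurd (by
        rw [e]
        exact (BB F m).mul_mem (uG_mem_BB hF hm _ _) (tG_mem_BB hF hm _)) hgn
    · have : wG hF hm = (uG hF x y)⁻¹ * g * (uG hF a b * tG hF t)⁻¹ := by
        rw [e]
        group
      rw [this]
      exact M.mul_mem (M.mul_mem (M.inv_mem (hle (uG_mem_BB hF hm _ _))) hg)
        (M.inv_mem (M.mul_mem (hle (uG_mem_BB hF hm _ _)) (hle (tG_mem_BB hF hm _))))

/-- `BB` is the only maximal subgroup containing `UU`. -/
theorem coatom_unique {M : Subgroup (Cfsg.Sz F m)} (hM : IsCoatom M) (hU : UU hF hm ≤ M) : M = BB F m := by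
  by_cases hle : M ≤ BB F m
  · by_contra hne
    have hlt : M < BB F m := lt_of_le_of_ne hle hne
    exact (coatom_BB hF hm).1 (hM.2 _ hlt)
  exfalso
  obtain ⟨g, hg, hgn⟩ := SetLike.not_le_iff_exists.mp hle
  -- the normal closure argument
  rcases bruhatG hF hm g with ⟨a, b, t, e⟩ | ⟨x, y, a, b, t, e⟩
  · exact hgn (by
      rw [e]
      exact (BB F m).mul_mem (uG_mem_BB hF hm _ _) (tG_mem_BB hF hm _))
  -- the element `w t` lies in `M`
  have hwt : wG hF hm * tG hF t ∈ M := by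
    have : wG hF hm * tG hF t = (uG hF x y)⁻¹ * g * (tG hF t)⁻¹ * (uG hF a b)⁻¹ * tG hF t := by
      rw [e]
      group
    have h1 : (tG hF t)⁻¹ * (uG hF a b)⁻¹ * tG hF t ∈ M := by
      apply hU
      have := conj_mem_UU hF hm ((BB F m).inv_mem (tG_mem_BB hF hm t)) ((UU hF hm).inv_mem (uG_mem hF hm a b))
      simpa using this
    rw [this, mul_assoc _ (tG hF t)⁻¹, mul_assoc _ ((tG hF t)⁻¹ * _)]
    exact M.mul_mem (M.mul_mem (M.inv_mem (hU (uG_mem hF hm _ _))) hg) h1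
  -- `L = ⟨U, U^w⟩` is normal, hence everything
  let L : Subgroup (Cfsg.Sz F m) := UU hF hm ⊔ (UU hF hm).map (MulAut.conj (wG hF hm)).toMonoidHom
  have hLM : L ≤ M := by
    apply sup_le hU
    rintro _ ⟨u, hu, rfl⟩
    have h3 : (wG hF hm * tG hF t) * ((tG hF t)⁻¹ * u * tG hF t) * (wG hF hm * tG hF t)⁻¹ ∈ M :=
      M.mul_mem (M.mul_mem hwt (hU (by
        have := conj_mem_UU hF hm ((BB F m).inv_mem (tG_mem_BB hF hm t)) hu
        simpa using this))) (M.inv_mem hwt)
    have h4 : (wG hF hm * tG hF t) * ((tG hF t)⁻¹ * u * tG hF t) * (wG hF hm * tG hF t)⁻¹ =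
        MulAut.conj (wG hF hm) u := by
      rw [MulAut.conj_apply]
      group
    rwa [h4] at h3
  have hLnormal : L.Normal := by
    -- the normaliser of `L` contains `U`, `T` and `w`
    have hmemN : ∀ g' : Cfsg.Sz F m, (∀ x ∈ L, g' * x * g'⁻¹ ∈ L) → (∀ x ∈ L, g'⁻¹ * x * g' ∈ L) →
        g' ∈ Subgroup.normalizer (L : Set (Cfsg.Sz F m)) := by
      intro g' h1 h2
      rw [Subgroup.mem_normalizer_iff]
      intro x
      refine ⟨h1 x, fun hx => ?_⟩
      have := h2 _ hx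
      have e : g'⁻¹ * (g' * x * g'⁻¹) * g' = x := by group
      rwa [e] at this
    have hsup : ∀ g' : Cfsg.Sz F m, (∀ x ∈ UU hF hm, g' * x * g'⁻¹ ∈ L) →
        (∀ x ∈ UU hF hm, g' * (wG hF hm * x * (wG hF hm)⁻¹) * g'⁻¹ ∈ L) → ∀ x ∈ L, g' * x * g'⁻¹ ∈ L := by
      intro g' h1 h2 x hx
      have : L ≤ L.comap (MulAut.conj g').toMonoidHom := by
        apply sup_le
        · intro y hy
          exact h1 y hy
        · rintro _ ⟨u, hu, rfl⟩
          exact h2 u hu
      exact this hx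
    have hUL : UU hF hm ≤ L := le_sup_left
    have hWL : ∀ u ∈ UU hF hm, wG hF hm * u * (wG hF hm)⁻¹ ∈ L := fun u hu =>
      (le_sup_right : (UU hF hm).map (MulAut.conj (wG hF hm)).toMonoidHom ≤ L) ⟨u, hu, rfl⟩
    have htw : ∀ t : Fˣ, tG hF t * wG hF hm = wG hF hm * tG hF t⁻¹ := by
      intro t
      have h1 := wG_tG_wG hF hm t
      have h3 := wG_sq hF hm
      calc tG hF t * wG hF hm = wG hF hm * wG hF hm * tG hF t * wG hF hm := by rw [h3, one_mul]
        _ = wG hF hm * (wG hF hm * tG hF t * wG hF hm) := by group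
        _ = _ := by rw [h1]
    have hT1 : ∀ t : Fˣ, ∀ x ∈ L, tG hF t * x * (tG hF t)⁻¹ ∈ L := by
      intro t
      apply hsup
      · intro x hx
        exact hUL (conj_mem_UU hF hm (tG_mem_BB hF hm t) hx)
      · intro x hx
        have e1 : tG hF t * (wG hF hm * x * (wG hF hm)⁻¹) * (tG hF t)⁻¹ =
            wG hF hm * (tG hF t⁻¹ * x * (tG hF t⁻¹)⁻¹) * (wG hF hm)⁻¹ := by
          have h1 : (tG hF t)⁻¹ = (tG hF t⁻¹) := tG_inv hF t
          have h2 : tG hF t * wG hF hm = wG hF hm * tG hF t⁻¹ := htw t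
          have h3 : (wG hF hm)⁻¹ * (tG hF t)⁻¹ = (tG hF t⁻¹)⁻¹ * (wG hF hm)⁻¹ := by
            rw [← _root_.mul_inv_rev, h2, _root_.mul_inv_rev]
          calc tG hF t * (wG hF hm * x * (wG hF hm)⁻¹) * (tG hF t)⁻¹
              = (tG hF t * wG hF hm) * x * ((wG hF hm)⁻¹ * (tG hF t)⁻¹) := by group
            _ = _ := by rw [h2, h3]; group
        rw [e1]
        exact hWL _ (conj_mem_UU hF hm (tG_mem_BB hF hm t⁻¹) hx)
    have hTN : ∀ t : Fˣ, tG hF t ∈ Subgroup.normalizer (L : Set (Cfsg.Sz F m)) := by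
      intro t
      apply hmemN _ (hT1 t)
      intro x hx
      have := hT1 t⁻¹ x hx
      rw [tG_inv hF, inv_inv] at this
      rwa [tG_inv hF]
    have hLN : L ≤ Subgroup.normalizer (L : Set (Cfsg.Sz F m)) := Subgroup.le_normalizer
    have hN : Subgroup.normalizer (L : Set (Cfsg.Sz F m)) = ⊤ := by
      have hBB : BB F m ≤ Subgroup.normalizer (L : Set (Cfsg.Sz F m)) := by
        intro g' hg'
        obtain ⟨e, f, t, rfl⟩ := (fix_pinf_iff hF hm g').mp hg'
        exact Subgroup.mul_mem _ (hLN (hUL (uG_mem hF hm _ _))) (hTN t)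
      have hw : wG hF hm ∈ Subgroup.normalizer (L : Set (Cfsg.Sz F m)) := by
        have hw1 : ∀ x ∈ L, wG hF hm * x * (wG hF hm)⁻¹ ∈ L := by
          apply hsup
          · exact hWL
          · intro x hx
            have e1 : wG hF hm * (wG hF hm * x * (wG hF hm)⁻¹) * (wG hF hm)⁻¹ = x := by
              have h3 := wG_sq hF hm
              calc wG hF hm * (wG hF hm * x * (wG hF hm)⁻¹) * (wG hF hm)⁻¹
                  = (wG hF hm * wG hF hm) * x * (wG hF hm * wG hF hm)⁻¹ := by group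
                _ = x := by rw [h3]; group
            rw [e1]
            exact hUL hx
        apply hmemN _ hw1
        rw [wG_inv hF hm]
        rw [wG_inv hF hm] at hw1
        simpa using hw1
      exact top_of_wG hF hm hBB hw
    exact Subgroup.normalizer_eq_top_iff.mp hN
  have hLbot : L ≠ ⊥ := by
    intro h
    have h1 : uG hF 1 0 ∈ L := (le_sup_left : UU hF hm ≤ L) (uG_mem hF hm _ _)
    rw [h, Subgroup.mem_bot, ← uG_zero hF hm] at h1
    exact one_ne_zero (uG_inj hF h1).1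
  have hLtop : L = ⊤ := ((simple hF hm).eq_bot_or_eq_top_of_normal L hLnormal).resolve_left hLbot
  rw [hLtop] at hLM
  exact hM.1 (top_le_iff.mp hLM)

/-! ### Real elements -/

theorem sq_one_iff (a b : F) : uG hF a b * uG hF a b = 1 ↔ a = 0 := by
  rw [uG_sq hF, ← uG_zero hF hm]
  constructor
  · intro h
    have h3 := (uG_inj hF h).2
    by_contra hne
    exact (mul_ne_zero (pow_ne_zero _ hne) hne) h3
  · rintro rfl
    rw [sg_zero, zero_mul]

omit hm in
theorem no_root_z (z : F) : z ^ (2 ^ (m + 1)) + z ≠ 1 := by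
  have h2 := two_zero hF
  intro h
  have h3 : z ^ (2 ^ (m + 1)) = z + 1 := by grind
  have h4 : (z ^ (2 ^ (m + 1))) ^ (2 ^ (m + 1)) = z := by
    rw [h3, sg_add hF, sg_one, h3]
    grind
  rw [sg_sg hF] at h4
  have h5 : z = 0 ∨ z = 1 := by
    have : z * (z - 1) = 0 := by grind
    rcases mul_eq_zero.mp this with h6 | h6
    · exact Or.inl h6
    · exact Or.inr (sub_eq_zero.mp h6)
  rcases h5 with rfl | rfl
  · rw [sg_zero] at h
    simp at h
  · rw [sg_one] at h
    grind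

theorem real_UU {x : Cfsg.Sz F m} (hx : x ∈ UU hF hm) (hx1 : x ≠ 1) :
    IsConj x x⁻¹ ↔ orderOf x = 2 := by
  have h2 := two_zero hF
  obtain ⟨a, b, rfl⟩ := hx
  by_cases ha : a = 0
  · subst ha
    have hx2 : uG hF 0 b * uG hF 0 b = 1 := (sq_one_iff hF hm 0 b).mpr rfl
    have h1 : orderOf (uG hF 0 b) = 2 := by
      apply orderOf_eq_prime
      · rw [sq, hx2]
      · exact hx1
    refine ⟨fun _ => h1, fun _ => ?_⟩
    have : (uG hF 0 b)⁻¹ = uG hF 0 b := (mul_eq_one_iff_eq_inv.mp hx2).symm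
    rw [this]
  · constructor
    · intro h
      exfalso
      obtain ⟨c, hc⟩ := isConj_iff.mp h
      -- `c` fixes infinity
      have hfix : c ∈ BB F m := by
        rw [MulAction.mem_stabilizer_iff]
        have hmem := smul_mem_ovoid hF c (pinf_mem (m := m))
        rcases (mem_ovoid _).mp hmem with h4 | ⟨x, y, h4⟩
        · exact h4
        · exfalso
          have h7 : (uG hF a b)⁻¹ • (c • pinf F) = c • pinf F := by
            rw [← hc]
            simp only [mul_smul, inv_smul_smul, uG_smul_pinf hF]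
          rw [h4, uG_inv hF hm] at h7
          exact ha (uG_fix hF hm h7).1
      obtain ⟨e, f, t, rfl⟩ := (fix_pinf_iff hF hm c).mp hfix
      rw [conj_BB hF hm, uG_inv hF hm] at hc
      obtain ⟨h3, h4⟩ := uG_inj hF hc
      have ht : (t : F) = 1 := mul_right_cancel₀ ha (by rw [h3, one_mul])
      rw [ht] at h4
      simp only [one_pow, one_mul] at h4
      -- the equation `z^σ + z = 1`
      have hs : a ^ (2 ^ (m + 1)) * a ≠ 0 := mul_ne_zero (pow_ne_zero _ ha) ha
      apply no_root_z hF (e / a)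
      apply mul_right_cancel₀ hs
      rw [div_pow]
      have hsa : a ^ (2 ^ (m + 1)) ≠ 0 := pow_ne_zero _ ha
      field_simp
      grind
    · intro h
      exfalso
      have h3 : uG hF a b * uG hF a b = 1 := by
        rw [← sq, ← h]
        exact pow_orderOf_eq_one _
      exact ha ((sq_one_iff hF hm a b).mp h3)

/-! ### Centre and commutator subgroup of the unipotent group -/

/-- The centre of `U`, as a subgroup of the Suzuki group. -/
def ZZ : Subgroup (Cfsg.Sz F m) where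
  carrier := {g | ∃ b : F, g = uG hF 0 b}
  mul_mem' := by
    rintro _ _ ⟨a, rfl⟩ ⟨c, rfl⟩
    refine ⟨a + c, ?_⟩
    rw [uG_mul hF, sg_zero]
    congr 1
    · ring
    · ring
  one_mem' := ⟨0, (uG_zero hF hm).symm⟩
  inv_mem' := by
    rintro _ ⟨a, rfl⟩
    refine ⟨a, ?_⟩
    rw [uG_inv hF hm, sg_zero]
    congr 1
    ring

theorem mem_ZZ {g : Cfsg.Sz F m} : g ∈ ZZ hF hm ↔ ∃ b : F, g = uG hF 0 b := Iff.rfl

theorem ZZ_le_UU : ZZ hF hm ≤ UU hF hm := by
  rintro _ ⟨b, rfl⟩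
  exact uG_mem hF hm _ _

/-- The parametrisation of the centre. -/
noncomputable def zzEquiv : F ≃ ZZ hF hm :=
  Equiv.ofBijective (fun b => ⟨uG hF 0 b, ⟨b, rfl⟩⟩)
    (by
      constructor
      · intro a b h
        exact (uG_inj hF (congrArg Subtype.val h)).2
      · rintro ⟨_, a, rfl⟩
        exact ⟨a, rfl⟩)

theorem card_ZZ : Nat.card (ZZ hF hm) = 2 ^ (2 * m + 1) := by
  rw [← Nat.card_congr (zzEquiv hF hm), Nat.card_eq_fintype_card, hF]

theorem commutator_form (a b c d : F) :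
    uG hF a b * uG hF c d * (uG hF a b)⁻¹ * (uG hF c d)⁻¹ =
      uG hF 0 (a ^ (2 ^ (m + 1)) * c + c ^ (2 ^ (m + 1)) * a) := by
  have h2 := two_zero hF
  rw [uG_conj hF hm, uG_inv hF hm, uG_mul hF]
  congr 1 <;> grind

/-- There is an element of the field with `t ≠ t^σ`. -/
theorem exists_not_fixed : ∃ z : F, z ^ (2 ^ (m + 1)) + z ≠ 0 := by
  have h2 := two_zero hF
  by_contra hcon
  push Not at hcon
  have h3 : ∀ z : F, z = 0 ∨ z = 1 := by
    intro z
    apply sg_fix hF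
    have := hcon z
    grind
  have h4 : Fintype.card F ≤ 2 := by
    classical
    have : (Finset.univ : Finset F) ⊆ {0, 1} := by
      intro z _
      rcases h3 z with rfl | rfl <;> simp
    calc Fintype.card F = (Finset.univ : Finset F).card := rfl
      _ ≤ ({0, 1} : Finset F).card := Finset.card_le_card this
      _ ≤ 2 := Finset.card_le_two
  have h5 : 2 ^ 3 ≤ 2 ^ (2 * m + 1) := Nat.pow_le_pow_right (by norm_num) (by omega)
  omega

/-- Every central element is a commutator. -/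
theorem central_is_commutator (e : F) :
    ∃ a c : F, a ^ (2 ^ (m + 1)) * c + c ^ (2 ^ (m + 1)) * a = e := by
  have h2 := two_zero hF
  by_cases he : e = 0
  · exact ⟨0, 0, by simp [he, sg_zero]⟩
  obtain ⟨z, hz⟩ := exists_not_fixed hF hm
  obtain ⟨a, ha, hae⟩ := sg1_surj hF (z := e / (z ^ (2 ^ (m + 1)) + z)) (div_ne_zero he hz)
  refine ⟨a, a * z, ?_⟩
  have e1 : a ^ (2 ^ (m + 1)) * (a * z) + (a * z) ^ (2 ^ (m + 1)) * a =
      a ^ (2 ^ (m + 1) + 1) * (z ^ (2 ^ (m + 1)) + z) := by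
    rw [mul_pow, pow_succ]
    ring
  rw [e1, hae]
  field_simp

theorem uG_commute_iff (a b : F) :
    (∀ c d : F, uG hF a b * uG hF c d = uG hF c d * uG hF a b) ↔ a = 0 := by
  have h2 := two_zero hF
  constructor
  · intro h
    by_contra ha
    obtain ⟨z, hz⟩ := exists_not_fixed hF hm
    have h1 := h (a * z) 0
    rw [uG_mul hF, uG_mul hF] at h1
    have h3 := (uG_inj hF h1).2
    apply hz
    have h4 : a ^ (2 ^ (m + 1)) * a * (z ^ (2 ^ (m + 1)) + z) = 0 := by
      rw [mul_pow] at h3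
      grind
    exact (mul_eq_zero.mp h4).resolve_left (mul_ne_zero (pow_ne_zero _ ha) ha)
  · rintro rfl c d
    rw [uG_mul hF, uG_mul hF, sg_zero]
    congr 1
    · ring
    · ring

/-- The centre of `UU`. -/
theorem center_UU : Subgroup.center (UU hF hm) = (ZZ hF hm).comap (UU hF hm).subtype := by
  ext ⟨x, hx⟩
  rw [Subgroup.mem_center_iff, Subgroup.mem_comap]
  obtain ⟨a, b, rfl⟩ := hx
  constructor
  · intro h
    have ha : a = 0 := by
      apply (uG_commute_iff hF hm a b).mp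
      intro c d
      have := h ⟨uG hF c d, uG_mem hF hm c d⟩
      exact (congrArg Subtype.val this).symm
    subst ha
    exact ⟨b, rfl⟩
  · rintro ⟨b', hb'⟩
    have hb'' : uG hF a b = uG hF 0 b' := hb'
    have ha : a = 0 := (uG_inj hF hb'').1
    subst ha
    rintro ⟨_, c, d, rfl⟩
    apply Subtype.ext
    exact ((uG_commute_iff hF hm 0 b).mpr rfl c d).symm

/-- The commutator subgroup of `UU`. -/
theorem commutator_UU : commutator (UU hF hm) = (ZZ hF hm).comap (UU hF hm).subtype := by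
  apply le_antisymm
  · rw [commutator_def, Subgroup.commutator_le]
    rintro ⟨_, a, b, rfl⟩ - ⟨_, c, d, rfl⟩ -
    rw [Subgroup.mem_comap]
    show uG hF a b * uG hF c d * (uG hF a b)⁻¹ * (uG hF c d)⁻¹ ∈ ZZ hF hm
    rw [commutator_form hF hm]
    exact ⟨_, rfl⟩
  · rintro ⟨x, hx⟩ ⟨e, he⟩
    have he' : x = uG hF 0 e := he
    subst he'
    obtain ⟨a, c, hac⟩ := central_is_commutator hF hm e
    have h1 := Subgroup.commutator_mem_commutator (Subgroup.mem_top (⟨uG hF a 0, uG_mem hF hm a 0⟩ : UU hF hm))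
      (Subgroup.mem_top (⟨uG hF c 0, uG_mem hF hm c 0⟩ : UU hF hm))
    have h3 : ⁅(⟨uG hF a 0, uG_mem hF hm a 0⟩ : UU hF hm), (⟨uG hF c 0, uG_mem hF hm c 0⟩ : UU hF hm)⁆ =
        ⟨uG hF 0 e, hx⟩ := by
      apply Subtype.ext
      show uG hF a 0 * uG hF c 0 * (uG hF a 0)⁻¹ * (uG hF c 0)⁻¹ = uG hF 0 e
      rw [commutator_form hF hm, hac]
    rw [h3] at h1
    exact h1

/-- The structure of the standard Sylow subgroup. -/
theorem exponent_UU : Monoid.exponent (UU hF hm) = 4 := by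
  apply Nat.dvd_antisymm
  · apply Monoid.exponent_dvd_of_forall_pow_eq_one
    rintro ⟨_, a, b, rfl⟩
    apply Subtype.ext
    exact uG_pow_four hF hm a b
  · have h1 : orderOf (⟨uG hF 1 0, uG_mem hF hm 1 0⟩ : UU hF hm) = 2 ^ (1 + 1) := by
      apply orderOf_eq_prime_pow
      · intro h
        have h3 : uG hF 1 0 * uG hF 1 0 = 1 := by
          have := congrArg Subtype.val h
          rw [pow_one, sq] at this
          exact this
        exact one_ne_zero ((sq_one_iff hF hm 1 0).mp h3)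
      · apply Subtype.ext
        exact uG_pow_four hF hm 1 0
    have h2 := Monoid.order_dvd_exponent (⟨uG hF 1 0, uG_mem hF hm 1 0⟩ : UU hF hm)
    rw [h1] at h2
    exact h2

end Cfsg.Agent.Lib.Suzuki
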