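import Cfsg.Agent.Lib.Suzuki.Orders

/-! Elements of orders `q ± σ + 1` in the Suzuki group and basic properties of their centralisers. -/

set_option autoImplicit false

namespace Cfsg.Agent.Lib.Suzuki

open Polynomial Matrix

section arith

/-- `q + σ + 1` and `q - σ + 1` are odd and multiply to `q² + 1`. -/
theorem pm_mul (m : ℕ) :
    (2 ^ (2 * m + 1) + 2 ^ (m + 1) + 1) * (2 ^ (2 * m + 1) - 2 ^ (m + 1) + 1) = (2 ^ (2 * m + 1)) ^ 2 + 1 := by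
  have hles : 2 ^ (m + 1) ≤ 2 ^ (2 * m + 1) := Nat.pow_le_pow_right (by norm_num) (by omega)
  zify [hles]
  ring

theorem pm_coprime (m : ℕ) :
    Nat.Coprime (2 ^ (2 * m + 1) + 2 ^ (m + 1) + 1) (2 ^ (2 * m + 1) - 2 ^ (m + 1) + 1) := by
  have hles : 2 ^ (m + 1) ≤ 2 ^ (2 * m + 1) := Nat.pow_le_pow_right (by norm_num) (by omega)
  have hodd : ¬ 2 ∣ (2 ^ (2 * m + 1) + 2 ^ (m + 1) + 1) := fun h =>
    odd_qq (m := m) (h.trans ⟨_, (pm_mul m).symm⟩)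
  have h1 : Nat.gcd (2 ^ (2 * m + 1) + 2 ^ (m + 1) + 1) (2 ^ (2 * m + 1) - 2 ^ (m + 1) + 1) ∣ 2 ^ (m + 2) := by
    have h2 := Nat.gcd_dvd_left (2 ^ (2 * m + 1) + 2 ^ (m + 1) + 1) (2 ^ (2 * m + 1) - 2 ^ (m + 1) + 1)
    have h3 := Nat.gcd_dvd_right (2 ^ (2 * m + 1) + 2 ^ (m + 1) + 1) (2 ^ (2 * m + 1) - 2 ^ (m + 1) + 1)
    have h4 : 2 ^ (m + 2) = (2 ^ (2 * m + 1) + 2 ^ (m + 1) + 1) - (2 ^ (2 * m + 1) - 2 ^ (m + 1) + 1) := by
      have e : 2 ^ (m + 2) = 2 * 2 ^ (m + 1) := by ring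
      omega
    rw [h4]
    exact Nat.dvd_sub h2 h3
  have hco : Nat.Coprime (2 ^ (2 * m + 1) + 2 ^ (m + 1) + 1) (2 ^ (m + 2)) :=
    Nat.Coprime.pow_right _ ((Nat.Prime.coprime_iff_not_dvd Nat.prime_two).mpr hodd).symm
  exact Nat.Coprime.eq_one_of_dvd (Nat.Coprime.coprime_dvd_left (Nat.gcd_dvd_left _ _) hco) h1

theorem am_gt (m : ℕ) (hm : 1 ≤ m) : 1 < 2 ^ (2 * m + 1) - 2 ^ (m + 1) + 1 := by
  have : 2 ^ (m + 1) < 2 ^ (2 * m + 1) := Nat.pow_lt_pow_right (by norm_num) (by omega)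
  omega

theorem am_lt_ap (m : ℕ) : 2 ^ (2 * m + 1) - 2 ^ (m + 1) + 1 < 2 ^ (2 * m + 1) + 2 ^ (m + 1) + 1 := by
  have h : 0 < 2 ^ (m + 1) := by positivity
  have hles : 2 ^ (m + 1) ≤ 2 ^ (2 * m + 1) := Nat.pow_le_pow_right (by norm_num) (by omega)
  omega

end arith

variable {F : Type*} [Field F] [Fintype F] {m : ℕ}
variable {E : Type*} [Field E] [Algebra F E]
variable (hF : Fintype.card F = 2 ^ (2 * m + 1)) (hm : 1 ≤ m)

section
include hF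

/-- A fixed point of the `q`-power map comes from `F`. -/
theorem exists_of_pow_card {z : E} (h : z ^ 2 ^ (2 * m + 1) = z) : ∃ t : F, algebraMap F E t = z := by
  classical
  have hq : 1 < 2 ^ (2 * m + 1) := Nat.one_lt_two_pow (by omega)
  let S : Finset E := Finset.univ.image (algebraMap F E)
  let P : E[X] := X ^ (2 ^ (2 * m + 1)) - X
  have hP : P ≠ 0 := FiniteField.X_pow_card_sub_X_ne_zero E hq
  have hcard : S.card = 2 ^ (2 * m + 1) := by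
    rw [Finset.card_image_of_injective _ (algebraMap F E).injective, Finset.card_univ, hF]
  have hsub : S ⊆ P.roots.toFinset := by
    intro y hy
    obtain ⟨t, -, rfl⟩ := Finset.mem_image.mp hy
    rw [Multiset.mem_toFinset, Polynomial.mem_roots hP]
    simp only [P, IsRoot, eval_sub, eval_pow, eval_X]
    rw [map_pow_card hF, sub_self]
  have hle : P.roots.toFinset.card ≤ S.card := by
    rw [hcard]
    refine (Multiset.toFinset_card_le _).trans ((Polynomial.card_roots' P).trans ?_)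
    exact (FiniteField.X_pow_card_sub_X_natDegree_eq E hq).le
  have heq := Finset.eq_of_subset_of_card_le hsub hle
  have hz : z ∈ P.roots.toFinset := by
    rw [Multiset.mem_toFinset, Polynomial.mem_roots hP]
    simp only [P, IsRoot, eval_sub, eval_pow, eval_X]
    rw [h, sub_self]
  rw [← heq] at hz
  obtain ⟨t, -, rfl⟩ := Finset.mem_image.mp hz
  exact ⟨t, rfl⟩

end

omit [Fintype F] in
theorem trG_conj (k g : Cfsg.Sz F m) : trG (k * g * k⁻¹) = trG g := by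
  show Matrix.trace ((((k * g * k⁻¹ : Cfsg.Sz F m) : Matrix.SpecialLinearGroup (Fin 4) F)).1) = _
  have e : (((k * g * k⁻¹ : Cfsg.Sz F m) : Matrix.SpecialLinearGroup (Fin 4) F)).1 =
      (k : Matrix.SpecialLinearGroup (Fin 4) F).1 * ((g : Matrix.SpecialLinearGroup (Fin 4) F).1 *
        ((k⁻¹ : Cfsg.Sz F m) : Matrix.SpecialLinearGroup (Fin 4) F).1) := by
    rw [mul_assoc]
    rfl
  rw [e, Matrix.trace_mul_comm, mul_assoc]
  have e2 : ((k⁻¹ : Cfsg.Sz F m) : Matrix.SpecialLinearGroup (Fin 4) F).1 * (k : Matrix.SpecialLinearGroup (Fin 4) F).1 = 1 := by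
    have : ((k⁻¹ * k : Cfsg.Sz F m) : Matrix.SpecialLinearGroup (Fin 4) F).1 = 1 := by
      rw [inv_mul_cancel]
      rfl
    exact this
  rw [e2, mul_one]
  rfl

include hF hm

/-- The trace is surjective. -/
theorem exists_trG (t : F) : ∃ g : Cfsg.Sz F m, trG g = t := by
  obtain ⟨b, hb⟩ := sg_surj hF t
  refine ⟨uG hF 0 b * wG hF hm, ?_⟩
  show Matrix.trace (Um m (0 : F) b * Wm F) = t
  rw [← hb]
  have h0 : (0 : F) ^ (2 ^ (m + 1)) = 0 := zero_pow (by positivity)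
  simp [Matrix.trace, Matrix.mul_apply, Fin.sum_univ_four, Um, Wm, h0]

omit hm in
/-- A relation on the eigenvalue gives the trace relations. -/
theorem trace_of_root {l : E} (hl0 : l ≠ 0) (hq : l ^ ((2 ^ (2 * m + 1)) ^ 2 + 1) = 1)
    (hs : l ^ 2 ^ (m + 1) = (l * l ^ 2 ^ (2 * m + 1))⁻¹ ∨ l ^ 2 ^ (m + 1) = l * l ^ 2 ^ (2 * m + 1)) :
    ∃ t : F, algebraMap F E t = (l + l⁻¹) + (l ^ 2 ^ (2 * m + 1) + (l ^ 2 ^ (2 * m + 1))⁻¹) ∧
      (algebraMap F E t) ^ 2 ^ (m + 1) = (l + l⁻¹) * (l ^ 2 ^ (2 * m + 1) + (l ^ 2 ^ (2 * m + 1))⁻¹) := by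
  have h2 : (2 : E) = 0 := h2E hF
  set Q := l ^ 2 ^ (2 * m + 1) with hQ
  have hQ0 : Q ≠ 0 := pow_ne_zero _ hl0
  have hQq : Q ^ 2 ^ (2 * m + 1) = l⁻¹ := by
    rw [hQ, ← pow_mul, ← pow_two]
    apply eq_inv_of_mul_eq_one_left
    rw [← pow_succ]
    exact hq
  have ht : ((l + l⁻¹) + (Q + Q⁻¹)) ^ 2 ^ (2 * m + 1) = (l + l⁻¹) + (Q + Q⁻¹) := by
    rw [pw2_add h2, pw2_add h2, pw2_add h2, inv_pow, inv_pow, ← hQ, hQq, inv_inv]
    ring
  obtain ⟨t, ht⟩ := exists_of_pow_card hF ht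
  refine ⟨t, ht, ?_⟩
  rw [ht, pw2_add h2, pw2_add h2, pw2_add h2, inv_pow, inv_pow]
  have hQs : Q ^ 2 ^ (m + 1) = (l ^ 2 ^ (m + 1)) ^ 2 ^ (2 * m + 1) := by
    rw [hQ, pow_right_comm]
  rw [hQs]
  rcases hs with hs | hs
  · rw [hs, inv_pow, mul_pow, ← hQ, hQq]
    field_simp
    grind
  · rw [hs, mul_pow, ← hQ, hQq]
    field_simp
    grind

omit hm in
/-- The quartic vanishes. -/
theorem PE_of_trace {l : E} (hl0 : l ≠ 0) {t : F}
    (h1 : algebraMap F E t = (l + l⁻¹) + (l ^ 2 ^ (2 * m + 1) + (l ^ 2 ^ (2 * m + 1))⁻¹))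
    (h3 : (algebraMap F E t) ^ 2 ^ (m + 1) = (l + l⁻¹) * (l ^ 2 ^ (2 * m + 1) + (l ^ 2 ^ (2 * m + 1))⁻¹)) :
    PE m t l = 0 := by
  have h2 : (2 : E) = 0 := h2E hF
  have hQ0 : l ^ 2 ^ (2 * m + 1) ≠ 0 := pow_ne_zero _ hl0
  have e := quartic_factor h2 (z := l) (mul_inv_cancel₀ hl0) (mul_inv_cancel₀ hQ0)
  rw [← h1, ← h3] at e
  rw [PE, e]
  have : l + l = 0 := by grind
  rw [this]
  simp

/-- An element realising a root of unity as an eigenvalue. -/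
theorem exists_of_root [IsAlgClosed E] {l : E} {a : ℕ} (hl : IsPrimitiveRoot l a) (ha : 1 < a)
    (hdvd : a ∣ (2 ^ (2 * m + 1)) ^ 2 + 1)
    (hs : l ^ 2 ^ (m + 1) = (l * l ^ 2 ^ (2 * m + 1))⁻¹ ∨ l ^ 2 ^ (m + 1) = l * l ^ 2 ^ (2 * m + 1)) :
    ∃ g : Cfsg.Sz F m, Der g ∧ a ∣ orderOf g := by
  haveI := finite_Sz hF hm
  have hl0 : l ≠ 0 := hl.ne_zero (by omega)
  have hq : l ^ ((2 ^ (2 * m + 1)) ^ 2 + 1) = 1 := by
    obtain ⟨c, hc⟩ := hdvd
    rw [hc, pow_mul, hl.pow_eq_one, one_pow]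
  obtain ⟨t, h1, h3⟩ := trace_of_root hF hl0 hq hs
  obtain ⟨g, rfl⟩ := exists_trG hF hm t
  have hp := PE_of_trace hF hl0 h1 h3
  obtain ⟨v, hv, h⟩ := eigenvector_of_root hF hm hp
  have hpow : ∀ {n : ℕ}, g ^ n = 1 → a ∣ n := by
    intro n hn
    exact hl.dvd_of_pow_eq_one _ (eig_pow_eq_one hF hm hv h hn)
  refine ⟨g, ?_, hpow (pow_orderOf_eq_one g)⟩
  intro p hp hfix
  have hodd : ¬ 2 ∣ a := fun h => odd_qq (h.trans hdvd)
  have h4 : ¬ g ^ 4 = 1 := by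
    intro e
    have h5 := hpow e
    have h6 : a ∣ 2 ^ 2 := by simpa using h5
    have hco : Nat.Coprime a (2 ^ 2) :=
      Nat.Coprime.pow_right 2 ((Nat.Prime.coprime_iff_not_dvd Nat.prime_two).mpr hodd).symm
    have := Nat.Coprime.eq_one_of_dvd hco h6
    omega
  have hq1 : 1 ≤ 2 ^ (2 * m + 1) := Nat.one_le_two_pow
  obtain ⟨k, hk | hk⟩ := trichotomy hF hm hp hfix
  · obtain ⟨x, y, hxy⟩ := hk
    apply h4
    have e1 : (k * g * k⁻¹) ^ 4 = 1 := by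
      rw [hxy]
      exact uG_pow_four hF hm x y
    rw [conj_pow, mul_inv_eq_one] at e1
    have := mul_left_cancel (e1.trans (mul_one k).symm)
    exact this
  · obtain ⟨s, hs'⟩ := hk
    have e1 : (k * g * k⁻¹) ^ (2 ^ (2 * m + 1) - 1) = 1 := by
      rw [hs']
      have e2 : (tG hF s) ^ (2 ^ (2 * m + 1) - 1) = tG hF (s ^ (2 ^ (2 * m + 1) - 1)) := by
        induction (2 ^ (2 * m + 1) - 1) with
        | zero => simp [tG_one]
        | succ n ih => rw [pow_succ, ih, tG_mul, pow_succ]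
      rw [e2]
      have e3 : s ^ (2 ^ (2 * m + 1) - 1) = 1 := by
        have := FiniteField.pow_card_sub_one_eq_one (s : F) s.ne_zero
        rw [hF] at this
        exact Units.ext (by simpa using this)
      rw [e3, tG_one]
    rw [conj_pow, mul_inv_eq_one] at e1
    have e2 : g ^ (2 ^ (2 * m + 1) - 1) = 1 := mul_left_cancel (e1.trans (mul_one k).symm)
    have h5 := hpow e2
    have h6 : a ∣ 2 ^ 1 := by
      have h7 : (2 ^ (2 * m + 1)) ^ 2 + 1 = (2 ^ (2 * m + 1) - 1) * (2 ^ (2 * m + 1) + 1) + 2 := by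
        zify [hq1]
        ring
      rw [h7] at hdvd
      have := (Nat.dvd_add_right (Dvd.dvd.mul_right h5 _)).mp hdvd
      simpa using this
    have hco : Nat.Coprime a (2 ^ 1) :=
      Nat.Coprime.pow_right 1 ((Nat.Prime.coprime_iff_not_dvd Nat.prime_two).mpr hodd).symm
    have := Nat.Coprime.eq_one_of_dvd hco h6
    omega

omit hF hm [Algebra F E] in
theorem exists_primitive_of_odd {a : ℕ} [IsAlgClosed E] (h2 : (2 : E) = 0) (ha : ¬ 2 ∣ a) :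
    ∃ l : E, IsPrimitiveRoot l a := by
  have hne : NeZero (a : E) := by
    refine ⟨?_⟩
    intro h
    obtain ⟨c, hc⟩ : ∃ c, a = 2 * c + 1 := by
      obtain ⟨c, hc⟩ := Nat.odd_iff.mpr (Nat.mod_two_ne_zero.mp (fun e => ha (Nat.dvd_of_mod_eq_zero e)))
      exact ⟨c, hc⟩
    rw [hc] at h
    push_cast at h
    rw [h2] at h
    simp at h
  exact HasEnoughRootsOfUnity.exists_primitiveRoot E a

/-- An element of order `q + σ + 1`. -/
theorem exists_order_plus : ∃ x : Cfsg.Sz F m, Der x ∧ orderOf x = 2 ^ (2 * m + 1) + 2 ^ (m + 1) + 1 := by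
  let E := AlgebraicClosure F
  have h2 : (2 : E) = 0 := h2E hF
  have hdvd : 2 ^ (2 * m + 1) + 2 ^ (m + 1) + 1 ∣ (2 ^ (2 * m + 1)) ^ 2 + 1 := ⟨_, (pm_mul m).symm⟩
  have hodd : ¬ 2 ∣ 2 ^ (2 * m + 1) + 2 ^ (m + 1) + 1 := fun h => odd_qq (m := m) (h.trans hdvd)
  obtain ⟨l, hl⟩ := exists_primitive_of_odd h2 hodd
  have hl0 : l ≠ 0 := hl.ne_zero (by positivity)
  have h1 : 1 < 2 ^ (2 * m + 1) + 2 ^ (m + 1) + 1 := by
    have : 0 < 2 ^ (m + 1) := by positivity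
    omega
  have hs : l ^ 2 ^ (m + 1) = (l * l ^ 2 ^ (2 * m + 1))⁻¹ := by
    apply eq_inv_of_mul_eq_one_left
    have := hl.pow_eq_one
    rw [← this]
    ring
  obtain ⟨g, hg, hdv⟩ := exists_of_root hF hm hl h1 hdvd (Or.inl hs)
  refine ⟨g, hg, ?_⟩
  rcases der_order_dvd hF hm hg with h3 | h3
  · exact Nat.dvd_antisymm h3 hdv
  · exfalso
    have := Nat.le_of_dvd (by omega) (hdv.trans h3)
    have := am_lt_ap m
    omega

/-- An element of order `q - σ + 1`. -/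
theorem exists_order_minus : ∃ x : Cfsg.Sz F m, Der x ∧ orderOf x = 2 ^ (2 * m + 1) - 2 ^ (m + 1) + 1 := by
  let E := AlgebraicClosure F
  have h2 : (2 : E) = 0 := h2E hF
  have hdvd : 2 ^ (2 * m + 1) - 2 ^ (m + 1) + 1 ∣ (2 ^ (2 * m + 1)) ^ 2 + 1 := Dvd.intro_left _ (pm_mul m)
  have hodd : ¬ 2 ∣ 2 ^ (2 * m + 1) - 2 ^ (m + 1) + 1 := fun h => odd_qq (m := m) (h.trans hdvd)
  obtain ⟨l, hl⟩ := exists_primitive_of_odd h2 hodd
  have hl0 : l ≠ 0 := hl.ne_zero (by omega)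
  have h1 := am_gt m hm
  have hs : l ^ 2 ^ (m + 1) = l * l ^ 2 ^ (2 * m + 1) := by
    have h3 := hl.pow_eq_one
    have hles : 2 ^ (m + 1) ≤ 2 ^ (2 * m + 1) := Nat.pow_le_pow_right (by norm_num) (by omega)
    have e : l * l ^ 2 ^ (2 * m + 1) = l ^ (2 ^ (2 * m + 1) - 2 ^ (m + 1) + 1) * l ^ 2 ^ (m + 1) := by
      rw [← pow_add]
      have : 2 ^ (2 * m + 1) - 2 ^ (m + 1) + 1 + 2 ^ (m + 1) = 2 ^ (2 * m + 1) + 1 := by omega
      rw [this, pow_succ]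
      ring
    rw [e, h3, one_mul]
  obtain ⟨g, hg, hdv⟩ := exists_of_root hF hm hl h1 hdvd (Or.inr hs)
  refine ⟨g, hg, ?_⟩
  rcases der_order_dvd hF hm hg with h3 | h3
  · exfalso
    have h5 := hdv.trans h3
    have h6 := Nat.Coprime.eq_one_of_dvd (pm_coprime m).symm h5
    omega
  · exact Nat.dvd_antisymm h3 hdv

end Cfsg.Agent.Lib.Suzuki
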