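import Cfsg.Agent.Lib.Suzuki.Simple

/-! The Suzuki group as a Zassenhaus group; the symplectic form; the ovoid property. -/

set_option autoImplicit false

namespace Cfsg.Agent.Lib.Suzuki

open Matrix
open scoped Pointwise

variable {F : Type*} [Field F] [Fintype F] {m : ℕ}
variable (hF : Fintype.card F = 2 ^ (2 * m + 1)) (hm : 1 ≤ m)
include hF hm

theorem zassenhaus : Cfsg.IsZassenhausGroup (Cfsg.Sz F m) (Cfsg.suzukiOvoid F m) := by
  refine ⟨⟨?_⟩, two_trans hF hm, ?_, ?_, ?_⟩
  · intro g h H
    have : h⁻¹ * g = 1 := by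
      apply faithful hF hm
      intro p hp
      have := H ⟨p, hp⟩
      rw [mul_smul, inv_smul_eq_iff]
      exact congrArg Subtype.val this
    exact (inv_mul_eq_one.mp this).symm
  · rintro g ⟨a, ha⟩ ⟨b, hb⟩ ⟨c, hc⟩ hab hbc hac h1 h2 h3
    exact fix_three hF hm ha hb hc (fun e => hab (Subtype.ext e)) (fun e => hbc (Subtype.ext e))
      (fun e => hac (Subtype.ext e)) (congrArg Subtype.val h1) (congrArg Subtype.val h2)
      (congrArg Subtype.val h3)
  · obtain ⟨t, ht⟩ := exists_unit_ne_one hF hm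
    refine ⟨tG hF t, ?_, ⟨pinf F, pinf_mem⟩, ⟨pt m 0 0, pt_mem 0 0⟩, ?_, ?_, ?_⟩
    · intro h
      rw [← tG_one hF] at h
      exact ht (tG_inj hF h)
    · intro e
      exact (pt_ne_pinf _ _) (congrArg Subtype.val e).symm
    · exact Subtype.ext (tG_smul_pinf hF t)
    · exact Subtype.ext (tG_smul_pt_zero hF t)
  · intro N hN htr
    have hN1 : N ≠ ⊥ := by
      rintro rfl
      obtain ⟨⟨n, hn⟩, hn2⟩ := htr.exists_smul_eq (⟨pinf F, pinf_mem⟩ : Cfsg.suzukiOvoid F m)
        ⟨pt m 0 0, pt_mem 0 0⟩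
      have hn1 : n = 1 := hn
      subst hn1
      have := congrArg Subtype.val hn2
      exact (pt_ne_pinf _ _) (Eq.symm (by simpa using this))
    have hNt : N = ⊤ := ((simple hF hm).eq_bot_or_eq_top_of_normal N hN).resolve_left hN1
    subst hNt
    refine ⟨⟨pinf F, pinf_mem⟩, ?_⟩
    intro h
    have h1 : (⟨uG hF 1 0, Subgroup.mem_top _⟩ : (⊤ : Subgroup (Cfsg.Sz F m))) ∈
        MulAction.stabilizer (⊤ : Subgroup (Cfsg.Sz F m)) (⟨pinf F, pinf_mem⟩ : Cfsg.suzukiOvoid F m) := by
      rw [MulAction.mem_stabilizer_iff]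
      exact Subtype.ext (uG_smul_pinf hF 1 0)
    rw [h, Subgroup.mem_bot] at h1
    have h2 : uG hF 1 0 = 1 := congrArg Subtype.val h1
    rw [← uG_zero hF hm] at h2
    exact one_ne_zero (uG_inj hF h2).1

/-! ### The symplectic form -/

omit hm in
theorem form_mul {g h : Matrix (Fin 4) (Fin 4) F}
    (hg : g.transpose * Cfsg.suzukiForm F * g = Cfsg.suzukiForm F)
    (hh : h.transpose * Cfsg.suzukiForm F * h = Cfsg.suzukiForm F) :
    (g * h).transpose * Cfsg.suzukiForm F * (g * h) = Cfsg.suzukiForm F := by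
  rw [Matrix.transpose_mul]
  calc h.transpose * g.transpose * Cfsg.suzukiForm F * (g * h)
      = h.transpose * (g.transpose * Cfsg.suzukiForm F * g) * h := by simp only [Matrix.mul_assoc]
    _ = _ := by rw [hg, hh]

omit hm in
theorem form_U (a b : F) :
    (Um m a b).transpose * Cfsg.suzukiForm F * Um m a b = Cfsg.suzukiForm F := by
  have h2 := two_zero hF
  have hh : a = -a := by grind
  ext i j
  fin_cases i <;> fin_cases j <;>
    simp [Um, Cfsg.suzukiForm, Matrix.mul_apply, Fin.sum_univ_four] <;> grind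

omit hF hm in
theorem form_T (t : Fˣ) :
    (Tm m (t : F)).transpose * Cfsg.suzukiForm F * Tm m (t : F) = Cfsg.suzukiForm F := by
  have h1 : (t : F) ^ (2 ^ m) ≠ 0 := pow_ne_zero _ t.ne_zero
  have h3 : (t : F) ^ (2 ^ m + 1) ≠ 0 := pow_ne_zero _ t.ne_zero
  ext i j
  fin_cases i <;> fin_cases j <;>
    simp [Tm, Cfsg.suzukiForm, Matrix.mul_apply, Fin.sum_univ_four, h1, h3]

omit hF hm in
theorem form_W : (Wm F).transpose * Cfsg.suzukiForm F * Wm F = Cfsg.suzukiForm F := by
  ext i j
  fin_cases i <;> fin_cases j <;>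
    simp [Wm, Cfsg.suzukiForm, Matrix.mul_apply, Fin.sum_univ_four]

theorem form_Sz {g : Matrix.SpecialLinearGroup (Fin 4) F} (hg : g ∈ Cfsg.Sz F m) :
    (g : Matrix (Fin 4) (Fin 4) F).transpose * Cfsg.suzukiForm F * (g : Matrix (Fin 4) (Fin 4) F) =
      Cfsg.suzukiForm F := by
  have hU := fun a b : F => form_U (m := m) hF a b
  rcases bruhatG hF hm ⟨g, hg⟩ with ⟨a, b, t, e⟩ | ⟨x, y, a, b, t, e⟩
  · have e1 : (g : Matrix (Fin 4) (Fin 4) F) = Um m a b * Tm m (t : F) := by
      have := congrArg (fun z : Cfsg.Sz F m => ((z : Matrix.SpecialLinearGroup (Fin 4) F) : Matrix (Fin 4) (Fin 4) F)) e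
      simpa [uG, tG] using this
    rw [e1]
    exact form_mul hF (hU _ _) (form_T t)
  · have e1 : (g : Matrix (Fin 4) (Fin 4) F) = Um m x y * Wm F * (Um m a b * Tm m (t : F)) := by
      have := congrArg (fun z : Cfsg.Sz F m => ((z : Matrix.SpecialLinearGroup (Fin 4) F) : Matrix (Fin 4) (Fin 4) F)) e
      simpa [uG, tG, wG] using this
    rw [e1]
    exact form_mul hF (form_mul hF (hU _ _) form_W) (form_mul hF (hU _ _) (form_T t))

/-! ### The ovoid property -/

theorem independent_ovoid (p : Fin 3 ↪ Cfsg.suzukiOvoid F m) :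
    Projectivization.Independent (fun i => (p i : Projectivization F (Fin 4 → F))) := by
  rw [Projectivization.independent_iff]
  have h01 : (p 0 : Projectivization F (Fin 4 → F)) ≠ p 1 := fun e =>
    absurd (p.injective (Subtype.ext e)) (by decide)
  have h02 : (p 0 : Projectivization F (Fin 4 → F)) ≠ p 2 := fun e =>
    absurd (p.injective (Subtype.ext e)) (by decide)
  have h12 : (p 1 : Projectivization F (Fin 4 → F)) ≠ p 2 := fun e =>
    absurd (p.injective (Subtype.ext e)) (by decide)
  obtain ⟨k, hk0, hk1⟩ := exists_to_base hF hm (p 0).2 (p 1).2 h01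
  have hmem := smul_mem_ovoid hF k (p 2).2
  rcases (mem_ovoid _).mp hmem with h4 | ⟨x, y, h4⟩
  · exfalso
    rw [← hk0] at h4
    exact h02 (MulAction.injective k h4).symm
  have hxy : ¬ (x = 0 ∧ y = 0) := by
    rintro ⟨rfl, rfl⟩
    rw [← hk1] at h4
    exact h12 (MulAction.injective k h4).symm
  set v : Fin 3 → (Fin 4 → F) := Projectivization.rep ∘ (fun i => (p i : Projectivization F (Fin 4 → F))) with hv
  -- the image vectors
  let w : Fin 3 → (Fin 4 → F) := ![![1, 0, 0, 0], ![0, 0, 0, 1], ptv m x y]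
  have hw : LinearIndependent F w := by
    rw [Fintype.linearIndependent_iff]
    intro c hc
    have h0 := congrFun hc 0
    have h1 := congrFun hc 1
    have h2 := congrFun hc 2
    have h3 := congrFun hc 3
    simp [w, Fin.sum_univ_three, ptv, ovf] at h0 h1 h2 h3
    have hc2 : c 2 = 0 := by
      by_contra hne
      have hx : x = 0 := by simpa [hne] using h2
      have hy : y = 0 := by simpa [hne] using h1
      exact hxy ⟨hx, hy⟩
    have hc1 : c 1 = 0 := by simpa [hc2] using h3
    have hc0 : c 0 = 0 := by simpa [hc2] using h0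
    intro i
    fin_cases i <;> assumption
  -- the relation between `k v i` and `w i`
  have hrel : ∀ i, ∃ a : Fˣ, a • w i = ((k : Matrix.SpecialLinearGroup (Fin 4) F) : Matrix (Fin 4) (Fin 4) F).mulVec (v i) := by
    intro i
    have hi : k • (p i : Projectivization F (Fin 4 → F)) = Projectivization.mk F (w i) (by
        fin_cases i
        · simp [w]
        · simp [w]
        · exact ptv_ne_zero x y) := by
      fin_cases i
      · exact hk0
      · exact hk1.trans (pt_zero hm).symm
      · exact h4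
    have hrep : (p i : Projectivization F (Fin 4 → F)) = Projectivization.mk F (v i) (Projectivization.rep_nonzero _) :=
      (Projectivization.mk_rep _).symm
    rw [hrep] at hi
    erw [Projectivization.smul_mk] at hi
    rw [Projectivization.mk_eq_mk_iff] at hi
    obtain ⟨a, ha⟩ := hi
    refine ⟨a, ?_⟩
    exact ha
  choose a ha using hrel
  have h5 : LinearIndependent F (fun i => ((k : Matrix.SpecialLinearGroup (Fin 4) F) : Matrix (Fin 4) (Fin 4) F).mulVec (v i)) := by
    have := hw.units_smul a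
    convert this using 1
    ext i j
    rw [← ha i]
    rfl
  exact LinearIndependent.of_comp (Matrix.mulVecLin ((k : Matrix.SpecialLinearGroup (Fin 4) F) : Matrix (Fin 4) (Fin 4) F)) h5

end Cfsg.Agent.Lib.Suzuki
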